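import Mathlib
import Cfsg.Agent.Lib.Invol.AltCover.Main

/-!
# Squares and commutators of lifts in a double cover of an alternating group
-/

set_option autoImplicit false

namespace CfsgLib.Invol.AltDoubleCover

open Equiv Equiv.Perm Subgroup
open scoped commutatorElement
open CfsgLib.Char.AltPres (gen pt pt_ne)
open CfsgLib.Invol.AltCover (disjoint_swaps exists_perm_four)

/-- A product of two disjoint transpositions. -/
def IsDT {α : Type*} [DecidableEq α] (σ : Perm α) : Prop :=
  ∃ p q u v : α, [p, q, u, v].Nodup ∧ σ = swap p q * swap u v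

section Perms

variable {α : Type*} [DecidableEq α]

theorem IsDT.mk {p q u v : α} (pq : p ≠ q) (pu : p ≠ u) (pv : p ≠ v) (qu : q ≠ u) (qv : q ≠ v) (uv : u ≠ v) :
    IsDT (swap p q * swap u v) := ⟨p, q, u, v, by simp [pq, pu, pv, qu, qv, uv], rfl⟩

theorem nodup_four {p q u v : α} (h : [p, q, u, v].Nodup) :
    p ≠ q ∧ p ≠ u ∧ p ≠ v ∧ q ≠ u ∧ q ≠ v ∧ u ≠ v := by
  simp only [List.nodup_cons, List.mem_cons, List.not_mem_nil, or_false, not_or] at h
  tauto

theorem IsDT.conj {σ : Perm α} (h : IsDT σ) (f : Perm α) : IsDT (f * σ * f⁻¹) := by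
  obtain ⟨p, q, u, v, hnd, rfl⟩ := h
  refine ⟨f p, f q, f u, f v, ?_, ?_⟩
  · simpa using List.Nodup.map f.injective hnd
  · rw [show f * (swap p q * swap u v) * f⁻¹ = (f * swap p q * f⁻¹) * (f * swap u v * f⁻¹) by group,
      ← swap_apply_apply, ← swap_apply_apply]

theorem IsDT.sign_eq [Fintype α] {σ : Perm α} (h : IsDT σ) : Perm.sign σ = 1 := by
  obtain ⟨p, q, u, v, hnd, rfl⟩ := h
  obtain ⟨pq, -, -, -, -, uv⟩ := nodup_four hnd
  rw [map_mul, Perm.sign_swap pq, Perm.sign_swap uv]; decide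

theorem IsDT.mul_self [Fintype α] {σ : Perm α} (h : IsDT σ) : σ * σ = 1 := by
  obtain ⟨p, q, u, v, hnd, rfl⟩ := h
  obtain ⟨-, pu, pv, qu, qv, -⟩ := nodup_four hnd
  have hcomm : Commute (swap p q) (swap u v) := Perm.Disjoint.commute (disjoint_swaps pu pv qu qv)
  rw [hcomm.symm.mul_mul_mul_comm, swap_mul_self, swap_mul_self, one_mul]

theorem IsDT.ne_one {σ : Perm α} (h : IsDT σ) : σ ≠ 1 := by
  obtain ⟨p, q, u, v, hnd, rfl⟩ := h
  obtain ⟨pq, pu, pv, -, -, -⟩ := nodup_four hnd
  intro e
  have h1 := congrArg (fun g : Perm α => g p) e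
  simp only [Perm.mul_apply, swap_apply_of_ne_of_ne pu pv, swap_apply_left, Perm.one_apply] at h1
  exact pq h1.symm

theorem dt_klein {p q u v : α} (h : [p, q, u, v].Nodup) :
    (swap p q * swap u v) * (swap p u * swap q v) = swap p v * swap q u := by
  obtain ⟨pq, pu, pv, qu, qv, uv⟩ := nodup_four h
  ext w
  by_cases h1 : w = p
  · subst h1; simp [Perm.mul_apply, swap_apply_of_ne_of_ne, pq, pu, pv, qu, qv, uv, pq.symm, pu.symm, pv.symm, qu.symm, qv.symm, uv.symm]
  by_cases h2 : w = q
  · subst h2; simp [Perm.mul_apply, swap_apply_of_ne_of_ne, pq, pu, pv, qu, qv, uv, pq.symm, pu.symm, pv.symm, qu.symm, qv.symm, uv.symm]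
  by_cases h3 : w = u
  · subst h3; simp [Perm.mul_apply, swap_apply_of_ne_of_ne, pq, pu, pv, qu, qv, uv, pq.symm, pu.symm, pv.symm, qu.symm, qv.symm, uv.symm]
  by_cases h4 : w = v
  · subst h4; simp [Perm.mul_apply, swap_apply_of_ne_of_ne, pq, pu, pv, qu, qv, uv, pq.symm, pu.symm, pv.symm, qu.symm, qv.symm, uv.symm]
  simp [Perm.mul_apply, swap_apply_of_ne_of_ne, h1, h2, h3, h4]

/-- Any two double transpositions are conjugate by an even permutation. -/
theorem IsDT.exists_conj [Fintype α] {σ τ : Perm α} (hσ : IsDT σ) (hτ : IsDT τ) :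
    ∃ f : Perm α, Perm.sign f = 1 ∧ f * σ * f⁻¹ = τ := by
  classical
  obtain ⟨p, q, u, v, hnd, rfl⟩ := hσ
  obtain ⟨p', q', u', v', hnd', rfl⟩ := hτ
  obtain ⟨pq, pu, pv, qu, qv, uv⟩ := nodup_four hnd
  have hinj : ∀ {a b c d : α}, [a, b, c, d].Nodup → Function.Injective ![a, b, c, d] := by
    intro a b c d h i j hij
    obtain ⟨ab, ac, ad, bc, bd, cd⟩ := nodup_four h
    fin_cases i <;> fin_cases j <;> simp_all [Ne.symm]
  obtain ⟨f, hf⟩ := exists_perm_four _ _ (hinj hnd) (hinj hnd')
  have f0 : f p = p' := hf 0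
  have f1 : f q = q' := hf 1
  have f2 : f u = u' := hf 2
  have f3 : f v = v' := hf 3
  have key : ∀ g : Perm α, g p = p' ∧ g q = q' ∨ g p = q' ∧ g q = p' → g u = u' → g v = v' →
      g * (swap p q * swap u v) * g⁻¹ = swap p' q' * swap u' v' := fun g h g2 g3 => by
    rw [show g * (swap p q * swap u v) * g⁻¹ = (g * swap p q * g⁻¹) * (g * swap u v * g⁻¹) by group,
      ← swap_apply_apply, ← swap_apply_apply, g2, g3]
    rcases h with ⟨h1, h2⟩ | ⟨h1, h2⟩
    · rw [h1, h2]
    · rw [h1, h2, swap_comm q' p']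
  rcases Int.units_eq_one_or (Perm.sign f) with hs | hs
  · exact ⟨f, hs, key f (Or.inl ⟨f0, f1⟩) f2 f3⟩
  · refine ⟨f * swap p q, by rw [map_mul, hs, Perm.sign_swap pq]; decide, key _ (Or.inr ⟨?_, ?_⟩) ?_ ?_⟩
    · rw [Perm.mul_apply, swap_apply_left, f1]
    · rw [Perm.mul_apply, swap_apply_right, f0]
    · rw [Perm.mul_apply, swap_apply_of_ne_of_ne pu.symm qu.symm, f2]
    · rw [Perm.mul_apply, swap_apply_of_ne_of_ne pv.symm qv.symm, f3]

end Perms

/-- A double cover of the alternating group of degree `n`, with the lifts of double transpositions of order four. -/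
structure Cover (C : Type*) [Group C] (n : ℕ) where
  π : C →* Perm (Fin n)
  z : C
  sgn : ∀ c, Perm.sign (π c) = 1
  lift : ∀ σ : Perm (Fin n), Perm.sign σ = 1 → ∃ c, π c = σ
  zz : z * z = 1
  z_ne : z ≠ 1
  zc : ∀ c, c * z = z * c
  ker : ∀ c, π c = 1 ↔ c = 1 ∨ c = z
  dt : ∀ c, IsDT (π c) → c * c = z

/-- The double covers of the alternating groups give covers in this sense. -/
theorem exists_cover {C : Type*} [Group C] [Finite C] {n : ℕ} (hn : 5 ≤ n)
    (h : Cfsg.IsNonsplitDoubleCover C (alternatingGroup (Fin n))) {z : C} (hz : z ∈ center C) (hz1 : z ≠ 1) :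
    ∃ D : Cover C n, D.z = z := by
  classical
  haveI : NeZero n := ⟨by omega⟩
  obtain ⟨hZ, ⟨e⟩, hns⟩ := h
  obtain ⟨z₀, hz₀, hzc, hzz, hzall⟩ := Cfsg.Agent.Lib.Spor.Spin.center_pair hZ
  obtain rfl : z = z₀ := (hzall z hz).resolve_left hz1
  set π : C →* Perm (Fin n) :=
    (alternatingGroup (Fin n)).subtype.comp (e.toMonoidHom.comp (QuotientGroup.mk' (center C))) with hπ
  have hker : ∀ c, π c = 1 ↔ c = 1 ∨ c = z := fun c => by
    rw [hπ, MonoidHom.comp_apply, map_eq_one_iff _ (alternatingGroup (Fin n)).subtype_injective, MonoidHom.comp_apply,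
      show e.toMonoidHom (QuotientGroup.mk' (center C) c) = 1 ↔ c ∈ center C from
        (map_eq_one_iff _ e.injective).trans (QuotientGroup.eq_one_iff c)]
    exact ⟨hzall c, fun h => by rcases h with rfl | rfl <;> [exact one_mem _; exact hzc]⟩
  have hlift : ∀ σ : Perm (Fin n), Perm.sign σ = 1 → ∃ c, π c = σ := fun σ hσ => by
    obtain ⟨q, hq⟩ := e.surjective ⟨σ, Perm.mem_alternatingGroup.2 hσ⟩
    obtain ⟨c, rfl⟩ := QuotientGroup.mk'_surjective (center C) q
    exact ⟨c, congrArg Subtype.val hq⟩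
  have hperf : _root_.commutator C = ⊤ := by
    haveI : IsSimpleGroup (alternatingGroup (Fin n)) := alternatingGroup.isSimpleGroup (by simpa using hn)
    have hmap : (_root_.commutator C).map (e.toMonoidHom.comp (QuotientGroup.mk' (center C))) = ⊤ := by
      have hs : Function.Surjective (e.toMonoidHom.comp (QuotientGroup.mk' (center C))) :=
        e.surjective.comp (QuotientGroup.mk'_surjective _)
      rw [_root_.commutator_def, map_commutator, Subgroup.map_top_of_surjective _ hs, ← _root_.commutator_def]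
      refine (IsSimpleGroup.eq_bot_or_eq_top_of_normal _ inferInstance).resolve_left fun hb => ?_
      have hp : (3 : ℕ) < n := by omega
      let a : alternatingGroup (Fin n) := ⟨swap (pt n 0) (pt n 1) * swap (pt n 2) (pt n 3),
        Perm.mem_alternatingGroup.2 (IsDT.mk (pt_ne (by omega) (by omega) (by omega))
          (pt_ne (by omega) (by omega) (by omega)) (pt_ne (by omega) (by omega) (by omega))
          (pt_ne (by omega) (by omega) (by omega)) (pt_ne (by omega) (by omega) (by omega))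
          (pt_ne (by omega) (by omega) (by omega))).sign_eq⟩
      let b : alternatingGroup (Fin n) := ⟨gen n 0, CfsgLib.Char.AltPres.gen_mem_alt (by omega)⟩
      have hab : ⁅b, a⁆ ∈ _root_.commutator (alternatingGroup (Fin n)) := by
        rw [_root_.commutator_def]; exact commutator_mem_commutator (mem_top _) (mem_top _)
      rw [hb, mem_bot, commutatorElement_eq_one_iff_mul_comm] at hab
      have h1 := congrArg (fun g : alternatingGroup (Fin n) => (g : Perm (Fin n)) (pt n 0)) hab
      have n01 : pt n 0 ≠ pt n 1 := pt_ne (by omega) (by omega) (by omega)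
      have n02 : pt n 0 ≠ pt n 2 := pt_ne (by omega) (by omega) (by omega)
      have n03 : pt n 0 ≠ pt n 3 := pt_ne (by omega) (by omega) (by omega)
      have n12 : pt n 1 ≠ pt n 2 := pt_ne (by omega) (by omega) (by omega)
      have n13 : pt n 1 ≠ pt n 3 := pt_ne (by omega) (by omega) (by omega)
      simp [a, b, gen, Perm.mul_apply, swap_apply_of_ne_of_ne, n01, n02, n03, n12, n13, n01.symm, n02.symm,
        n12.symm] at h1
    rw [eq_top_iff]
    intro c _
    have hsup : center C ⊔ _root_.commutator C = ⊤ := by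
      rw [eq_top_iff]
      intro x _
      obtain ⟨y, hy, hxy⟩ := (hmap.symm ▸ mem_top _ :
        (e.toMonoidHom.comp (QuotientGroup.mk' (center C))) x ∈ (_root_.commutator C).map _)
      have hc' : x * y⁻¹ ∈ center C := by
        rw [← QuotientGroup.eq_one_iff, ← map_eq_one_iff _ e.injective]
        show e.toMonoidHom (QuotientGroup.mk' _ (x * y⁻¹)) = 1
        rw [map_mul, map_mul, map_inv, map_inv]
        exact mul_inv_eq_one.2 hxy.symm
      have := mul_mem_sup hc' hy
      rwa [inv_mul_cancel_right] at this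
    by_cases hzm : z ∈ _root_.commutator C
    · have : center C ≤ _root_.commutator C := fun w hw => by
        rcases hzall w hw with rfl | rfl <;> [exact one_mem _; exact hzm]
      rw [sup_eq_right.2 this] at hsup
      exact hsup ▸ mem_top c
    · exfalso
      refine hns (_root_.commutator C) (Subgroup.isComplement'_of_disjoint_and_mul_eq_univ ?_ ?_)
      · refine disjoint_iff_inf_le.2 fun w ⟨hw1, hw2⟩ => ?_
        rcases hzall w hw1 with rfl | rfl
        · exact mem_bot.2 rfl
        · exact absurd hw2 hzm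
      · rw [← Subgroup.normal_mul, hsup]; rfl
  refine ⟨⟨π, z, fun c => Perm.mem_alternatingGroup.1 (e (QuotientGroup.mk c)).2, hlift, hzz, hz1,
    fun c => mem_center_iff.1 hzc c, hker, fun c hc => ?_⟩, rfl⟩
  have hc2 : c * c = 1 ∨ c * c = z := (hker _).1 (by rw [map_mul, hc.mul_self])
  refine hc2.resolve_left fun h1 => ?_
  -- every lift of a double transposition would be an involution
  have hall : ∀ d, IsDT (π d) → d * d = 1 := by
    intro d hd
    obtain ⟨f, hf, hfc⟩ := hc.exists_conj hd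
    obtain ⟨F, hF⟩ := hlift f hf
    have e' : π (F * c * F⁻¹) = π d := by rw [map_mul, map_mul, map_inv, hF, hfc]
    have hsq : F * c * F⁻¹ * (F * c * F⁻¹) = 1 := by
      rw [show F * c * F⁻¹ * (F * c * F⁻¹) = F * (c * c) * F⁻¹ by group, h1, mul_one, mul_inv_cancel]
    rcases (hker (d * (F * c * F⁻¹)⁻¹)).1 (by rw [map_mul, map_inv, e', mul_inv_cancel]) with h | h
    · rw [mul_inv_eq_one.1 h]; exact hsq
    · rw [mul_inv_eq_iff_eq_mul.1 h, mul_assoc, ← mul_assoc (F * c * F⁻¹) z, mem_center_iff.1 hzc, mul_assoc z,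
        hsq, mul_one, hzz]
  set p := fun i : ℕ => pt n i
  have n01 : pt n 0 ≠ pt n 1 := pt_ne (by omega) (by omega) (by omega)
  have n02 : pt n 0 ≠ pt n 2 := pt_ne (by omega) (by omega) (by omega)
  have n03 : pt n 0 ≠ pt n 3 := pt_ne (by omega) (by omega) (by omega)
  have n12 : pt n 1 ≠ pt n 2 := pt_ne (by omega) (by omega) (by omega)
  have n13 : pt n 1 ≠ pt n 3 := pt_ne (by omega) (by omega) (by omega)
  have n23 : pt n 2 ≠ pt n 3 := pt_ne (by omega) (by omega) (by omega)
  have hg1 : gen n 1 = swap (pt n 0) (pt n 1) * swap (pt n 2) (pt n 3) := by rw [gen, if_neg (by omega)]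
  have hd1 : IsDT (gen n 1) := hg1 ▸ IsDT.mk n01 n02 n03 n12 n13 n23
  have hg2 : gen n 0 * gen n 1 * (gen n 0)⁻¹ = swap (pt n 1) (pt n 2) * swap (pt n 0) (pt n 3) := by
    rw [hg1, show gen n 0 * (swap (pt n 0) (pt n 1) * swap (pt n 2) (pt n 3)) * (gen n 0)⁻¹ =
      (gen n 0 * swap (pt n 0) (pt n 1) * (gen n 0)⁻¹) * (gen n 0 * swap (pt n 2) (pt n 3) * (gen n 0)⁻¹) by group,
      ← swap_apply_apply, ← swap_apply_apply]
    simp [gen, Perm.mul_apply, swap_apply_of_ne_of_ne, n01, n02, n03, n12, n13, n23, n01.symm, n02.symm, n03.symm,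
      n12.symm, n13.symm, n23.symm]
  have hd2 := hd1.conj (gen n 0)
  have hd3 : IsDT (gen n 1 * (gen n 0 * gen n 1 * (gen n 0)⁻¹)) := by
    have e1 := dt_klein (p := pt n 0) (q := pt n 1) (u := pt n 3) (v := pt n 2)
      (by simp [n01, n02, n03, n12, n13, n23.symm])
    rw [hg2, hg1, swap_comm (pt n 2) (pt n 3), (disjoint_swaps n01.symm n13 n02.symm n23).commute.eq, e1]
    exact IsDT.mk n02 n01 n03 n12.symm n23 n13
  obtain ⟨S, hS⟩ := hlift _ hd1.sign_eq
  obtain ⟨T, hT⟩ := hlift _ hd2.sign_eq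
  have hSS := hall S (hS.symm ▸ hd1)
  have hTT := hall T (hT.symm ▸ hd2)
  have hST := hall (S * T) (by rw [map_mul, hS, hT]; exact hd3)
  refine CfsgLib.Invol.AltCover.standard_pair_ne hn hperf hZ e S T hS hT ?_
  rw [commutatorElement_eq_one_iff_mul_comm]
  calc S * T = (S * T)⁻¹ := (inv_eq_of_mul_eq_one_right hST).symm
    _ = T * S := by rw [mul_inv_rev, inv_eq_of_mul_eq_one_right hSS, inv_eq_of_mul_eq_one_right hTT]

namespace Cover

variable {C : Type*} [Group C] {n : ℕ} (D : Cover C n)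

theorem eq_or {c d : C} (h : D.π c = D.π d) : c = d ∨ c = D.z * d := by
  rcases (D.ker (c * d⁻¹)).1 (by rw [map_mul, map_inv, h, mul_inv_cancel]) with e | e
  · exact Or.inl (mul_inv_eq_one.1 e)
  · exact Or.inr (mul_inv_eq_iff_eq_mul.1 e)

theorem π_z : D.π D.z = 1 := (D.ker _).2 (Or.inr rfl)

theorem conj_z (c : C) : c * D.z * c⁻¹ = D.z := by rw [D.zc, mul_inv_cancel_right]

theorem z_mul_sq (d : C) : D.z * d * (D.z * d) = d * d := by
  rw [mul_assoc, ← mul_assoc d D.z, D.zc, mul_assoc D.z d, ← mul_assoc, D.zz, one_mul]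

/-- The square of a lift does not depend on the lift. -/
theorem sq_eq {c d : C} (h : D.π c = D.π d) : c * c = d * d := by
  rcases D.eq_or h with rfl | rfl
  · rfl
  · exact D.z_mul_sq d

/-- The commutator of two lifts depends on their images only. -/
theorem comm_eq {a a' b b' : C} (ha : D.π a = D.π a') (hb : D.π b = D.π b') : ⁅a, b⁆ = ⁅a', b'⁆ := by
  have hl : ∀ x y : C, ⁅D.z * x, y⁆ = ⁅x, y⁆ := fun x y => by
    rw [commutatorElement_def, commutatorElement_def, mul_inv_rev,
      show D.z * x * y * (x⁻¹ * D.z⁻¹) * y⁻¹ = D.z * (x * y * x⁻¹) * D.z⁻¹ * y⁻¹ by group,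
      ← D.zc, mul_inv_cancel_right]
  have hr : ∀ x y : C, ⁅x, D.z * y⁆ = ⁅x, y⁆ := fun x y => by
    rw [← commutatorElement_inv, hl, commutatorElement_inv]
  rcases D.eq_or ha with rfl | rfl <;> rcases D.eq_or hb with rfl | rfl <;> simp only [hl, hr]

theorem conj_eq_or {d A : C} (h : D.π d * D.π A = D.π A * D.π d) : d * A * d⁻¹ = A ∨ d * A * d⁻¹ = D.z * A :=
  D.eq_or (by rw [map_mul, map_mul, map_inv, h, mul_inv_cancel_right])

/-- A lift of a commutator of two permutations commutes with every lift of a permutation commuting with both. -/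
theorem commute_commutator {c d A B : C} (hc : D.π c = D.π ⁅A, B⁆) (hA : D.π d * D.π A = D.π A * D.π d)
    (hB : D.π d * D.π B = D.π B * D.π d) : d * c = c * d := by
  have e : d * ⁅A, B⁆ * d⁻¹ = ⁅d * A * d⁻¹, d * B * d⁻¹⁆ := by simp only [commutatorElement_def]; group
  have e' : ⁅d * A * d⁻¹, d * B * d⁻¹⁆ = ⁅A, B⁆ := by
    refine D.comm_eq ?_ ?_
    · rw [map_mul, map_mul, map_inv, hA, mul_inv_cancel_right]
    · rw [map_mul, map_mul, map_inv, hB, mul_inv_cancel_right]
  rw [e'] at e
  have h1 : d * ⁅A, B⁆ = ⁅A, B⁆ * d := mul_inv_eq_iff_eq_mul.1 e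
  rcases D.eq_or hc with rfl | rfl
  · exact h1
  · rw [← mul_assoc, D.zc, mul_assoc, h1, mul_assoc]

/-- A subgroup containing a lift of a double transposition contains the central involution. -/
theorem z_mem_of_dt {H : Subgroup C} {c : C} (hc : c ∈ H) (h : IsDT (D.π c)) : D.z ∈ H :=
  D.dt c h ▸ mul_mem hc hc

end Cover

/-- A double transposition is a commutator of even permutations of its four points. -/
theorem dt_commutator {α : Type*} [DecidableEq α] {p q u v : α} (h : [p, q, u, v].Nodup) :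
    swap p q * swap u v = ⁅swap p q * swap q u, swap p q * swap q v⁆ := by
  obtain ⟨pq, pu, pv, qu, qv, uv⟩ := nodup_four h
  rw [commutatorElement_def]
  ext w
  simp only [mul_inv_rev, swap_inv]
  by_cases h1 : w = p
  · subst h1; simp [Perm.mul_apply, swap_apply_of_ne_of_ne, pq, pu, pv, qu, qv, uv, pq.symm, pu.symm, pv.symm, qu.symm, qv.symm, uv.symm]
  by_cases h2 : w = q
  · subst h2; simp [Perm.mul_apply, swap_apply_of_ne_of_ne, pq, pu, pv, qu, qv, uv, pq.symm, pu.symm, pv.symm, qu.symm, qv.symm, uv.symm]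
  by_cases h3 : w = u
  · subst h3; simp [Perm.mul_apply, swap_apply_of_ne_of_ne, pq, pu, pv, qu, qv, uv, pq.symm, pu.symm, pv.symm, qu.symm, qv.symm, uv.symm]
  by_cases h4 : w = v
  · subst h4; simp [Perm.mul_apply, swap_apply_of_ne_of_ne, pq, pu, pv, qu, qv, uv, pq.symm, pu.symm, pv.symm, qu.symm, qv.symm, uv.symm]
  simp [Perm.mul_apply, swap_apply_of_ne_of_ne, h1, h2, h3, h4]

namespace Cover

variable {C : Type*} [Group C] {n : ℕ} (D : Cover C n)

/-- A lift of a double transposition commutes with lifts of permutations fixing its four points. -/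
theorem commute_dt {c d : C} {p q u v : Fin n} (hnd : [p, q, u, v].Nodup) (hc : D.π c = swap p q * swap u v)
    (hd : ∀ w ∈ [p, q, u, v], D.π d w = w) : d * c = c * d := by
  obtain ⟨pq, pu, pv, qu, qv, uv⟩ := nodup_four hnd
  have hsw : ∀ x ∈ [p, q, u, v], ∀ y ∈ [p, q, u, v], D.π d * swap x y = swap x y * D.π d := fun x hx y hy => by
    rw [Equiv.mul_swap_eq_swap_mul, hd x hx, hd y hy]
  obtain ⟨A, hA⟩ := D.lift (swap p q * swap q u) (by rw [map_mul, Perm.sign_swap pq, Perm.sign_swap qu]; decide)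
  obtain ⟨B, hB⟩ := D.lift (swap p q * swap q v) (by rw [map_mul, Perm.sign_swap pq, Perm.sign_swap qv]; decide)
  refine D.commute_commutator (A := A) (B := B) (hc.trans ((dt_commutator hnd).trans ?_)) ?_ ?_
  · rw [map_commutatorElement, hA, hB]
  · rw [hA, ← mul_assoc, hsw p (by simp) q (by simp), mul_assoc, hsw q (by simp) u (by simp), mul_assoc]
  · rw [hB, ← mul_assoc, hsw p (by simp) q (by simp), mul_assoc, hsw q (by simp) v (by simp), mul_assoc]

/-- The lifts of an involution with support of size `4 k` square to `z ^ k`. -/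
theorem sq_invol : ∀ (k : ℕ) (c : C), D.π c * D.π c = 1 → (D.π c).support.card = 4 * k → c * c = D.z ^ k
  | 0, c, _, hs => by
    have h1 : D.π c = 1 := Perm.support_eq_empty_iff.1 (Finset.card_eq_zero.1 (by omega))
    rcases (D.ker c).1 h1 with rfl | rfl
    · simp
    · rw [pow_zero, D.zz]
  | k + 1, c, hc, hs => by
    classical
    set σ := D.π c with hσ
    obtain ⟨p, hp⟩ := Finset.card_pos.1 (show 0 < σ.support.card by omega)
    obtain ⟨u, hu, hu'⟩ := Finset.exists_mem_notMem_of_card_lt_card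
      (show ({p, σ p} : Finset (Fin n)).card < σ.support.card from lt_of_le_of_lt Finset.card_le_two (by omega))
    simp only [Finset.mem_insert, Finset.mem_singleton, not_or] at hu'
    have hp' : σ p ≠ p := Perm.mem_support.1 hp
    have hu'' : σ u ≠ u := Perm.mem_support.1 hu
    have hii : ∀ x, σ (σ x) = x := fun x => by rw [← Perm.mul_apply, hc]; rfl
    have h1 : σ p ≠ σ u := fun e => hu'.1 (σ.injective e).symm
    have h2 : p ≠ σ u := fun e => hu'.2 (by rw [e, hii])
    have hnd : [p, σ p, u, σ u].Nodup := by simp [hp'.symm, Ne.symm hu'.1, h2, Ne.symm hu'.2, h1, hu''.symm]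
    set d := swap p (σ p) * swap u (σ u) with hd
    have hdd : IsDT d := ⟨_, _, _, _, hnd, rfl⟩
    obtain ⟨A, hA⟩ := D.lift d hdd.sign_eq
    have hAinv : D.π A⁻¹ = d := by rw [map_inv, hA, inv_eq_of_mul_eq_one_right hdd.mul_self]
    have hrest : ∀ x, D.π (A⁻¹ * c) x = if x ∈ [p, σ p, u, σ u] then x else σ x := by
      intro x
      rw [map_mul, hAinv, Perm.mul_apply, ← hσ, hd, Perm.mul_apply]
      split_ifs with hx
      · simp only [List.mem_cons, List.not_mem_nil, or_false] at hx
        rcases hx with rfl | rfl | rfl | rfl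
        · rw [swap_apply_of_ne_of_ne (Ne.symm hu'.2) h1, swap_apply_right]
        · rw [hii, swap_apply_of_ne_of_ne (Ne.symm hu'.1) h2, swap_apply_left]
        · rw [swap_apply_right, swap_apply_of_ne_of_ne hu'.1 hu'.2]
        · rw [hii, swap_apply_left, swap_apply_of_ne_of_ne h2.symm h1.symm]
      · simp only [List.mem_cons, List.not_mem_nil, or_false, not_or] at hx
        rw [swap_apply_of_ne_of_ne (fun e => hx.2.2.2 (by rw [← e, hii])) (fun e => hx.2.2.1 (σ.injective e)),
          swap_apply_of_ne_of_ne (fun e => hx.2.1 (by rw [← e, hii])) (fun e => hx.1 (σ.injective e))]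
    have hcomm : A⁻¹ * c * A = A * (A⁻¹ * c) :=
      D.commute_dt hnd hA fun w hw => by rw [hrest, if_pos hw]
    have hsupp : (D.π (A⁻¹ * c)).support = σ.support \ [p, σ p, u, σ u].toFinset := by
      ext x
      rw [Perm.mem_support, Finset.mem_sdiff, List.mem_toFinset, Perm.mem_support, hrest]
      by_cases hx : x ∈ [p, σ p, u, σ u]
      · simp [hx]
      · simp [hx]
    have hsub : [p, σ p, u, σ u].toFinset ⊆ σ.support := by
      intro x hx
      simp only [List.mem_toFinset, List.mem_cons, List.not_mem_nil, or_false] at hx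
      rcases hx with rfl | rfl | rfl | rfl
      · exact hp
      · exact Perm.apply_mem_support.2 hp
      · exact hu
      · exact Perm.apply_mem_support.2 hu
    have hcard : (D.π (A⁻¹ * c)).support.card = 4 * k := by
      rw [hsupp, Finset.card_sdiff_of_subset hsub, List.toFinset_card_of_nodup hnd, hs]
      simp
      omega
    have hinv : D.π (A⁻¹ * c) * D.π (A⁻¹ * c) = 1 := by
      ext x
      rw [Perm.mul_apply, hrest x]
      split_ifs with hx
      · rw [hrest, if_pos hx]; rfl
      · rw [hrest, if_neg, hii]; · rfl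
        simp only [List.mem_cons, List.not_mem_nil, or_false, not_or] at hx ⊢
        exact ⟨fun e => hx.2.1 (by rw [← e, hii]), fun e => hx.1 (σ.injective e),
          fun e => hx.2.2.2 (by rw [← e, hii]), fun e => hx.2.2.1 (σ.injective e)⟩
    have ih := sq_invol k (A⁻¹ * c) hinv hcard
    have key : A * (A⁻¹ * c) * (A * (A⁻¹ * c)) = A * A * (A⁻¹ * c * (A⁻¹ * c)) := by
      rw [mul_assoc A (A⁻¹ * c), ← mul_assoc (A⁻¹ * c) A, hcomm]; simp only [mul_assoc]
    rw [mul_inv_cancel_left, ih, D.dt A (hA.symm ▸ hdd)] at key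
    rw [key, pow_succ, D.zc]

/-- The support of an involution of the cover outside the centre. -/
theorem invol_support {c : C} (h2 : c * c = 1) (hc : D.π c ≠ 1) :
    ∃ j, 1 ≤ j ∧ (D.π c).support.card = 8 * j := by
  have hσ : D.π c * D.π c = 1 := by rw [← map_mul, h2, map_one]
  obtain ⟨-, hs, hsgn⟩ := CfsgLib.Invol.AltCover.invol_cycleType (D.π c) hσ
  rw [D.sgn] at hsgn
  have hev : Even (D.π c).cycleType.card := (neg_one_pow_eq_one_iff_even (by decide : (-1 : ℤˣ) ≠ 1)).1 hsgn.symm
  obtain ⟨k, hk⟩ := hev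
  have h4 : (D.π c).support.card = 4 * k := by omega
  have := D.sq_invol k c hσ h4
  rw [h2] at this
  obtain ⟨j, rfl⟩ : Even k := by
    rcases Nat.even_or_odd k with h | ⟨i, rfl⟩
    · exact h
    · rw [pow_succ, pow_mul, pow_two, D.zz, one_pow, one_mul] at this
      exact absurd this.symm D.z_ne
  refine ⟨j, ?_, by omega⟩
  by_contra h0
  exact hc (Perm.support_eq_empty_iff.1 (Finset.card_eq_zero.1 (by omega)))

end Cover

end CfsgLib.Invol.AltDoubleCover
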