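import Cfsg.Agent.Lib.Invol.AltDoubleCover.Quot

/-!
# The odd core of the centralizer of a lifted 3-cycle is small

It is the lifted 3-cycle, or in degree nine has order `3 ^ 5`.
-/

set_option autoImplicit false
set_option maxRecDepth 100000

namespace CfsgLib.Invol.AltDoubleCover

open Equiv Subgroup

section General

/-- Fixed points of an element of prime order on a normal subgroup. -/
theorem card_fixed_modEq {Q : Type*} [Group Q] [Finite Q] (P : Subgroup Q) [P.Normal] {r : ℕ} [hr : Fact r.Prime]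
    (u : Q) (hu : u ^ r = 1) : Nat.card P ≡ Nat.card ↥(P ⊓ centralizer ({u} : Set Q)) [MOD r] := by
  letI : MulAction ↥(zpowers u) ↥P :=
    MulAction.compHom ↥P ((MulAut.conjNormal (H := P)).comp (zpowers u).subtype)
  have hp : IsPGroup r ↥(zpowers u) := fun g => ⟨1, Subtype.ext (by
    obtain ⟨i, hi⟩ := mem_zpowers_iff.1 g.2
    rw [pow_one, Subgroup.coe_pow, ← hi, ← zpow_natCast, ← zpow_mul, mul_comm, zpow_mul, zpow_natCast, hu, one_zpow]
    rfl)⟩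
  have h0 := hp.card_modEq_card_fixedPoints ↥P
  suffices h : Nat.card ↥(MulAction.fixedPoints ↥(zpowers u) ↥P) = Nat.card ↥(P ⊓ centralizer ({u} : Set Q)) by
    rwa [h] at h0
  have key : ∀ (g : ↥(zpowers u)) (v : ↥P), ((g • v : ↥P) : Q) = (g : Q) * v * (g : Q)⁻¹ := fun _ _ => rfl
  refine Nat.card_congr ⟨fun v => ⟨v.1.1, v.1.2, mem_centralizer_singleton_iff.2 ?_⟩,
    fun v => ⟨⟨v.1, v.2.1⟩, fun g => Subtype.ext ?_⟩, fun _ => rfl, fun _ => rfl⟩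
  · have h := congrArg Subtype.val (v.2 ⟨u, mem_zpowers u⟩)
    rw [key] at h
    exact (mul_inv_eq_iff_eq_mul.1 h).symm
  · obtain ⟨i, hi⟩ := mem_zpowers_iff.1 g.2
    have hc : Commute u v.1 := (mem_centralizer_singleton_iff.1 v.2.2).symm
    rw [key, ← hi, (hc.zpow_left i).eq, mul_inv_cancel_right]

theorem three_nsmul_eq_zero {M : Type*} [AddCommGroup M] {a c₁ c₂ d₁ d₂ e₁ e₂ : M} (h1 : a + c₁ + c₂ = 0)
    (h2 : a + d₁ + d₂ = 0) (h3 : a + e₁ + e₂ = 0) (h4 : c₁ + d₁ + e₂ = 0) (h5 : c₂ + e₁ + d₂ = 0) :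
    a + a + a = 0 := by
  have e : a + a + a = (a + c₁ + c₂) + (a + d₁ + d₂) + (a + e₁ + e₂) - ((c₁ + d₁ + e₂) + (c₂ + e₁ + d₂)) := by
    abel
  rw [e, h1, h2, h3, h4, h5]; simp

end General

/-- A 5-cycle away from the first triple. -/
def c5 : Perm (Fin 9) := swap 3 4 * swap 4 5 * swap 5 6 * swap 6 7
/-- A 7-cycle away from the first triple. -/
def c7 : Perm (Fin 10) := swap 3 4 * swap 4 5 * swap 5 6 * swap 6 7 * swap 7 8 * swap 8 9

namespace Ctx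

variable {G : Type*} [Group G] {n : ℕ} (X : Ctx G n)

theorem ι_fix {σ : Perm (Fin 9)} (h : ∀ j : Fin 9, (j : ℕ) < 3 → σ j = j) (i : Fin n) (hi : (i : ℕ) < 3) :
    X.ι σ i = i := by
  obtain ⟨j, rfl⟩ : ∃ j : Fin 9, i = Fin.castLE X.h9 j := ⟨⟨i, by omega⟩, Fin.ext rfl⟩
  rw [emb_apply_lt, h j (by simpa using hi)]

variable [Finite G]

/-- The image in the normalizer quotient of an element fixing the triple. -/
noncomputable def qF (c : ↥X.C) (hc : X.Fix c) : X.Q := X.q ⟨c, X.Ca_le_M (X.fix_mem_Ca hc)⟩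

theorem qF_pow {c : ↥X.C} (hc : X.Fix c) {r : ℕ} (h : c ^ r = 1) : X.qF c hc ^ r = 1 := by
  rw [qF, ← map_pow, show (⟨(c : G), X.Ca_le_M (X.fix_mem_Ca hc)⟩ : ↥X.M) ^ r = 1 from
    Subtype.ext (congrArg (fun x : ↥X.C => (x : G)) h), map_one]

/-- If a nontrivial element fixing the triple centralises, the part is trivial. -/
theorem Vp_trivial {e : ℕ} (he : Odd e) {y : ↥X.C} (hy : X.Fix y) (hπ : X.D.π y ≠ 1)
    (hc : X.Vp e ≤ centralizer ({X.qF y hy} : Set X.Q)) : ∀ v ∈ X.Vp e, v = 1 := by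
  intro v hv
  let N : Subgroup ↥X.C :=
    (((centralizer ((X.Vp e : Subgroup X.Q) : Set X.Q)).comap X.q).map X.M.subtype).comap X.C.subtype
  have hN : ∀ k : ↥X.C, X.Fix k → ∀ c ∈ N, k * c * k⁻¹ ∈ N := by
    rintro k hk c ⟨m, hm, hmc⟩
    refine ⟨⟨k, X.Ca_le_M (X.fix_mem_Ca hk)⟩ * m * ⟨k, X.Ca_le_M (X.fix_mem_Ca hk)⟩⁻¹, ?_, ?_⟩
    · show X.q _ ∈ centralizer ((X.Vp e : Subgroup X.Q) : Set X.Q)
      rw [map_mul, map_mul, map_inv, mem_centralizer_iff]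
      intro u hu
      have h1 := mem_centralizer_iff.1 hm _ (show (X.q ⟨k, X.Ca_le_M (X.fix_mem_Ca hk)⟩)⁻¹ * u *
        X.q ⟨k, X.Ca_le_M (X.fix_mem_Ca hk)⟩ ∈ X.Vp e by
          have := Subgroup.Normal.conj_mem (inferInstance : (X.Vp e).Normal) u hu
            (X.q ⟨k, X.Ca_le_M (X.fix_mem_Ca hk)⟩)⁻¹
          rwa [inv_inv] at this)
      set κ := X.q ⟨k, X.Ca_le_M (X.fix_mem_Ca hk)⟩
      calc u * (κ * X.q m * κ⁻¹) = κ * ((κ⁻¹ * u * κ) * X.q m) * κ⁻¹ := by group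
        _ = κ * (X.q m * (κ⁻¹ * u * κ)) * κ⁻¹ := by rw [h1]
        _ = κ * X.q m * κ⁻¹ * u := by group
    · show (k : G) * (m : G) * (k : G)⁻¹ = _
      rw [show (m : G) = (c : G) from hmc]; rfl
  have hyN : y ∈ N := ⟨⟨y, X.Ca_le_M (X.fix_mem_Ca hy)⟩, mem_centralizer_iff.2 fun u hu =>
    mem_centralizer_singleton_iff.1 (hc hu), rfl⟩
  obtain ⟨m, hm, hmz⟩ := X.z_mem_of_normalized N hN hyN hy hπ
  have hmz' : m = X.zM := Subtype.ext (hmz.trans X.Dz)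
  subst hmz'
  have h1 := X.V_inv hv.1
  rw [← mem_centralizer_iff.1 hm v hv, mul_inv_cancel_right] at h1
  obtain ⟨j, rfl⟩ := he
  have h2 : v ^ 2 = 1 := by rw [pow_two]; exact mul_eq_one_iff_eq_inv.2 h1
  have h3 := hv.2
  rwa [pow_succ, pow_mul, h2, one_pow, one_mul] at h3

theorem Vp_isPGroup {p : ℕ} (i : ℕ) : IsPGroup p ↥(X.Vp (p ^ i)) := fun v => ⟨i, Subtype.ext v.2.2⟩

theorem W_isPGroup {p : ℕ} (i : ℕ) : IsPGroup p ↥(X.W (p ^ i)) := fun v => ⟨i, Subtype.ext v.2.2.2⟩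

/-- An element of order `r` fixing the triple: congruence for its fixed points. -/
theorem fixed_cases {p : ℕ} [hp : Fact p.Prime] (i : ℕ) {r : ℕ} [Fact r.Prime] {c : ↥X.C} (hc : X.Fix c)
    (hr : c ^ r = 1) : ∃ k j : ℕ, Nat.card (X.Vp (p ^ i)) = p ^ k ∧ j ≤ k ∧ p ^ k ≡ p ^ j [MOD r] ∧
      (j = k → X.Vp (p ^ i) ≤ centralizer ({X.qF c hc} : Set X.Q)) ∧
      (j = 0 → ∀ v ∈ X.Vp (p ^ i), v * X.qF c hc = X.qF c hc * v → v = 1) := by
  obtain ⟨k, hk⟩ := (X.Vp_isPGroup (p := p) i).exists_card_eq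
  have hle : X.Vp (p ^ i) ⊓ centralizer ({X.qF c hc} : Set X.Q) ≤ X.Vp (p ^ i) := inf_le_left
  obtain ⟨j, hj, hjc⟩ := (Nat.dvd_prime_pow hp.out).1 (hk ▸ card_dvd_of_le hle)
  refine ⟨k, j, hk, hj, ?_, fun h => ?_, fun h v hv hvc => ?_⟩
  · rw [← hk, ← hjc]; exact card_fixed_modEq _ _ (X.qF_pow hc hr)
  · have := eq_of_le_of_card_ge hle (by rw [hk, hjc, h])
    exact this ▸ inf_le_right
  · have := (eq_bot_iff_card _).2 (show Nat.card ↥(X.Vp (p ^ i) ⊓ centralizer ({X.qF c hc} : Set X.Q)) = 1 by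
      rw [hjc, h, pow_zero])
    have hmem : v ∈ X.Vp (p ^ i) ⊓ centralizer ({X.qF c hc} : Set X.Q) :=
      ⟨hv, mem_centralizer_singleton_iff.2 hvc⟩
    rwa [this, mem_bot] at hmem

/-- Exponent bound. -/
theorem Vp_card_bound {p : ℕ} [hp : Fact p.Prime] (hp2 : p ≠ 2) (i k : ℕ) (hk : Nat.card (X.Vp (p ^ i)) = p ^ k) :
    (p = 3 ∧ k ≤ 4) ∨ (p = 5 ∧ (k ≤ 2 ∨ (n = 10 ∧ k ≤ 4))) ∨ (p = 7 ∧ k ≤ 2) ∨ k = 0 := by
  have hodd : Odd (p ^ i) := (hp.out.odd_of_ne_two hp2).pow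
  have hV := X.card_Vp hodd
  obtain ⟨l, hl⟩ := (X.W_isPGroup (p := p) i).exists_card_eq
  rw [hk, hl, ← pow_add] at hV
  have hkl : k ≤ l + l := (Nat.pow_le_pow_iff_right hp.out.one_lt).1 hV
  obtain ⟨hd, h3⟩ := X.card_W (p ^ i)
  rw [hl] at hd
  have h9 := X.h9
  have h10 := X.h10
  rcases Nat.eq_zero_or_pos l with rfl | hl0
  · exact Or.inr (Or.inr (Or.inr (by omega)))
  have hpn : p ≤ n := hp.out.dvd_factorial.1 ((dvd_pow_self p hl0.ne').trans hd)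
  have hp' : p = 3 ∨ p = 5 ∨ p = 7 := by
    have := hp.out
    have hp10 : p ≤ 10 := hpn.trans h10
    interval_cases p <;> first | omega | (exfalso; revert this; norm_num)
  rcases hp' with rfl | rfl | rfl
  · refine Or.inl ⟨rfl, ?_⟩
    have := h3 (X.W_isPGroup i)
    rw [hl] at this
    have : l ≤ 2 := by
      by_contra hh
      have := Nat.pow_le_pow_right (show 0 < 3 by norm_num) (show 3 ≤ l by omega)
      omega
    omega
  · refine Or.inr (Or.inl ⟨rfl, ?_⟩)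
    rcases (show n = 9 ∨ n = 10 by omega) with rfl | rfl
    · refine Or.inl ?_
      by_contra hh
      have := (pow_dvd_pow 5 (show 2 ≤ l by omega)).trans hd
      revert this; decide
    · refine Or.inr ⟨rfl, ?_⟩
      by_contra hh
      have := (pow_dvd_pow 5 (show 3 ≤ l by omega)).trans hd
      revert this; decide
  · refine Or.inr (Or.inr (Or.inl ⟨rfl, ?_⟩))
    by_contra hh
    have := (pow_dvd_pow 7 (show 2 ≤ l by omega)).trans hd
    rcases (show n = 9 ∨ n = 10 by omega) with rfl | rfl <;> (revert this; decide)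

theorem trivial_of_k_zero {e k p : ℕ} (h : Nat.card (X.Vp e) = p ^ k) (hk : k = 0) : ∀ v ∈ X.Vp e, v = 1 := by
  intro v hv
  have := (eq_bot_iff_card (X.Vp e)).2 (by rw [h, hk, pow_zero])
  rwa [this, mem_bot] at hv

theorem exists_fix_lift {τ : Perm (Fin n)} (hs : Perm.sign τ = 1) {r : ℕ} (hr : Odd r) (h : τ ^ r = 1)
    (hf : ∀ i : Fin n, (i : ℕ) < 3 → τ i = i) : ∃ c : ↥X.C, X.Fix c ∧ X.D.π c = τ ∧ c ^ r = 1 := by
  obtain ⟨c, h1, h2⟩ := X.D.exists_lift_odd hs hr h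
  exact ⟨c, fun i hi => by rw [h1]; exact hf i hi, h1, h2⟩

theorem exists_c5 : ∃ c : ↥X.C, X.Fix c ∧ X.D.π c ≠ 1 ∧ c ^ 5 = 1 := by
  have k : Perm.sign c5 = 1 ∧ c5 ^ 5 = 1 ∧ c5 ≠ 1 ∧ ∀ j : Fin 9, (j : ℕ) < 3 → c5 j = j :=
    ⟨by decide +kernel, by decide +kernel, by decide +kernel, by decide +kernel⟩
  obtain ⟨c, h1, h2, h3⟩ := X.exists_fix_lift (X.ι_sign k.1) (r := 5) (by decide)
    (by rw [← map_pow, k.2.1, map_one]) (X.ι_fix k.2.2.2)
  exact ⟨c, h1, fun h => k.2.2.1 (emb_injective X.h9 ((h2.symm.trans h).trans (map_one _).symm)), h3⟩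

theorem exists_c7 (hn : n = 10) : ∃ c : ↥X.C, X.Fix c ∧ X.D.π c ≠ 1 ∧ c ^ 7 = 1 := by
  subst hn
  have k : Perm.sign c7 = 1 ∧ c7 ^ 7 = 1 ∧ c7 ≠ 1 ∧ ∀ j : Fin 10, (j : ℕ) < 3 → c7 j = j :=
    ⟨by decide +kernel, by decide +kernel, by decide +kernel, by decide +kernel⟩
  obtain ⟨c, h1, h2, h3⟩ := X.exists_fix_lift k.1 (r := 7) (by decide) k.2.1 k.2.2.2
  exact ⟨c, h1, fun h => k.2.2.1 (h2.symm.trans h), h3⟩

/-- Two commuting elements of order three cannot act freely together with their products. -/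
theorem five_part (i : ℕ) (hk2 : ∀ k, Nat.card (X.Vp (5 ^ i)) = 5 ^ k → k ≤ 2) : ∀ v ∈ X.Vp (5 ^ i), v = 1 := by
  haveI : Fact (Nat.Prime 5) := ⟨by norm_num⟩
  haveI : Fact (Nat.Prime 3) := ⟨Nat.prime_three⟩
  have k : Perm.sign cB = 1 ∧ cB ^ 3 = 1 ∧ Perm.sign cC = 1 ∧ cC ^ 3 = 1 ∧ cB * cC = cC * cB ∧ cB ≠ 1 ∧
      cC ≠ 1 ∧ cB * cC ≠ 1 ∧ cB * (cC * cC) ≠ 1 ∧ (∀ j : Fin 9, (j : ℕ) < 3 → cB j = j) ∧
      ∀ j : Fin 9, (j : ℕ) < 3 → cC j = j :=
    ⟨by decide +kernel, by decide +kernel, by decide +kernel, by decide +kernel, by decide +kernel, by decide +kernel,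
      by decide +kernel, by decide +kernel, by decide +kernel, by decide +kernel, by decide +kernel⟩
  obtain ⟨k1, k2, k3, k4, k5, k6, k7, k8, k9, k10, k11⟩ := k
  obtain ⟨b, hb, hπb, hb3⟩ := X.exists_fix_lift (X.ι_sign k1) (r := 3) (by decide)
    (by rw [← map_pow, k2, map_one]) (X.ι_fix k10)
  obtain ⟨c, hc, hπc, hc3⟩ := X.exists_fix_lift (X.ι_sign k3) (r := 3) (by decide)
    (by rw [← map_pow, k4, map_one]) (X.ι_fix k11)
  have hbc : b * c = c * b := X.D.commute_odd (r := 3) (by decide) hc3 (by rw [hπb, hπc, ← map_mul, k5, map_mul])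
  have fmul : ∀ {x y : ↥X.C}, X.Fix x → X.Fix y → X.Fix (x * y) := fun hx hy l hl => by
    rw [map_mul, Perm.mul_apply, hy l hl, hx l hl]
  intro v hv
  by_contra hv1
  have free : ∀ (x : ↥X.C) (hx : X.Fix x), x ^ 3 = 1 → X.D.π x ≠ 1 →
      ∀ u ∈ X.Vp (5 ^ i), u * X.qF x hx = X.qF x hx * u → u = 1 := by
    intro x hx hx3 hπ
    obtain ⟨k, j, hk, hjk, hmod, hfull, hfree⟩ := X.fixed_cases (p := 5) i hx hx3
    have := hk2 k hk
    have hj : j = k ∨ j = 0 := by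
      interval_cases k <;> interval_cases j <;> simp_all [Nat.ModEq]
    rcases hj with hj | hj
    · exact absurd (X.Vp_trivial (by exact (by decide : Odd 5).pow) hx hπ (hfull hj) v hv) hv1
    · exact hfree hj
  letI : CommGroup ↥(X.Vp (5 ^ i)) :=
    { (inferInstance : Group ↥(X.Vp (5 ^ i))) with
      mul_comm := fun u u' => Subtype.ext (X.V_comm u.2.1 u'.2.1) }
  let φ : ↥X.M →* MulAut ↥(X.Vp (5 ^ i)) := (MulAut.conjNormal).comp X.q
  have hval : ∀ (m : ↥X.M) (u : ↥(X.Vp (5 ^ i))), ((φ m u : ↥(X.Vp (5 ^ i))) : X.Q) = X.q m * u * (X.q m)⁻¹ :=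
    fun _ _ => rfl
  have norm : ∀ (x : ↥X.C) (hx : X.Fix x), x ^ 3 = 1 → X.D.π x ≠ 1 → ∀ u : ↥(X.Vp (5 ^ i)),
      u * φ ⟨x, X.Ca_le_M (X.fix_mem_Ca hx)⟩ u *
        φ (⟨x, X.Ca_le_M (X.fix_mem_Ca hx)⟩ * ⟨x, X.Ca_le_M (X.fix_mem_Ca hx)⟩) u = 1 := by
    intro x hx hx3 hπ u
    set m : ↥X.M := ⟨x, X.Ca_le_M (X.fix_mem_Ca hx)⟩
    set s := u * φ m u * φ (m * m) u with hs
    have hmmm : φ m (φ (m * m) u) = u := by
      rw [← MulAut.mul_apply, ← map_mul, show m * (m * m) = 1 from Subtype.ext (by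
        have := congrArg Subtype.val hx3
        rw [Subgroup.coe_pow, pow_succ', pow_two] at this
        exact this), map_one, MulAut.one_apply]
    have hfix : φ m s = s := by
      rw [hs, map_mul, map_mul, hmmm, show φ m (φ m u) = φ (m * m) u by rw [map_mul]; rfl]
      rw [mul_comm, mul_assoc]
    refine Subtype.ext (free x hx hx3 hπ _ s.2 ?_)
    have h := congrArg Subtype.val hfix
    rw [hval] at h
    exact (mul_inv_eq_iff_eq_mul.1 h).symm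
  have hπne : ∀ {σ : Perm (Fin 9)} {x : ↥X.C}, X.D.π x = X.ι σ → σ ≠ 1 → X.D.π x ≠ 1 := fun h hσ h1 =>
    hσ (emb_injective X.h9 ((h.symm.trans h1).trans (map_one _).symm))
  set mb : ↥X.M := ⟨b, X.Ca_le_M (X.fix_mem_Ca hb)⟩
  set mc : ↥X.M := ⟨c, X.Ca_le_M (X.fix_mem_Ca hc)⟩
  have hbcM : mb * mc = mc * mb := Subtype.ext (congrArg (fun x : ↥X.C => (x : G)) hbc)
  have hb3M : mb * (mb * mb) = 1 := Subtype.ext (by
    have := congrArg Subtype.val hb3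
    rw [Subgroup.coe_pow, pow_succ', pow_two] at this; exact this)
  have hc3M : mc * (mc * mc) = 1 := Subtype.ext (by
    have := congrArg Subtype.val hc3
    rw [Subgroup.coe_pow, pow_succ', pow_two] at this; exact this)
  have hcc : Commute b c := hbc
  have e1 := norm c hc hc3 (hπne hπc k7) ⟨v, hv⟩
  have e2 := norm (b * c) (fmul hb hc) (by rw [hcc.mul_pow, hb3, hc3, one_mul])
    (hπne (σ := cB * cC) (by rw [map_mul, hπb, hπc, map_mul]) k8) ⟨v, hv⟩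
  have e3 := norm (b * (c * c)) (fmul hb (fmul hc hc))
    (by rw [(hcc.mul_right hcc).mul_pow, hb3, ← pow_two, ← pow_mul, mul_comm 2, pow_mul, hc3, one_pow, one_mul])
    (hπne (σ := cB * (cC * cC)) (by rw [map_mul, map_mul, hπb, hπc, map_mul, map_mul]) k9) ⟨v, hv⟩
  have e4 := norm b hb hb3 (hπne hπb k6) (φ mc ⟨v, hv⟩)
  have e5 := norm b hb hb3 (hπne hπb k6) (φ (mc * mc) ⟨v, hv⟩)
  rw [← MulAut.mul_apply, ← map_mul, ← MulAut.mul_apply, ← map_mul] at e4 e5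
  set V₀ : ↥(X.Vp (5 ^ i)) := ⟨v, hv⟩ with hV₀
  have hcomm : Commute mb mc := hbcM
  have c2 : Commute mb (mc * mc) := hcomm.mul_right hcomm
  change V₀ * φ mc V₀ * φ (mc * mc) V₀ = 1 at e1
  change V₀ * φ (mb * mc) V₀ * φ (mb * mc * (mb * mc)) V₀ = 1 at e2
  change V₀ * φ (mb * (mc * mc)) V₀ * φ (mb * (mc * mc) * (mb * (mc * mc))) V₀ = 1 at e3
  change φ mc V₀ * φ (mb * mc) V₀ * φ (mb * mb * mc) V₀ = 1 at e4
  change φ (mc * mc) V₀ * φ (mb * (mc * mc)) V₀ * φ (mb * mb * (mc * mc)) V₀ = 1 at e5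
  rw [hcomm.symm.mul_mul_mul_comm] at e2
  rw [c2.symm.mul_mul_mul_comm, show mc * mc * (mc * mc) = mc by
    rw [mul_assoc mc mc, hc3M, mul_one]] at e3
  have h6 := three_nsmul_eq_zero (M := Additive ↥(X.Vp (5 ^ i))) (a := Additive.ofMul V₀)
    (c₁ := Additive.ofMul (φ mc V₀)) (c₂ := Additive.ofMul (φ (mc * mc) V₀))
    (d₁ := Additive.ofMul (φ (mb * mc) V₀)) (d₂ := Additive.ofMul (φ (mb * mb * (mc * mc)) V₀))
    (e₁ := Additive.ofMul (φ (mb * (mc * mc)) V₀)) (e₂ := Additive.ofMul (φ (mb * mb * mc) V₀)) e1 e2 e3 e4 e5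
  have h3 : v ^ 3 = 1 := by
    have : v * v * v = 1 := congrArg Subtype.val (show V₀ * V₀ * V₀ = 1 from h6)
    rw [pow_succ, pow_two, this]
  refine hv1 (orderOf_eq_one_iff.1 (Nat.eq_one_of_dvd_coprimes (k := orderOf v) ?_
    (orderOf_dvd_of_pow_eq_one h3) (orderOf_dvd_of_pow_eq_one hv.2)))
  exact Nat.Coprime.pow_right _ (by norm_num)

/-- Each primary part is trivial, apart from the case of degree nine with 81 elements. -/
theorem Vp_cases {p : ℕ} [hp : Fact p.Prime] (hp2 : p ≠ 2) (i : ℕ) :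
    (∀ v ∈ X.Vp (p ^ i), v = 1) ∨ (n = 9 ∧ p = 3 ∧ Nat.card (X.Vp (p ^ i)) = 81) := by
  obtain ⟨k, hk⟩ := (X.Vp_isPGroup (p := p) i).exists_card_eq
  have hodd : Odd (p ^ i) := (hp.out.odd_of_ne_two hp2).pow
  haveI : Fact (Nat.Prime 5) := ⟨by norm_num⟩
  haveI : Fact (Nat.Prime 7) := ⟨by norm_num⟩
  have h9 := X.h9
  have h10 := X.h10
  by_cases h0 : k = 0
  · exact Or.inl (X.trivial_of_k_zero hk h0)
  by_cases h59 : p = 5 ∧ n = 9
  · obtain ⟨rfl, rfl⟩ := h59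
    refine Or.inl (X.five_part i fun k' hk' => ?_)
    rcases X.Vp_card_bound hp2 i k' hk' with h | ⟨-, h | h⟩ | h | h <;> omega
  have hb := X.Vp_card_bound hp2 i k hk
  by_cases h7 : p ≠ 7 ∧ n = 10
  · obtain ⟨c, hc, hπ, hc7⟩ := X.exists_c7 h7.2
    obtain ⟨k', j, hk', hjk, hmod, hfull, -⟩ := X.fixed_cases (p := p) i hc hc7
    have : k' = k := Nat.pow_right_injective hp.out.two_le (hk'.symm.trans hk)
    subst this
    refine Or.inl (X.Vp_trivial hodd hc hπ (hfull ?_))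
    rcases hb with ⟨rfl, h⟩ | ⟨rfl, h⟩ | ⟨rfl, h⟩ | h
    · interval_cases k' <;> interval_cases j <;> simp_all [Nat.ModEq]
    · have : k' ≤ 4 := by omega
      interval_cases k' <;> interval_cases j <;> simp_all [Nat.ModEq]
    · omega
    · omega
  obtain ⟨c, hc, hπ, hc5⟩ := X.exists_c5
  obtain ⟨k', j, hk', hjk, hmod, hfull, -⟩ := X.fixed_cases (p := p) i hc hc5
  have : k' = k := Nat.pow_right_injective hp.out.two_le (hk'.symm.trans hk)
  subst this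
  rcases hb with ⟨rfl, h⟩ | ⟨rfl, h⟩ | ⟨rfl, h⟩ | h
  · by_cases hjk' : j = k'
    · exact Or.inl (X.Vp_trivial hodd hc hπ (hfull hjk'))
    · refine Or.inr ⟨by omega, rfl, ?_⟩
      rw [hk]
      interval_cases k' <;> interval_cases j <;> simp_all [Nat.ModEq]
  · omega
  · refine Or.inl (X.Vp_trivial hodd hc hπ (hfull ?_))
    interval_cases k' <;> interval_cases j <;> simp_all [Nat.ModEq]
  · omega

/-- The dichotomy. -/
theorem dichotomy : X.O = X.A ∨ (n = 9 ∧ Nat.card X.O = 243 ∧ ∀ v ∈ X.V, v ^ 3 = 1) := by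
  have hdvd : ∀ v ∈ X.V, orderOf v ∣ Nat.card X.O := fun v hv => by
    rw [X.card_O]
    exact (Subgroup.orderOf_dvd_natCard X.V hv).trans (dvd_mul_left _ _)
  have hprime : ∀ v ∈ X.V, ∀ p : ℕ, p.Prime → p ∣ orderOf v → p = 3 := by
    intro v hv p hp hpd
    haveI := Fact.mk hp
    by_contra h3
    have hp2 : p ≠ 2 := fun h => by
      subst h
      exact Nat.two_dvd_ne_zero.2 (Nat.odd_iff.1 X.O_odd) (hpd.trans (hdvd v hv))
    have hne : orderOf v / p ≠ 0 :=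
      Nat.div_ne_zero_iff.2 ⟨hp.ne_zero, Nat.le_of_dvd (orderOf_pos v) hpd⟩
    set u := v ^ (orderOf v / p) with hu
    have hup : u ^ p ^ 1 = 1 := by rw [pow_one, hu, ← pow_mul, Nat.div_mul_cancel hpd, pow_orderOf_eq_one]
    rcases X.Vp_cases (p := p) hp2 1 with h | ⟨-, h, -⟩
    · have h1 := orderOf_dvd_of_pow_eq_one (h u ⟨pow_mem hv _, hup⟩)
      have := Nat.le_of_dvd (Nat.pos_of_ne_zero hne) h1
      have := Nat.div_lt_self (orderOf_pos v) hp.one_lt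
      omega
    · exact h3 h
  haveI : Fact (Nat.Prime 3) := ⟨Nat.prime_three⟩
  set N := Nat.card X.V
  have hall : ∀ v ∈ X.V, v ∈ X.Vp (3 ^ N) := by
    intro v hv
    have hi := Nat.eq_prime_pow_of_unique_prime_dvd (orderOf_pos v).ne' fun {d} hd hdd => hprime v hv d hd hdd
    set i := (orderOf v).primeFactorsList.length
    have hle : i ≤ N := by
      have h1 : orderOf v ≤ N := Nat.le_of_dvd Nat.card_pos (Subgroup.orderOf_dvd_natCard X.V hv)
      have h2 := Nat.lt_pow_self (n := i) (show 1 < 3 by norm_num)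
      omega
    refine ⟨hv, orderOf_dvd_iff_pow_eq_one.1 ?_⟩
    rw [hi]; exact pow_dvd_pow 3 hle
  rcases X.Vp_cases (p := 3) (by norm_num) N with h | ⟨hn, -, h81⟩
  · exact Or.inl (X.O_eq_A fun v hv => h v (hall v hv))
  · have heq : X.Vp (3 ^ N) = X.V := le_antisymm (fun v hv => hv.1) hall
    rw [heq] at h81
    refine Or.inr ⟨hn, by rw [X.card_O, h81], ?_⟩
    rcases X.Vp_cases (p := 3) (by norm_num) 1 with h | ⟨-, -, h1⟩
    · exfalso
      obtain ⟨u, hu⟩ := exists_prime_orderOf_dvd_card' (G := ↥X.V) 3 (by rw [h81]; norm_num)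
      have h3 : (u : X.Q) ^ 3 ^ 1 = 1 := by
        rw [← Subgroup.coe_pow, show u ^ 3 ^ 1 = 1 by rw [pow_one, ← hu, pow_orderOf_eq_one]]; rfl
      have : u = 1 := Subtype.ext (h u ⟨u.2, h3⟩)
      rw [this, orderOf_one] at hu
      norm_num at hu
    · have hle : X.Vp (3 ^ 1) ≤ X.V := fun v hv => hv.1
      intro v hv
      rw [← eq_of_le_of_card_ge hle (by rw [h1, h81])] at hv
      simpa using hv.2

end Ctx

end CfsgLib.Invol.AltDoubleCover
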