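import Mathlib

/-!
# A group of automorphisms of order 2520 of an elementary group of order sixteen

An element of order three without fixed points commutes with a four group.
-/

set_option autoImplicit false
set_option maxRecDepth 100000

namespace CfsgLib.Invol.AltDoubleCover

open Subgroup

variable {E : Type*} [Group E]

/-- The fixed points of an automorphism. -/
def fixS (φ : MulAut E) : Subgroup E where
  carrier := {e | φ e = e}
  one_mem' := map_one φ
  mul_mem' := fun {a b} (ha : φ a = a) (hb : φ b = b) => show φ (a * b) = a * b by rw [map_mul, ha, hb]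
  inv_mem' := fun {a} (ha : φ a = a) => show φ a⁻¹ = a⁻¹ by rw [map_inv, ha]

theorem mem_fixS {φ : MulAut E} {e : E} : e ∈ fixS φ ↔ φ e = e := Iff.rfl

variable [Finite E]

/-- Congruence for fixed points on an invariant subgroup. -/
theorem fix_modEq {p m : ℕ} [Fact p.Prime] (φ : MulAut E) (hφ : φ ^ (p ^ m) = 1) (S : Subgroup E)
    (hS : ∀ e ∈ S, φ e ∈ S) : Nat.card S ≡ Nat.card ↥(S ⊓ fixS φ) [MOD p] := by
  have hk : ∀ (k : ℕ) (e : E), e ∈ S → (φ ^ k) e ∈ S := by
    intro k
    induction k with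
    | zero => exact fun e he => he
    | succ k ih =>
      intro e he
      rw [pow_succ', MulAut.mul_apply]
      exact hS _ (ih e he)
  have hiff : ∀ e, φ e ∈ S ↔ e ∈ S := fun e => ⟨fun he => by
    have h1 := hk (p ^ m - 1) _ he
    rwa [← MulAut.mul_apply, ← pow_succ, Nat.sub_add_cancel (Nat.one_le_pow _ _ (Fact.out : p.Prime).pos), hφ,
      MulAut.one_apply] at h1, hS e⟩
  let σ : Equiv.Perm ↥S := Equiv.Perm.subtypePerm (φ.toEquiv : Equiv.Perm E) hiff
  have hσk : ∀ (k : ℕ) (e : ↥S), (((σ ^ k) e : ↥S) : E) = (φ ^ k) (e : E) := by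
    intro k
    induction k with
    | zero => exact fun e => rfl
    | succ k ih =>
      intro e
      rw [pow_succ', pow_succ', Equiv.Perm.mul_apply, MulAut.mul_apply, ← ih]
      rfl
  have hσ : σ ^ (p ^ m) = 1 := Equiv.ext fun e => Subtype.ext (by rw [hσk, hφ]; rfl)
  have hp : IsPGroup p ↥(zpowers σ) := fun g => ⟨m, Subtype.ext (by
    obtain ⟨i, hi⟩ := mem_zpowers_iff.1 g.2
    rw [Subgroup.coe_pow, ← hi, ← zpow_natCast, ← zpow_mul, mul_comm, zpow_mul, zpow_natCast, hσ, one_zpow]
    rfl)⟩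
  have h0 := hp.card_modEq_card_fixedPoints ↥S
  suffices h : Nat.card ↥(MulAction.fixedPoints ↥(zpowers σ) ↥S) = Nat.card ↥(S ⊓ fixS φ) by rwa [h] at h0
  refine Nat.card_congr ⟨fun v => ⟨v.1.1, v.1.2, ?_⟩, fun v => ⟨⟨v.1, v.2.1⟩, fun g => ?_⟩,
    fun _ => rfl, fun _ => rfl⟩
  · show φ v.1.1 = v.1.1
    exact congrArg Subtype.val (v.2 ⟨σ, mem_zpowers σ⟩)
  · have hfix : σ ⟨v.1, v.2.1⟩ = ⟨v.1, v.2.1⟩ := Subtype.ext (show φ v.1 = v.1 from v.2.2)
    obtain ⟨i, hi⟩ := mem_zpowers_iff.1 g.2
    show (g : Equiv.Perm ↥S) _ = _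
    rw [← hi]
    exact Equiv.Perm.zpow_apply_eq_self_of_apply_eq_self hfix i

theorem fix_modEq_top {p m : ℕ} [Fact p.Prime] (φ : MulAut E) (hφ : φ ^ (p ^ m) = 1) :
    Nat.card E ≡ Nat.card (fixS φ) [MOD p] := by
  have := fix_modEq φ hφ ⊤ (fun _ _ => mem_top _)
  rwa [top_inf_eq, card_top] at this

variable (h16 : Nat.card E = 16) (h2 : ∀ e : E, e * e = 1)

include h16 in
theorem sub_card (S : Subgroup E) : Nat.card S ∈ ([1, 2, 4, 8, 16] : List ℕ) := by
  have h := S.card_subgroup_dvd_card
  rw [h16] at h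
  obtain ⟨k, hk, hk'⟩ := (Nat.dvd_prime_pow Nat.prime_two).1 (show Nat.card S ∣ 2 ^ 4 by norm_num [h])
  rw [hk']
  interval_cases k <;> simp

include h2 in
theorem exp2_comm (a b : E) : a * b = b * a := by
  have h := h2 (a * b)
  rw [← inv_eq_iff_mul_eq_one, mul_inv_rev, inv_eq_of_mul_eq_one_right (h2 a),
    inv_eq_of_mul_eq_one_right (h2 b)] at h
  exact h.symm

/-- An automorphism of order three without fixed points. -/
structure IsFpf (X : MulAut E) : Prop where
  cube : X ^ 3 = 1
  free : ∀ e, X e = e → e = 1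

theorem IsFpf.apply3 {X : MulAut E} (hX : IsFpf X) (e : E) : X (X (X e)) = e := by
  have h := congrArg (fun f : MulAut E => f e) hX.cube
  simpa [pow_succ, MulAut.mul_apply] using h

include h2 in
theorem IsFpf.norm {X : MulAut E} (hX : IsFpf X) (e : E) : e * X e * X (X e) = 1 := by
  refine hX.free _ ?_
  rw [map_mul, map_mul, hX.apply3, exp2_comm h2 _ e, ← mul_assoc]

include h2 in
theorem IsFpf.sq {X : MulAut E} (hX : IsFpf X) (e : E) : X (X e) = e * X e := by
  exact (inv_eq_of_mul_eq_one_right (hX.norm h2 e)).symm.trans (inv_eq_of_mul_eq_one_right (h2 _))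

include h16 in
/-- An invariant subgroup under an automorphism of order three without fixed points. -/
theorem IsFpf.invariant_card {X : MulAut E} (hX : IsFpf X) (S : Subgroup E) (hS : ∀ e ∈ S, X e ∈ S) :
    Nat.card S = 1 ∨ Nat.card S = 4 ∨ Nat.card S = 16 := by
  haveI : Fact (Nat.Prime 3) := ⟨Nat.prime_three⟩
  have h := fix_modEq (p := 3) (m := 1) X (by rw [pow_one, hX.cube]) S hS
  have hbot : S ⊓ fixS X = ⊥ := (eq_bot_iff_forall _).2 fun e he => hX.free e he.2
  rw [hbot, card_bot] at h
  have := sub_card h16 S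
  simp only [List.mem_cons, List.not_mem_nil, or_false] at this
  rcases this with e | e | e | e | e <;> rw [e] at h ⊢ <;> simp_all [Nat.ModEq]

include h16 in
theorem eq_top_of_card {S : Subgroup E} (h : Nat.card S = 16) : ∀ e, e ∈ S := by
  have := S.eq_top_of_card_eq (h.trans h16.symm)
  simp [this]

include h16 h2 in
/-- Their number is at most 112. -/
theorem card_fpf_le : Nat.card {X : MulAut E // IsFpf X} ≤ 112 := by
  classical
  haveI : Fintype E := Fintype.ofFinite E
  have hF : Fintype.card E = 16 := by rw [← Nat.card_eq_fintype_card, h16]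
  obtain ⟨e1, he1⟩ : ∃ e1 : E, e1 ≠ 1 := by
    haveI : Nontrivial E := Fintype.one_lt_card_iff_nontrivial.1 (by omega)
    exact exists_ne 1
  let Wf : E → Finset E := fun a => {1, e1, a, e1 * a}
  have hex : ∀ a, ∃ e, e ∉ Wf a := fun a => by
    obtain ⟨e, -, he⟩ := Finset.exists_mem_notMem_of_card_lt_card
      (show (Wf a).card < (Finset.univ : Finset E).card by
        rw [Finset.card_univ, hF]
        exact Finset.card_le_four.trans_lt (by norm_num))
    exact ⟨e, he⟩
  choose f hf using hex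
  let Uf : E → Finset E := fun a => Wf a ∪ (Wf a).image (f a * ·)
  have inv : ∀ e : E, e⁻¹ = e := fun e => inv_eq_of_mul_eq_one_right (h2 e)
  have cm := exp2_comm h2
  have hW : ∀ a, a ≠ 1 → a ≠ e1 → (Wf a).card = 4 := by
    intro a ha ha'
    have h1 : e1 * a ≠ 1 := fun h => ha' (by rw [← inv e1]; exact (inv_eq_of_mul_eq_one_right h).symm)
    have h3 : e1 * a ≠ e1 := fun h => ha (mul_eq_left.1 h)
    have h4 : e1 * a ≠ a := fun h => he1 (mul_eq_right.1 h)
    simp [Wf, Finset.card_insert_of_notMem, he1.symm, ha.symm, ha'.symm, h1.symm, h3.symm, h4.symm]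
  have hU : ∀ a, a ≠ 1 → a ≠ e1 → 8 ≤ (Uf a).card := by
    intro a ha ha'
    rw [Finset.card_union_of_disjoint, Finset.card_image_of_injective _ (mul_right_injective _), hW a ha ha']
    refine Finset.disjoint_left.2 fun x hx hx' => ?_
    obtain ⟨w, hw, rfl⟩ := Finset.mem_image.1 hx'
    refine hf a ?_
    have he : f a = f a * w * w := by rw [mul_assoc, h2, mul_one]
    rw [he]
    simp only [Wf, Finset.mem_insert, Finset.mem_singleton] at hx hw ⊢
    have p1 : e1 * (e1 * a) = a := by rw [← mul_assoc, h2, one_mul]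
    have p2 : a * e1 = e1 * a := cm a e1
    have p3 : a * (e1 * a) = e1 := by rw [← mul_assoc, p2, mul_assoc, h2, mul_one]
    have p4 : e1 * a * e1 = a := by rw [mul_assoc, p2, p1]
    have p5 : e1 * a * a = e1 := by rw [mul_assoc, h2, mul_one]
    rcases hx with h | h | h | h <;> rw [h] <;> rcases hw with h' | h' | h' | h' <;> rw [h'] <;>
      simp only [one_mul, mul_one, h2, p1, p2, p3, p4, p5, true_or, or_true]
  let T : Finset (Σ _ : E, E) := ((Finset.univ.erase 1).erase e1).sigma fun a => Finset.univ \ Uf a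
  have hT : T.card ≤ 112 := by
    rw [Finset.card_sigma]
    refine (Finset.sum_le_card_nsmul _ _ 8 fun a ha => ?_).trans ?_
    · simp only [Finset.mem_erase] at ha
      rw [Finset.card_sdiff_of_subset (Finset.subset_univ _), Finset.card_univ, hF]
      have := hU a ha.2.1 ha.1
      omega
    · rw [Finset.card_erase_of_mem (Finset.mem_erase.2 ⟨he1, Finset.mem_univ _⟩),
        Finset.card_erase_of_mem (Finset.mem_univ _), Finset.card_univ, hF]
      rfl
  have hne : ∀ X : {X : MulAut E // IsFpf X}, X.1 e1 ≠ 1 ∧ X.1 e1 ≠ e1 := fun X =>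
    ⟨fun h => he1 (X.1.injective (by rw [h, map_one])), fun h => he1 (X.2.free _ h)⟩
  have hclosed : ∀ X : {X : MulAut E // IsFpf X}, ∀ w ∈ Wf (X.1 e1), X.1 w ∈ Wf (X.1 e1) := by
    intro X w hw
    simp only [Wf, Finset.mem_insert, Finset.mem_singleton] at hw ⊢
    rcases hw with rfl | rfl | rfl | rfl
    · simp
    · simp
    · simp [X.2.sq h2]
    · refine Or.inr (Or.inl ?_)
      rw [map_mul, X.2.sq h2, cm (X.1 e1), mul_assoc, h2, mul_one]
  have hmem : ∀ X : {X : MulAut E // IsFpf X}, (⟨X.1 e1, X.1 (f (X.1 e1))⟩ : Σ _ : E, E) ∈ T := by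
    intro X
    refine Finset.mem_sigma.2 ⟨Finset.mem_erase.2 ⟨(hne X).2, Finset.mem_erase.2 ⟨(hne X).1, Finset.mem_univ _⟩⟩,
      Finset.mem_sdiff.2 ⟨Finset.mem_univ _, fun h => ?_⟩⟩
    dsimp only at h
    set a := X.1 e1
    set e := f a
    rcases Finset.mem_union.1 h with h | h
    · have h' := hclosed X _ (hclosed X _ h)
      rw [X.2.apply3] at h'
      exact hf a h'
    · obtain ⟨w, hw, hwe⟩ := Finset.mem_image.1 h
      have hfix : X.1 (e * X.1 w) = e * X.1 w := by
        rw [map_mul, ← hwe, mul_assoc, X.2.sq h2, ← mul_assoc w w, h2, one_mul]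
      have h1 := X.2.free _ hfix
      have : e = X.1 w := by rw [← inv (X.1 w)]; exact eq_inv_of_mul_eq_one_left h1
      exact hf a (show e ∈ Wf a from this ▸ hclosed X w hw)
  have hinj : Function.Injective fun X : {X : MulAut E // IsFpf X} => (⟨_, hmem X⟩ : T) := by
    intro X Y h
    have h' := congrArg Subtype.val h
    simp only [Sigma.mk.inj_iff] at h'
    obtain ⟨ha, hb⟩ := h'
    have hb' : X.1 (f (X.1 e1)) = Y.1 (f (Y.1 e1)) := eq_of_heq hb
    let K : Subgroup E := MonoidHom.eqLocus X.1.toMonoidHom Y.1.toMonoidHom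
    have hK : ∀ k ∈ K, X.1 k ∈ K := fun k hk => by
      show X.1 (X.1 k) = Y.1 (X.1 k)
      have hk' : X.1 k = Y.1 k := hk
      rw [X.2.sq h2, hk', Y.2.sq h2]
    have m1 : e1 ∈ K := ha
    have m2 : X.1 e1 ∈ K := hK _ m1
    have m3 : f (X.1 e1) ∈ K := by
      show X.1 _ = Y.1 _
      rw [hb', ha]
    have h5 : 5 ≤ Nat.card K := by
      have hs : insert (f (X.1 e1)) (Wf (X.1 e1)) ⊆ (Finset.univ.filter fun k => k ∈ K) := by
        intro x hx
        simp only [Wf, Finset.mem_insert, Finset.mem_singleton] at hx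
        refine Finset.mem_filter.2 ⟨Finset.mem_univ _, ?_⟩
        rcases hx with rfl | rfl | rfl | rfl | rfl
        · exact m3
        · exact one_mem _
        · exact m1
        · exact m2
        · exact mul_mem m1 m2
      have := Finset.card_le_card hs
      rw [Finset.card_insert_of_notMem (hf _), hW _ (hne X).1 (hne X).2] at this
      rw [Nat.card_eq_fintype_card, Fintype.card_subtype]
      convert this using 2
    have h16' : Nat.card K = 16 := by
      rcases X.2.invariant_card h16 K hK with h | h | h <;> omega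
    exact Subtype.ext (MulEquiv.ext fun e => eq_top_of_card h16 h16' e)
  calc Nat.card {X : MulAut E // IsFpf X} ≤ Nat.card T := Nat.card_le_card_of_injective _ hinj
    _ ≤ 112 := by rw [Nat.card_eq_fintype_card, Fintype.card_coe]; exact hT

include h16 h2 in
/-- A two-element commuting with such an automorphism has square one. -/
theorem sq_eq_one_of_comm {X g : MulAut E} (hX : IsFpf X) (hg : g ^ 4 = 1) (hc : g * X = X * g) :
    g * g = 1 := by
  have cm := exp2_comm h2
  let δ : E →* E :=
    { toFun := fun e => e * g e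
      map_one' := by simp
      map_mul' := fun a b => by
        rw [map_mul, mul_assoc, mul_assoc, ← mul_assoc b, cm b (g a), mul_assoc] }
  have hδX : ∀ e, δ (X e) = X (δ e) := fun e => by
    show X e * g (X e) = X (e * g e)
    rw [map_mul, ← MulAut.mul_apply, hc, MulAut.mul_apply]
  have h22 : ∀ e, δ (δ e) = e * g (g e) := fun e => by
    show e * g e * g (e * g e) = _
    rw [map_mul, ← mul_assoc, mul_assoc e, h2, mul_one]
  have h44 : ∀ e, δ (δ (δ (δ e))) = 1 := fun e => by
    rw [h22, h22, map_mul, map_mul]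
    have h4 : g (g (g (g e))) = e := by
      have h := congrArg (fun f : MulAut E => f e) hg
      simpa [pow_succ, MulAut.mul_apply] using h
    rw [h4, cm (g (g e)) e, h2]
  have hne : ∀ S : Subgroup E, S ≠ ⊥ → S.map δ ≠ S := by
    intro S hS h
    refine hS ((eq_bot_iff_forall _).2 fun s hs => ?_)
    have h4 : ((((S.map δ).map δ).map δ).map δ) = S := by rw [h, h, h, h]
    rw [← h4] at hs
    obtain ⟨_, ⟨_, ⟨_, ⟨t, -, rfl⟩, rfl⟩, rfl⟩, rfl⟩ := hs
    exact h44 t
  have hinv : ∀ S : Subgroup E, (∀ e ∈ S, X e ∈ S) → ∀ e ∈ S.map δ, X e ∈ S.map δ := by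
    rintro S hS _ ⟨e, he, rfl⟩
    exact ⟨X e, hS e he, hδX e⟩
  set S1 := (⊤ : Subgroup E).map δ
  have hS1 := hinv ⊤ fun _ _ => mem_top _
  have hS2 := hinv S1 hS1
  have hle : S1.map δ ≤ S1 := map_mono le_top
  have hbot : S1.map δ = ⊥ := by
    by_cases h1 : S1 = ⊥
    · rw [h1, Subgroup.map_bot]
    · have a1 : Nat.card S1 ≠ 16 := fun h => hne ⊤ (fun e => by
        have : Nat.card (⊤ : Subgroup E) = 1 := by rw [e, card_bot]
        rw [card_top, h16] at this; omega) (S1.eq_top_of_card_eq (h.trans h16.symm))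
      have a2 : Nat.card S1 ≠ 1 := fun h => h1 (card_eq_one.1 h)
      have a3 : Nat.card S1 = 4 := by rcases hX.invariant_card h16 S1 hS1 with h | h | h <;> omega
      have a4 : Nat.card (S1.map δ) ≤ 4 := a3 ▸ Nat.le_of_dvd Nat.card_pos (card_dvd_of_le hle)
      have a5 : Nat.card (S1.map δ) ≠ 4 := fun h => hne S1 h1 (eq_of_le_of_card_ge hle (by omega))
      exact card_eq_one.1 (by rcases hX.invariant_card h16 _ hS2 with h | h | h <;> omega)
  refine MulEquiv.ext fun e => ?_
  have h1 : δ (δ e) = 1 := by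
    rw [← mem_bot, ← hbot]
    exact ⟨δ e, ⟨e, mem_top _, rfl⟩, rfl⟩
  rw [h22] at h1
  rw [MulAut.mul_apply, MulAut.one_apply]
  exact (inv_eq_of_mul_eq_one_right h1).symm.trans (inv_eq_of_mul_eq_one_right (h2 e))

include h16 in
/-- A seventh power one and commuting with a fixed-point-free element of order three forces trivial. -/
theorem seven_trivial {X R : MulAut E} (hX : IsFpf X) (hR : R ^ 7 = 1) (hc : R * X = X * R) : R = 1 := by
  haveI : Fact (Nat.Prime 7) := ⟨by norm_num⟩
  have h := fix_modEq_top (p := 7) (m := 1) R (by rw [pow_one, hR])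
  have hS : ∀ e ∈ fixS R, X e ∈ fixS R := fun e he => by
    rw [mem_fixS, ← MulAut.mul_apply, hc, MulAut.mul_apply, mem_fixS.1 he]
  have h16' : Nat.card (fixS R) = 16 := by
    rcases hX.invariant_card h16 _ hS with e | e | e <;> rw [e, h16] at h <;> simp_all [Nat.ModEq]
  exact MulEquiv.ext fun e => mem_fixS.1 (eq_top_of_card h16 h16' e)

include h16 in
/-- A fifth power one commuting with an element of three-power order with a fixed point forces one of them
trivial. -/
theorem five_trivial {Y R : MulAut E} (hY : Y ^ 9 = 1) (hY1 : Y ≠ 1) (hR : R ^ 5 = 1) (hc : R * Y = Y * R)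
    {e : E} (he : Y e = e) (he1 : e ≠ 1) : R = 1 := by
  haveI : Fact (Nat.Prime 5) := ⟨by norm_num⟩
  haveI : Fact (Nat.Prime 3) := ⟨Nat.prime_three⟩
  have h := fix_modEq_top (p := 3) (m := 2) Y (by norm_num [hY])
  have hne : Nat.card (fixS Y) ≠ 16 := fun h16' => hY1 (MulEquiv.ext fun x => mem_fixS.1 (eq_top_of_card h16 h16' x))
  have hne1 : Nat.card (fixS Y) ≠ 1 := fun h1 => he1 (by
    have := card_eq_one.1 h1
    rw [← mem_bot, ← this]; exact he)
  have h4 : Nat.card (fixS Y) = 4 := by
    have := sub_card h16 (fixS Y)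
    simp only [List.mem_cons, List.not_mem_nil, or_false] at this
    rcases this with e | e | e | e | e <;> rw [e, h16] at h <;> simp_all [Nat.ModEq]
  have hS : ∀ x ∈ fixS Y, R x ∈ fixS Y := fun x hx => by
    rw [mem_fixS, ← MulAut.mul_apply, ← hc, MulAut.mul_apply, mem_fixS.1 hx]
  have h5 := fix_modEq (p := 5) (m := 1) R (by rw [pow_one, hR]) (fixS Y) hS
  have hd : Nat.card ↥(fixS Y ⊓ fixS R) ∣ 4 := h4 ▸ card_dvd_of_le inf_le_left
  have hle := Nat.le_of_dvd (by norm_num) hd
  rw [h4] at h5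
  have h4' : Nat.card ↥(fixS Y ⊓ fixS R) = 4 := by
    unfold Nat.ModEq at h5
    omega
  have hR16 := fix_modEq_top (p := 5) (m := 1) R (by rw [pow_one, hR])
  have hge : 4 ≤ Nat.card (fixS R) := h4' ▸ Nat.le_of_dvd Nat.card_pos (card_dvd_of_le inf_le_right)
  have h16' : Nat.card (fixS R) = 16 := by
    have := sub_card h16 (fixS R)
    simp only [List.mem_cons, List.not_mem_nil, or_false] at this
    rw [h16] at hR16
    unfold Nat.ModEq at hR16
    omega
  exact MulEquiv.ext fun x => mem_fixS.1 (eq_top_of_card h16 h16' x)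

include h16 in
/-- A group of order nine of automorphisms has a nontrivial element with a fixed point. -/
theorem nine_fixed (P : Subgroup (MulAut E)) (hP : Nat.card P = 9) :
    ∃ Y ∈ P, Y ≠ 1 ∧ ∃ e : E, e ≠ 1 ∧ Y e = e := by
  classical
  by_contra hcon
  push Not at hcon
  haveI : Fintype E := Fintype.ofFinite E
  haveI : Fintype P := Fintype.ofFinite P
  have hF : Fintype.card E = 16 := by rw [← Nat.card_eq_fintype_card, h16]
  have hP' : Fintype.card P = 9 := by rw [← Nat.card_eq_fintype_card, hP]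
  have hfree : ∀ (x y : P) (e : E), e ≠ 1 → x.1 e = y.1 e → x = y := by
    intro x y e he hxy
    by_contra hne
    refine hcon ((x.1)⁻¹ * y.1) (mul_mem (inv_mem x.2) y.2)
      (fun h => hne (Subtype.ext (inv_mul_eq_one.1 h))) e he ?_
    rw [MulAut.mul_apply, ← hxy, ← MulAut.mul_apply, inv_mul_cancel, MulAut.one_apply]
  obtain ⟨e, he⟩ : ∃ e : E, e ≠ 1 := by
    haveI : Nontrivial E := Fintype.one_lt_card_iff_nontrivial.1 (by omega)
    exact exists_ne 1
  let O : E → Finset E := fun e => Finset.univ.image fun x : P => x.1 e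
  have hO : ∀ e, e ≠ 1 → (O e).card = 9 := fun e he => by
    rw [Finset.card_image_of_injective _ (fun x y h => hfree x y e he h), Finset.card_univ, hP']
  have hO1 : ∀ e, e ≠ 1 → (1 : E) ∉ O e := fun e he h => by
    obtain ⟨x, -, hx⟩ := Finset.mem_image.1 h
    exact he (x.1.injective (by rw [hx, map_one]))
  obtain ⟨e', -, he'⟩ := Finset.exists_mem_notMem_of_card_lt_card
    (show (insert 1 (O e)).card < (Finset.univ : Finset E).card by
      rw [Finset.card_insert_of_notMem (hO1 e he), hO e he, Finset.card_univ, hF]; norm_num)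
  simp only [Finset.mem_insert, not_or] at he'
  have hdisj : Disjoint (O e) (O e') := Finset.disjoint_left.2 fun a ha ha' => he'.2 (by
    obtain ⟨x, -, rfl⟩ := Finset.mem_image.1 ha
    obtain ⟨y, -, hy⟩ := Finset.mem_image.1 ha'
    refine Finset.mem_image.2 ⟨⟨y.1⁻¹ * x.1, mul_mem (inv_mem y.2) x.2⟩, Finset.mem_univ _, ?_⟩
    show (y.1⁻¹ * x.1) e = e'
    rw [MulAut.mul_apply, ← hy, ← MulAut.mul_apply, inv_mul_cancel, MulAut.one_apply])
  have := Finset.card_le_univ (O e ∪ O e')
  rw [Finset.card_union_of_disjoint hdisj, hO e he, hO e' he'.1, hF] at this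
  omega

include h16 h2 in
/-- Such an automorphism commutes with a four group of a group of order 2520. -/
theorem exists_four (H : Subgroup (MulAut E)) (hH : Nat.card H = 2520) {X : MulAut E} (hXH : X ∈ H)
    (hX : IsFpf X) : ∃ u v, u ∈ H ∧ v ∈ H ∧ u ≠ 1 ∧ v ≠ 1 ∧ u ≠ v ∧ u * u = 1 ∧ v * v = 1 ∧ u * v = v * u ∧
      u * X = X * u ∧ v * X = X * v := by
  classical
  haveI : Fact (Nat.Prime 3) := ⟨Nat.prime_three⟩
  haveI : Fact (Nat.Prime 2) := ⟨Nat.prime_two⟩
  haveI : Fact (Nat.Prime 5) := ⟨by norm_num⟩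
  haveI : Fact (Nat.Prime 7) := ⟨by norm_num⟩
  have hX1 : X ≠ 1 := fun h => by
    haveI : Fintype E := Fintype.ofFinite E
    haveI : Nontrivial E := Fintype.one_lt_card_iff_nontrivial.1 (by rw [← Nat.card_eq_fintype_card, h16]; norm_num)
    obtain ⟨e, he⟩ := exists_ne (1 : E)
    exact he (hX.free e (by rw [h]; rfl))
  set K : Subgroup (MulAut E) := H ⊓ centralizer ({X} : Set (MulAut E))
  have hKH : K ≤ H := inf_le_left
  have hKc : ∀ {g}, g ∈ K → g * X = X * g := fun hg => mem_centralizer_singleton_iff.1 hg.2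
  have hdvd : Nat.card K ∣ 2520 := hH ▸ card_dvd_of_le hKH
  -- the bound from the number of conjugates
  have hbound : 2520 ≤ 112 * Nat.card K := by
    have hconj : ∀ h : H, IsFpf ((h : MulAut E) * X * (h : MulAut E)⁻¹) := fun h => by
      refine ⟨by rw [conj_pow, hX.cube, mul_one, mul_inv_cancel], fun e he => ?_⟩
      rw [MulAut.mul_apply, MulAut.mul_apply] at he
      have e' : (h : MulAut E) ((h : MulAut E)⁻¹ e) = e := by
        rw [← MulAut.mul_apply, mul_inv_cancel, MulAut.one_apply]
      have h1 : X ((h : MulAut E)⁻¹ e) = (h : MulAut E)⁻¹ e := (h : MulAut E).injective (by rw [he, e'])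
      rw [← e', hX.free _ h1, map_one]
    let f : H → {Y : MulAut E // IsFpf Y} := fun h => ⟨_, hconj h⟩
    haveI : Nonempty H := ⟨1⟩
    have hr : ∀ h : H, ((Function.invFun f (f h) : H) : MulAut E)⁻¹ * h ∈ K := fun h => by
      refine ⟨H.mul_mem (H.inv_mem (Subtype.prop _)) h.2, mem_centralizer_singleton_iff.2 ?_⟩
      have e := congrArg Subtype.val (Function.invFun_eq (f := f) ⟨h, rfl⟩)
      simp only [f] at e
      set r := ((Function.invFun f (f h) : H) : MulAut E)
      calc r⁻¹ * h * X = r⁻¹ * ((h : MulAut E) * X * (h : MulAut E)⁻¹) * h := by group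
        _ = r⁻¹ * (r * X * r⁻¹) * h := by rw [e]
        _ = X * (r⁻¹ * h) := by group
    rw [← hH]
    refine (Nat.card_le_card_of_injective (fun h : H => (f h, (⟨_, hr h⟩ : K))) fun a b hab => ?_).trans ?_
    · obtain ⟨e1, e2⟩ := Prod.mk.inj hab
      have e2' := congrArg Subtype.val e2
      simp only at e2'
      rw [e1] at e2'
      exact Subtype.ext (mul_left_cancel e2')
    · rw [Nat.card_prod]
      exact Nat.mul_le_mul_right _ (card_fpf_le h16 h2)
  -- Sylow 3 inside
  obtain ⟨P, hP⟩ := ((IsPGroup.of_card (p := 3) (n := 1)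
    (show Nat.card (zpowers (⟨X, hXH⟩ : H)) = 3 ^ 1 by
      rw [Nat.card_zpowers, orderOf_eq_prime (Subtype.ext (by rw [Subgroup.coe_pow, hX.cube]; rfl))
        fun h => hX1 (congrArg Subtype.val h)]; rfl))).exists_le_sylow
  have hP9 : Nat.card P = 9 := by
    rw [P.card_eq_multiplicity, hH, show (2520 : ℕ) = 3 ^ 2 * 280 from rfl, Nat.factorization_mul (by norm_num)
      (by norm_num), Finsupp.add_apply, Nat.Prime.factorization_pow Nat.prime_three, Finsupp.single_eq_same,
      Nat.factorization_eq_zero_of_not_dvd (by norm_num)]; rfl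
  set P' : Subgroup (MulAut E) := (P : Subgroup H).map H.subtype
  have hP'c : Nat.card P' = 9 := by
    rw [← Nat.card_congr (Subgroup.equivMapOfInjective _ _ H.subtype_injective).toEquiv]; exact hP9
  have hP'K : P' ≤ K := by
    rintro _ ⟨y, hy, rfl⟩
    refine ⟨y.2, mem_centralizer_singleton_iff.2 ?_⟩
    haveI : IsMulCommutative P := ⟨⟨IsPGroup.commutative_of_card_eq_prime_sq (p := 3) (G := P) (by rw [hP9]; rfl)⟩⟩
    exact congrArg (fun g : H => (g : MulAut E))
      (Subtype.mk.inj (mul_comm' (⟨y, hy⟩ : P) ⟨_, hP (mem_zpowers _)⟩))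
  have h9 : 9 ∣ Nat.card K := hP'c ▸ card_dvd_of_le hP'K
  by_cases h4 : 4 ∣ Nat.card K
  · obtain ⟨F, hF⟩ := Sylow.exists_subgroup_card_pow_prime 2 (G := K) (n := 2) (by simpa using h4)
    have hsq : ∀ g : F, g * g = 1 := fun g => by
      refine Subtype.ext (Subtype.ext ?_)
      refine sq_eq_one_of_comm h16 h2 hX ?_ (hKc (g : K).2)
      have := congrArg (fun g : F => ((g : K) : MulAut E)) (pow_card_eq_one' (G := F) (x := g))
      rw [hF] at this
      simpa using this
    haveI : Fintype F := Fintype.ofFinite F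
    have hFc : Fintype.card F = 4 := by rw [← Nat.card_eq_fintype_card, hF]; rfl
    obtain ⟨u, -, hu⟩ := Finset.exists_mem_notMem_of_card_lt_card
      (show ({1} : Finset F).card < (Finset.univ : Finset F).card by
        rw [Finset.card_univ, hFc, Finset.card_singleton]; norm_num)
    obtain ⟨v, -, hv⟩ := Finset.exists_mem_notMem_of_card_lt_card
      (show ({1, u} : Finset F).card < (Finset.univ : Finset F).card by
        rw [Finset.card_univ, hFc]; exact Finset.card_le_two.trans_lt (by norm_num))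
    simp only [Finset.mem_insert, Finset.mem_singleton, not_or] at hu hv
    have val1 : ∀ g : F, ((g : K) : MulAut E) = 1 → g = 1 := fun g h => Subtype.ext (Subtype.ext h)
    refine ⟨((u : K) : MulAut E), ((v : K) : MulAut E), (u : K).2.1, (v : K).2.1, fun h => hu (val1 u h),
      fun h => hv.1 (val1 v h), fun h => hv.2 (Subtype.ext (Subtype.ext h.symm)),
      congrArg (fun g : F => ((g : K) : MulAut E)) (hsq u), congrArg (fun g : F => ((g : K) : MulAut E)) (hsq v),
      congrArg (fun g : F => ((g : K) : MulAut E)) (exp2_comm hsq u v), hKc (u : K).2, hKc (v : K).2⟩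
  exfalso
  have h7 : ¬7 ∣ Nat.card K := fun h => by
    obtain ⟨R, hR⟩ := exists_prime_orderOf_dvd_card' (G := K) 7 h
    have hR7 : (R : MulAut E) ^ 7 = 1 := by
      rw [← Subgroup.coe_pow, ← hR, pow_orderOf_eq_one]; rfl
    have h1 : R = 1 := Subtype.ext (seven_trivial h16 hX hR7 (hKc R.2))
    rw [h1, orderOf_one] at hR
    norm_num at hR
  have hk : Nat.card K = 45 ∨ Nat.card K = 90 := by
    have key : ∀ k ∈ Nat.divisors 2520, 23 ≤ k → 9 ∣ k → ¬4 ∣ k → ¬7 ∣ k → k = 45 ∨ k = 90 := by decide +kernel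
    exact key _ (Nat.mem_divisors.2 ⟨hdvd, by norm_num⟩) (by omega) h9 h4 h7
  -- a subgroup of order 45
  obtain ⟨L, hLK, hL⟩ : ∃ L : Subgroup (MulAut E), L ≤ K ∧ Nat.card L = 45 := by
    rcases hk with hk | hk
    · exact ⟨K, le_rfl, hk⟩
    · obtain ⟨S⟩ : Nonempty (Sylow 2 K) := inferInstance
      have hS : Nat.card S = 2 := by
        rw [S.card_eq_multiplicity, hk, show (90 : ℕ) = 2 ^ 1 * 45 from rfl, Nat.factorization_mul (by norm_num)
          (by norm_num), Finsupp.add_apply, Nat.Prime.factorization_pow Nat.prime_two, Finsupp.single_eq_same,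
          Nat.factorization_eq_zero_of_not_dvd (by norm_num)]; rfl
      have hc : IsCyclic S := isCyclic_of_prime_card hS
      have hmin : (Nat.card K).minFac = 2 := by rw [hk]; norm_num
      have hcompl := (hc.isComplement' hmin).card_mul
      rw [hS, hk] at hcompl
      refine ⟨(MonoidHom.transferSylow S (hc.normalizer_le_centralizer hmin)).ker.map K.subtype,
        map_subtype_le _, ?_⟩
      rw [← Nat.card_congr (Subgroup.equivMapOfInjective _ _ K.subtype_injective).toEquiv]
      omega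
  obtain ⟨Q⟩ : Nonempty (Sylow 3 L) := inferInstance
  have hQ : Nat.card Q = 9 := by
    rw [Q.card_eq_multiplicity, hL, show (45 : ℕ) = 3 ^ 2 * 5 from rfl, Nat.factorization_mul (by norm_num)
      (by norm_num), Finsupp.add_apply, Nat.Prime.factorization_pow Nat.prime_three, Finsupp.single_eq_same,
      Nat.factorization_eq_zero_of_not_dvd (by norm_num)]; rfl
  obtain ⟨R⟩ : Nonempty (Sylow 5 L) := inferInstance
  have hR : Nat.card R = 5 := by
    rw [R.card_eq_multiplicity, hL, show (45 : ℕ) = 5 ^ 1 * 9 from rfl, Nat.factorization_mul (by norm_num)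
      (by norm_num), Finsupp.add_apply, Nat.Prime.factorization_pow (by norm_num), Finsupp.single_eq_same,
      Nat.factorization_eq_zero_of_not_dvd (by norm_num)]; rfl
  have hn5 : Nat.card (Sylow 5 L) = 1 := by
    have h1 := R.card_dvd_index
    have h2' := card_sylow_modEq_one 5 L
    have hidx : (R : Subgroup L).index = 9 := by
      have := (R : Subgroup L).card_mul_index
      rw [hR, hL] at this; omega
    rw [hidx] at h1
    have := Nat.le_of_dvd (by norm_num) h1
    interval_cases Nat.card (Sylow 5 L) <;> simp_all [Nat.ModEq]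
  haveI : Subsingleton (Sylow 5 L) := (Nat.card_eq_one_iff_unique.1 hn5).1
  haveI : (R : Subgroup L).Normal := R.normal_of_subsingleton
  haveI hRc : IsCyclic R := isCyclic_of_prime_card hR
  obtain ⟨r, hr⟩ := exists_prime_orderOf_dvd_card' (G := R) 5 (by rw [hR])
  have hcomm : ∀ y : Q, ∀ r : R, (y : L) * r = r * y := by
    intro y r
    have hψ : (MulAut.conjNormal.comp (Q : Subgroup L).subtype : Q →* MulAut R) y = 1 := by
      refine orderOf_eq_one_iff.1 (Nat.eq_one_of_dvd_coprimes (a := 9) (b := 4) (by norm_num) ?_ ?_)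
      · exact (orderOf_map_dvd _ y).trans (hQ ▸ orderOf_dvd_natCard y)
      · have := orderOf_dvd_natCard (G := MulAut R) ((MulAut.conjNormal.comp (Q : Subgroup L).subtype : Q →* MulAut R) y)
        rwa [hRc.card_mulAut, hR, show Nat.totient 5 = 4 by decide] at this
    have := congrArg Subtype.val (congrArg (fun f : MulAut R => f r) hψ)
    exact mul_inv_eq_iff_eq_mul.1 (this : (y : L) * r * (y : L)⁻¹ = r)
  let Q' : Subgroup (MulAut E) := (Q : Subgroup L).map L.subtype
  have hQ' : Nat.card Q' = 9 := by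
    rw [← Nat.card_congr (Subgroup.equivMapOfInjective _ _ L.subtype_injective).toEquiv]; exact hQ
  obtain ⟨_, ⟨y, hy, rfl⟩, hy1, e, he, hye⟩ := nine_fixed h16 Q' hQ'
  have hy9 : (y : MulAut E) ^ 9 = 1 := by
    have := congrArg (fun g : Q => ((g : L) : MulAut E)) (pow_card_eq_one' (G := Q) (x := ⟨y, hy⟩))
    rw [hQ] at this
    simpa using this
  have hr5 : ((r : L) : MulAut E) ^ 5 = 1 := by
    have h5 : r ^ 5 = 1 := orderOf_dvd_iff_pow_eq_one.1 (dvd_of_eq hr)
    exact congrArg (fun g : R => ((g : L) : MulAut E)) h5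
  have h1 : r = 1 := Subtype.ext (Subtype.ext (five_trivial h16 hy9 hy1 hr5
    (congrArg Subtype.val (hcomm ⟨y, hy⟩ r)).symm hye he))
  rw [h1, orderOf_one] at hr
  norm_num at hr

end CfsgLib.Invol.AltDoubleCover
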