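import Cfsg.Agent.Lib.Invol.AltDoubleCover.Perms

/-!
# The regular elementary group of order eight in degree nine and ten
-/

set_option autoImplicit false
set_option maxRecDepth 100000

namespace CfsgLib.Invol.AltDoubleCover

open Equiv Subgroup

/-- Addition of bit vectors of length three. -/
def vx (v w : Fin 8) : Fin 8 := ⟨((v : ℕ) ^^^ (w : ℕ)) % 8, Nat.mod_lt _ (by norm_num)⟩

/-- The translations. -/
def tr (v : Fin 8) : Perm (Fin 9) :=
  (swap 0 1 * swap 2 3 * swap 4 5 * swap 6 7) ^ ((v : ℕ) % 2) *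
    (swap 0 2 * swap 1 3 * swap 4 6 * swap 5 7) ^ ((v : ℕ) / 2 % 2) *
    (swap 0 4 * swap 1 5 * swap 2 6 * swap 3 7) ^ ((v : ℕ) / 4)

/-- The unitriangular maps. -/
def uni (v : Fin 8) : Perm (Fin 9) :=
  (swap 2 3 * swap 6 7) ^ ((v : ℕ) % 2) * (swap 4 6 * swap 5 7) ^ ((v : ℕ) / 2 % 2) *
    (swap 4 5 * swap 6 7) ^ ((v : ℕ) / 4)

/-- A linear map of order three. -/
def l3 : Perm (Fin 9) := swap 1 2 * swap 2 4 * (swap 3 6 * swap 6 5)
/-- A linear map of order seven. -/
def l7 : Perm (Fin 9) := swap 1 2 * swap 2 4 * swap 4 3 * swap 3 6 * swap 6 7 * swap 7 5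

theorem tr_mul : ∀ v w, tr v * tr w = tr (vx v w) := by decide +kernel
theorem vx_self : ∀ v, vx v v = 0 := by decide +kernel
theorem tr_zero : tr 0 = 1 := by decide +kernel
theorem tr_sign : ∀ v, Perm.sign (tr v) = 1 := by decide +kernel
theorem tr_support : ∀ v, v ≠ 0 → (tr v).support.card = 8 := by decide +kernel
theorem tr_apply_zero : ∀ v : Fin 8, tr v 0 = Fin.castLE (by norm_num) v := by decide +kernel
theorem tr_zero_apply : ∀ j : Fin 9, (j : ℕ) < 8 → ∃ v, tr v 0 = j := by decide +kernel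
theorem bits_xor : ∀ v w : Fin 8, (vx v w : ℕ) % 2 = ((v : ℕ) % 2 + (w : ℕ) % 2) % 2 ∧
    (vx v w : ℕ) / 2 % 2 = ((v : ℕ) / 2 % 2 + (w : ℕ) / 2 % 2) % 2 ∧
    (vx v w : ℕ) / 4 = ((v : ℕ) / 4 + (w : ℕ) / 4) % 2 := by decide +kernel
theorem tr_gen : ∀ v : Fin 8, tr v = tr 1 ^ ((v : ℕ) % 2) * tr 2 ^ ((v : ℕ) / 2 % 2) * tr 4 ^ ((v : ℕ) / 4) := by
  decide +kernel

theorem lin_facts : Perm.sign l3 = 1 ∧ Perm.sign l7 = 1 ∧ l3 ^ 3 = 1 ∧ l7 ^ 7 = 1 ∧ l3 ≠ 1 ∧ l7 ≠ 1 ∧
    l3 0 = 0 ∧ l7 0 = 0 ∧ (∀ v, ∃ w, l3 * tr v = tr w * l3) ∧ (∀ v, ∃ w, l7 * tr v = tr w * l7) :=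
  ⟨by decide +kernel, by decide +kernel, by decide +kernel, by decide +kernel, by decide +kernel, by decide +kernel,
    by decide +kernel, by decide +kernel, by decide +kernel, by decide +kernel⟩

theorem uni_facts : (∀ v, Perm.sign (uni v) = 1 ∧ uni v 0 = 0) ∧ (∀ v w, ∃ u, uni v * uni w = uni u) ∧
    Function.Injective uni ∧ uni 0 = 1 ∧ ∀ u v, ∃ w, uni u * tr v = tr w * uni u :=
  ⟨by decide +kernel, by decide +kernel, by decide +kernel, by decide +kernel, by decide +kernel⟩

/-- The images of three generators. -/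
def triples : Finset (Fin 8 × Fin 8 × Fin 8) := Finset.univ.filter fun p =>
  p.1 ≠ 0 ∧ p.2.1 ≠ 0 ∧ p.2.1 ≠ p.1 ∧ p.2.2 ≠ 0 ∧ p.2.2 ≠ p.1 ∧ p.2.2 ≠ p.2.1 ∧ p.2.2 ≠ vx p.1 p.2.1

theorem card_triples : triples.card = 168 := by decide +kernel

theorem tr_indep : vx 1 2 = 3 ∧ (1 : Fin 8) ≠ 0 ∧ (2 : Fin 8) ≠ 0 ∧ (2 : Fin 8) ≠ 1 ∧ (4 : Fin 8) ≠ 0 ∧
    (4 : Fin 8) ≠ 1 ∧ (4 : Fin 8) ≠ 2 ∧ (4 : Fin 8) ≠ 3 := by decide +kernel

variable {n : ℕ}

/-- The translation group on the first eight of `n` points. -/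
def TT (h : 9 ≤ n) : Subgroup (Perm (Fin n)) where
  carrier := Set.range fun v => emb h (tr v)
  one_mem' := ⟨0, by simp only [tr_zero, map_one]⟩
  mul_mem' := by
    rintro _ _ ⟨v, rfl⟩ ⟨w, rfl⟩
    exact ⟨vx v w, by simp only [← map_mul, tr_mul]⟩
  inv_mem' := by
    rintro _ ⟨v, rfl⟩
    refine ⟨v, ?_⟩
    simp only
    refine (inv_eq_of_mul_eq_one_right ?_).symm
    rw [← map_mul, tr_mul, vx_self, tr_zero, map_one]

theorem mem_TT {h : 9 ≤ n} {x : Perm (Fin n)} : x ∈ TT h ↔ ∃ v, emb h (tr v) = x := Iff.rfl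

theorem tr_emb_injective (h : 9 ≤ n) : Function.Injective fun v : Fin 8 => emb h (tr v) := fun v w e => by
  have := congrArg (fun σ : Perm (Fin 9) => σ 0) (emb_injective h e)
  simp only [tr_apply_zero] at this
  exact Fin.castLE_injective _ this

theorem card_TT (h : 9 ≤ n) : Nat.card (TT h) = 8 := by
  have e : Nat.card (TT h) = Nat.card (Fin 8) :=
    (Nat.card_congr (Equiv.ofBijective (fun v => (⟨emb h (tr v), v, rfl⟩ : TT h))
      ⟨fun v w e => tr_emb_injective h (congrArg Subtype.val e), by rintro ⟨x, v, rfl⟩; exact ⟨v, rfl⟩⟩)).symm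
  rw [e, Nat.card_fin]

theorem TT_facts {h : 9 ≤ n} {x : Perm (Fin n)} (hx : x ∈ TT h) :
    x * x = 1 ∧ Perm.sign x = 1 ∧ (x ≠ 1 → x.support.card = 8) := by
  obtain ⟨v, rfl⟩ := mem_TT.1 hx
  refine ⟨by rw [← map_mul, tr_mul, vx_self, tr_zero, map_one], by rw [sign_emb, tr_sign], fun hne => ?_⟩
  rw [card_support_emb, tr_support]
  rintro rfl
  exact hne (by rw [tr_zero, map_one])

/-- An even permutation centralising the translations is one. -/
theorem TT_cent (h : 9 ≤ n) (h10 : n ≤ 10) {ν : Perm (Fin n)} (hs : Perm.sign ν = 1)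
    (hc : ∀ x ∈ TT h, ν * x = x * ν) : ν ∈ TT h := by
  classical
  let p0 : Fin n := Fin.castLE h 0
  have hlt : (ν p0 : ℕ) < 8 := by
    by_contra hge
    have e := congrArg (fun g : Perm (Fin n) => g p0) (hc _ (mem_TT.2 ⟨1, rfl⟩))
    simp only [Perm.mul_apply, p0, emb_apply_lt] at e
    have hfix : emb h (tr 1) (ν (Fin.castLE h 0)) = ν (Fin.castLE h 0) := by
      by_cases h9 : (ν (Fin.castLE h 0) : ℕ) < 9
      · obtain ⟨j, hj⟩ : ∃ j : Fin 9, ν (Fin.castLE h 0) = Fin.castLE h j := ⟨⟨_, h9⟩, Fin.ext rfl⟩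
        have key : ∀ j : Fin 9, ¬(j : ℕ) < 8 → tr 1 j = j := by decide +kernel
        rw [hj, emb_apply_lt, key j (by
          have : (ν p0 : ℕ) = (j : ℕ) := by simp only [p0, hj]; rfl
          omega)]
      · exact emb_apply_ge h _ (by omega)
    rw [hfix] at e
    have := Fin.castLE_injective h (ν.injective e)
    revert this; decide +kernel
  obtain ⟨w, hw⟩ := tr_zero_apply ⟨ν p0, by omega⟩ hlt
  set τ := emb h (tr w) with hτ
  have hτm : τ ∈ TT h := mem_TT.2 ⟨w, rfl⟩
  have hν0 : ν p0 = τ p0 := by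
    simp only [hτ, p0, emb_apply_lt, hw]
    exact Fin.ext rfl
  set μ := τ⁻¹ * ν with hμ
  have hfix : ∀ i : Fin n, (i : ℕ) < 8 → μ i = i := by
    intro i hi
    obtain ⟨v, hv⟩ := tr_zero_apply ⟨i, by omega⟩ hi
    have hi' : emb h (tr v) p0 = i := by
      simp only [p0, emb_apply_lt, hv]; exact Fin.ext rfl
    have hcv : μ * emb h (tr v) = emb h (tr v) * μ := by
      have a1 := hc _ (mem_TT.2 ⟨v, rfl⟩)
      have a2 : Commute τ (emb h (tr v)) := by
        show _ = _
        rw [hτ, ← map_mul, ← map_mul, tr_mul, tr_mul]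
        congr 1
        have : ∀ a b : Fin 8, vx a b = vx b a := by decide +kernel
        rw [this]
      exact ((a2.inv_left).mul_left (show Commute ν _ from a1)).eq
    have h0 : μ p0 = p0 := by
      rw [hμ, Perm.mul_apply, hν0, Perm.inv_def, Equiv.symm_apply_apply]
    calc μ i = (μ * emb h (tr v)) p0 := (congrArg μ hi').symm
      _ = _ := by rw [hcv, Perm.mul_apply, h0, hi']
  have hsub : μ.support ⊆ Finset.univ.filter fun i : Fin n => ¬(i : ℕ) < 8 := fun i hi =>
    Finset.mem_filter.2 ⟨Finset.mem_univ _, fun hlt => Perm.mem_support.1 hi (hfix i hlt)⟩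
  have hle := Finset.card_le_card hsub
  have hcnt : (Finset.univ.filter fun i : Fin n => ¬(i : ℕ) < 8).card ≤ 2 := by
    rcases (show n = 9 ∨ n = 10 by omega) with rfl | rfl <;> decide
  have hone : μ = 1 := by
    by_contra hne
    have h2 : μ.support.card = 2 := by
      have h1 := Perm.one_lt_card_support_of_ne_one hne
      omega
    obtain ⟨x, y, hxy, rfl'⟩ := Perm.card_support_eq_two.1 h2
    have : Perm.sign μ = 1 := by rw [hμ, map_mul, map_inv, hs, (TT_facts hτm).2.1, inv_one, mul_one]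
    rw [rfl', Perm.sign_swap hxy] at this
    revert this; decide
  rw [show ν = τ by rw [← mul_one τ, ← hone, hμ, mul_inv_cancel_left]]
  exact hτm

/-- The even permutations normalising the translations. -/
def Nrm (h : 9 ≤ n) : Subgroup (Perm (Fin n)) := alternatingGroup (Fin n) ⊓ normalizer (TT h : Set (Perm (Fin n)))

theorem TT_le_Nrm (h : 9 ≤ n) : TT h ≤ Nrm h := fun x hx =>
  ⟨Perm.mem_alternatingGroup.2 (TT_facts hx).2.1, le_normalizer hx⟩

theorem emb_mem_Nrm (h : 9 ≤ n) {g : Perm (Fin 9)} (hs : Perm.sign g = 1) (hg : ∀ v, ∃ w, g * tr v = tr w * g) :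
    emb h g ∈ Nrm h := by
  refine ⟨Perm.mem_alternatingGroup.2 (by rw [sign_emb, hs]), mem_normalizer_iff_map_conj_eq.2 ?_⟩
  refine eq_of_le_of_card_ge ?_ (le_of_eq (Nat.card_congr ((TT h).equivMapOfInjective _ (MulAut.conj _).injective).toEquiv))
  rintro _ ⟨x, hx, rfl⟩
  obtain ⟨v, rfl⟩ := mem_TT.1 hx
  obtain ⟨w, hw⟩ := hg v
  refine mem_TT.2 ⟨w, ?_⟩
  show _ = emb h g * emb h (tr v) * (emb h g)⁻¹
  rw [← map_mul, hw, map_mul, mul_inv_cancel_right]

/-- The stabiliser of the first point in the normalizer. -/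
def Nrm0 (h : 9 ≤ n) : Subgroup (Perm (Fin n)) := Nrm h ⊓ MulAction.stabilizer (Perm (Fin n)) (Fin.castLE h 0)

theorem card_Nrm0 (h : 9 ≤ n) : 168 ∣ Nat.card (Nrm0 h) := by
  have hmem : ∀ {g : Perm (Fin 9)}, Perm.sign g = 1 → g 0 = 0 → (∀ v, ∃ w, g * tr v = tr w * g) →
      emb h g ∈ Nrm0 h := fun hs h0 hg => ⟨emb_mem_Nrm h hs hg, by
    show emb h _ (Fin.castLE h 0) = _
    rw [emb_apply_lt, h0]⟩
  obtain ⟨s3, s7, c3, c7', n3, n7, f3, f7, g3, g7⟩ := lin_facts
  obtain ⟨u1, u2, u3, u4, u5⟩ := uni_facts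
  haveI : Fact (Nat.Prime 3) := ⟨Nat.prime_three⟩
  haveI : Fact (Nat.Prime 7) := ⟨by norm_num⟩
  have d3 : 3 ∣ Nat.card (Nrm0 h) := by
    have := card_dvd_of_le (zpowers_le.2 (hmem s3 f3 g3))
    rwa [Nat.card_zpowers, orderOf_eq_prime (p := 3) (by rw [← map_pow, c3, map_one])
      fun e => n3 (emb_injective h (e.trans (map_one _).symm))] at this
  have d7 : 7 ∣ Nat.card (Nrm0 h) := by
    have := card_dvd_of_le (zpowers_le.2 (hmem s7 f7 g7))
    rwa [Nat.card_zpowers, orderOf_eq_prime (p := 7) (by rw [← map_pow, c7', map_one])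
      fun e => n7 (emb_injective h (e.trans (map_one _).symm))] at this
  let U : Subgroup (Perm (Fin n)) :=
    { carrier := Set.range fun v => emb h (uni v)
      one_mem' := ⟨0, by simp only [u4, map_one]⟩
      mul_mem' := by
        rintro _ _ ⟨v, rfl⟩ ⟨w, rfl⟩
        obtain ⟨u, hu⟩ := u2 v w
        exact ⟨u, by simp only [← map_mul, hu]⟩
      inv_mem' := by
        rintro _ ⟨v, rfl⟩
        have key : ∀ v, ∃ u, uni v * uni u = 1 := by decide +kernel
        obtain ⟨u, hu⟩ := key v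
        exact ⟨u, (inv_eq_of_mul_eq_one_right (by rw [← map_mul, hu, map_one])).symm⟩ }
  have hU : Nat.card U = Nat.card (Fin 8) :=
    (Nat.card_congr (Equiv.ofBijective (fun v => (⟨emb h (uni v), v, rfl⟩ : U))
      ⟨fun v w e => u3 (emb_injective h (congrArg Subtype.val e)), by rintro ⟨x, v, rfl⟩; exact ⟨v, rfl⟩⟩)).symm
  have d8 : 8 ∣ Nat.card (Nrm0 h) := by
    have hle : U ≤ Nrm0 h := by
      rintro _ ⟨v, rfl⟩
      exact hmem (u1 v).1 (u1 v).2 (u5 v)
    have := card_dvd_of_le hle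
    rwa [hU, Nat.card_fin] at this
  have := Nat.Coprime.mul_dvd_of_dvd_of_dvd (by norm_num) (Nat.Coprime.mul_dvd_of_dvd_of_dvd (by norm_num) d3 d7) d8
  simpa using this

theorem card_Nrm_le (h : 9 ≤ n) (h10 : n ≤ 10) : Nat.card (Nrm h) ≤ 1344 := by
  classical
  have himg : ∀ (ν : Nrm h) (v : Fin 8), ∃ w, (ν : Perm (Fin n)) * emb h (tr v) * (ν : Perm (Fin n))⁻¹ =
      emb h (tr w) := fun ν v => by
    obtain ⟨w, hw⟩ := mem_TT.1 ((mem_normalizer_iff.1 ν.2.2 _).1 (mem_TT.2 ⟨v, rfl⟩))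
    exact ⟨w, hw.symm⟩
  choose f hf using himg
  have finj : ∀ ν, Function.Injective (f ν) := fun ν v w e => tr_emb_injective h (by
    have h1 := hf ν v
    rw [e, ← hf ν w] at h1
    exact mul_left_cancel (mul_right_cancel h1))
  have fvx : ∀ ν v w, f ν (vx v w) = vx (f ν v) (f ν w) := fun ν v w => tr_emb_injective h (by
    show emb h (tr _) = emb h (tr _)
    rw [← hf, ← tr_mul, ← tr_mul, map_mul, map_mul, ← hf, ← hf]; group)
  have f0 : ∀ ν, f ν 0 = 0 := fun ν => tr_emb_injective h (by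
    show emb h (tr _) = emb h (tr _)
    rw [← hf, tr_zero, map_one]; group)
  obtain ⟨i3, i1, i2, i21, i4, i41, i42, i43⟩ := tr_indep
  have htri : ∀ ν, (f ν 1, f ν 2, f ν 4) ∈ triples := fun ν => by
    refine Finset.mem_filter.2 ⟨Finset.mem_univ _, ?_⟩
    simp only
    rw [← fvx, i3, ← f0 ν]
    exact ⟨(finj ν).ne i1, (finj ν).ne i2, (finj ν).ne i21, (finj ν).ne i4, (finj ν).ne i41, (finj ν).ne i42,
      (finj ν).ne i43⟩
  have hlt : ∀ ν : Nrm h, ((ν : Perm (Fin n)) (Fin.castLE h 0) : ℕ) < 8 := fun ν => by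
    by_contra hge
    obtain ⟨w, hw⟩ := mem_TT.1 ((mem_normalizer_iff''.1 ν.2.2 _).1 (mem_TT.2 ⟨1, rfl⟩))
    have h1 : emb h (tr 1) ((ν : Perm (Fin n)) (Fin.castLE h 0)) = (ν : Perm (Fin n)) (Fin.castLE h 0) := by
      by_cases h9 : ((ν : Perm (Fin n)) (Fin.castLE h 0) : ℕ) < 9
      · obtain ⟨j, hj⟩ : ∃ j : Fin 9, (ν : Perm (Fin n)) (Fin.castLE h 0) = Fin.castLE h j :=
          ⟨⟨_, h9⟩, Fin.ext rfl⟩
        have key : ∀ j : Fin 9, ¬(j : ℕ) < 8 → tr 1 j = j := by decide +kernel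
        rw [hj, emb_apply_lt, key j (by rw [hj] at hge; simpa using hge)]
      · exact emb_apply_ge h _ (by omega)
    have h2 := congrArg (fun g : Perm (Fin n) => g (Fin.castLE h 0)) hw
    simp only [Perm.mul_apply, Perm.inv_def, h1, Equiv.symm_apply_apply, emb_apply_lt, tr_apply_zero] at h2
    have hw0 : w = 0 := Fin.castLE_injective _ (Fin.castLE_injective h h2)
    rw [hw0, tr_zero, map_one] at hw
    have h3 : emb h (tr 1) = 1 := by
      rw [show emb h (tr 1) = (ν : Perm (Fin n)) * ((ν : Perm (Fin n))⁻¹ * emb h (tr 1) * ν) *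
        (ν : Perm (Fin n))⁻¹ by group, ← hw]
      group
    exact tr_indep.2.1 (tr_emb_injective h (h3.trans (show (1 : Perm (Fin n)) = emb h (tr 0) by rw [tr_zero, map_one])))
  let F : Nrm h → Fin 8 × ↥triples := fun ν => (⟨_, hlt ν⟩, ⟨_, htri ν⟩)
  have hF : Function.Injective F := by
    intro ν ν' e
    simp only [F, Prod.mk.injEq, Fin.mk.injEq, Subtype.mk.injEq] at e
    obtain ⟨e0, e1, e2, e4⟩ := e
    set μ := (ν' : Perm (Fin n))⁻¹ * ν
    have hμ : ∀ v, μ * emb h (tr v) = emb h (tr v) * μ := by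
      have hg : ∀ v ∈ ({1, 2, 4} : Finset (Fin 8)), μ * emb h (tr v) = emb h (tr v) * μ := by
        intro v hv
        have e' : f ν v = f ν' v := by
          simp only [Finset.mem_insert, Finset.mem_singleton] at hv
          rcases hv with rfl | rfl | rfl <;> assumption
        have := (hf ν v).trans ((congrArg (fun w => emb h (tr w)) e').trans (hf ν' v).symm)
        calc μ * emb h (tr v) = (ν' : Perm (Fin n))⁻¹ * ((ν : Perm (Fin n)) * emb h (tr v) *
              (ν : Perm (Fin n))⁻¹) * ν := by simp only [μ]; group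
          _ = (ν' : Perm (Fin n))⁻¹ * ((ν' : Perm (Fin n)) * emb h (tr v) * (ν' : Perm (Fin n))⁻¹) * ν := by
              rw [this]
          _ = _ := by simp only [μ]; group
      intro v
      rw [tr_gen v, map_mul, map_mul, map_pow, map_pow, map_pow]
      exact (((show Commute μ _ from hg 1 (by decide)).pow_right _).mul_right
        ((show Commute μ _ from hg 2 (by decide)).pow_right _)).mul_right
        ((show Commute μ _ from hg 4 (by decide)).pow_right _) |>.eq
    have hsμ : Perm.sign μ = 1 := by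
      rw [map_mul, map_inv, Perm.mem_alternatingGroup.1 ν.2.1, Perm.mem_alternatingGroup.1 ν'.2.1, inv_one, mul_one]
    obtain ⟨w, hw⟩ := mem_TT.1 (TT_cent h h10 hsμ (by
      intro x hx; obtain ⟨v, rfl⟩ := mem_TT.1 hx; exact hμ v))
    have h0 : μ (Fin.castLE h 0) = Fin.castLE h 0 := by
      show (ν' : Perm (Fin n))⁻¹ ((ν : Perm (Fin n)) (Fin.castLE h 0)) = _
      rw [show (ν : Perm (Fin n)) (Fin.castLE h 0) = (ν' : Perm (Fin n)) (Fin.castLE h 0) from Fin.ext e0,
        Perm.inv_def, Equiv.symm_apply_apply]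
    rw [← hw, emb_apply_lt, tr_apply_zero] at h0
    have hw0 : w = 0 := Fin.castLE_injective _ (Fin.castLE_injective h h0)
    rw [hw0, tr_zero, map_one, eq_comm, inv_mul_eq_one] at hw
    exact Subtype.ext hw.symm
  refine (Nat.card_le_card_of_injective F hF).trans (le_of_eq ?_)
  rw [Nat.card_prod, Nat.card_fin, Nat.card_eq_fintype_card, Fintype.card_coe, card_triples]

theorem card_Nrm (h : 9 ≤ n) (h10 : n ≤ 10) : Nat.card (Nrm h) = 1344 := by
  refine le_antisymm (card_Nrm_le h h10) ?_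
  have h168 := Nat.le_of_dvd Nat.card_pos (card_Nrm0 h)
  refine le_trans ?_ (Nat.card_le_card_of_injective
    (fun p : TT h × Nrm0 h => (⟨(p.1 : Perm (Fin n)) * p.2, mul_mem (TT_le_Nrm h p.1.2) p.2.2.1⟩ : Nrm h)) ?_)
  · rw [Nat.card_prod, card_TT]; omega
  · rintro ⟨⟨t, ht⟩, a⟩ ⟨⟨t', ht'⟩, a'⟩ e
    have e' : t * (a : Perm (Fin n)) = t' * a' := congrArg Subtype.val e
    obtain ⟨v, rfl⟩ := mem_TT.1 ht
    obtain ⟨v', rfl⟩ := mem_TT.1 ht'
    have ha : (a : Perm (Fin n)) (Fin.castLE h 0) = Fin.castLE h 0 := a.2.2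
    have ha' : (a' : Perm (Fin n)) (Fin.castLE h 0) = Fin.castLE h 0 := a'.2.2
    have h0 := congrArg (fun g : Perm (Fin n) => g (Fin.castLE h 0)) e'
    simp only [Perm.mul_apply, ha, ha', emb_apply_lt, tr_apply_zero] at h0
    obtain rfl : v = v' := Fin.castLE_injective _ (Fin.castLE_injective h h0)
    exact Prod.ext rfl (Subtype.ext (mul_left_cancel e'))

/-- An elementary group of order eight with all involutions moving eight points is conjugate to the translations. -/
theorem TT_classify (h : 9 ≤ n) (h10 : n ≤ 10) (T : Subgroup (Perm (Fin n))) (h8 : Nat.card T = 8)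
    (hsq : ∀ x ∈ T, x * x = 1) (hsup : ∀ x ∈ T, x ≠ 1 → x.support.card = 8) :
    ∃ σ : Perm (Fin n), T = (TT h).map (MulAut.conj σ).toMonoidHom := by
  classical
  have cm : ∀ x ∈ T, ∀ y ∈ T, x * y = y * x := fun x hx y hy => by
    have := hsq _ (mul_mem hx hy)
    rw [← inv_eq_iff_mul_eq_one, mul_inv_rev, inv_eq_of_mul_eq_one_right (hsq x hx),
      inv_eq_of_mul_eq_one_right (hsq y hy)] at this
    exact this.symm
  have hfixle : ∀ x ∈ T, x ≠ 1 → ∀ i j k : Fin n, i ≠ j → i ≠ k → j ≠ k → x i = i → x j = j → x k = k → False := by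
    intro x hx hne i j k ij ik jk hi hj hk
    have hsub : x.support ⊆ ({i, j, k} : Finset (Fin n))ᶜ := fun l hl => by
      rw [Perm.mem_support] at hl
      simp only [Finset.mem_compl, Finset.mem_insert, Finset.mem_singleton, not_or]
      exact ⟨fun e => hl (e ▸ hi), fun e => hl (e ▸ hj), fun e => hl (e ▸ hk)⟩
    have := Finset.card_le_card hsub
    rw [Finset.card_compl, Fintype.card_fin, Finset.card_eq_three.2 ⟨i, j, k, ij, ik, jk, rfl⟩, hsup x hx hne] at this
    omega
  -- a point with trivial stabiliser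
  obtain ⟨i, hfree⟩ : ∃ i : Fin n, ∀ x ∈ T, x i = i → x = 1 := by
    by_contra hcon
    push Not at hcon
    obtain ⟨x, hx, hxi, hx1⟩ := hcon ⟨0, by omega⟩
    obtain ⟨i, hi⟩ : ∃ i, x i ≠ i := by
      by_contra hall; push Not at hall; exact hx1 (Equiv.ext hall)
    obtain ⟨y, hy, hyi, hy1⟩ := hcon i
    obtain ⟨j, hj⟩ : ∃ j, y j ≠ j := by
      by_contra hall; push Not at hall; exact hy1 (Equiv.ext hall)
    have hcomm : ∀ u ∈ T, ∀ v ∈ T, ∀ k, u k = k → u (v k) = v k := fun u hu v hv k hk => by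
      rw [← Perm.mul_apply, cm u hu v hv, Perm.mul_apply, hk]
    have hyxi : y (x i) = x i := hcomm y hy x hx i hyi
    -- a nontrivial common fixer of `i` and `j`
    let S : Fin n → Subgroup T := fun k => (MulAction.stabilizer (Perm (Fin n)) k).subgroupOf T
    have hbig : ∀ k, 4 ≤ Nat.card (S k) := by
      intro k
      have hd := (S k).card_subgroup_dvd_card
      rw [h8] at hd
      by_contra hlt
      have hS : Nat.card (S k) ≤ 2 := by
        have := Nat.le_of_dvd (by norm_num) hd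
        interval_cases Nat.card (S k) <;> simp_all
      obtain ⟨w, hw, hwk, hw1⟩ := hcon k
      have himg : Nat.card T ≤ 2 * Nat.card (S k) := by
        have hb : ∀ t : T, (t : Perm (Fin n)) k = k ∨ ∀ t' : T, (t' : Perm (Fin n)) k ≠ k →
            (t : Perm (Fin n)) k = (t' : Perm (Fin n)) k := by
          intro t
          by_cases ht : (t : Perm (Fin n)) k = k
          · exact Or.inl ht
          refine Or.inr fun t' ht' => by_contra fun hne => ?_
          exact hfixle w hw hw1 k ((t : Perm (Fin n)) k) ((t' : Perm (Fin n)) k) (Ne.symm ht) (Ne.symm ht') hne hwk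
            (hcomm w hw t t.2 k hwk) (hcomm w hw t' t'.2 k hwk)
        by_cases hall : ∀ t : T, (t : Perm (Fin n)) k = k
        · have : S k = ⊤ := eq_top_iff.2 fun t _ => mem_subgroupOf.2 (hall t)
          rw [this, card_top]; omega
        push Not at hall
        obtain ⟨t0, ht0⟩ := hall
        let g : T → Fin 2 × S k := fun t =>
          if ht : (t : Perm (Fin n)) k = k then (0, ⟨t, mem_subgroupOf.2 ht⟩)
          else (1, ⟨t0⁻¹ * t, mem_subgroupOf.2 (by
            show ((t0 : Perm (Fin n))⁻¹ * t) k = k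
            rw [Perm.mul_apply, ((hb t).resolve_left ht) t0 ht0, Perm.inv_def, Equiv.symm_apply_apply])⟩)
        have hg : Function.Injective g := by
          intro a b e
          simp only [g] at e
          split_ifs at e with ha hb'
          · simpa using e
          · simp at e
          · simp at e
          · simpa using e
        have := Nat.card_le_card_of_injective g hg
        rwa [Nat.card_prod, Nat.card_fin] at this
      omega
    have hmeet : ∃ u ∈ T, u ≠ 1 ∧ u i = i ∧ u j = j := by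
      by_contra hno
      push Not at hno
      have hinj : Function.Injective fun p : S i × S j => (p.1 : T) * p.2 := by
        rintro ⟨a, b⟩ ⟨a', b'⟩ e
        have e1 : (a' : T)⁻¹ * a = (b' : T) * (b : T)⁻¹ := by
          simp only at e
          rw [eq_mul_inv_iff_mul_eq, mul_assoc, e, inv_mul_cancel_left]
        have h1 : (a' : T)⁻¹ * a = 1 := by
          by_contra hne
          refine hno _ ((a' : T)⁻¹ * a).2 (fun h => hne (Subtype.ext h)) (mem_subgroupOf.1 (mul_mem (inv_mem a'.2) a.2))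
            ?_
          rw [e1]
          exact mem_subgroupOf.1 (mul_mem b'.2 (inv_mem b.2))
        rw [h1, eq_comm, mul_inv_eq_one] at e1
        exact Prod.ext (Subtype.ext (inv_mul_eq_one.1 h1).symm) (Subtype.ext e1.symm)
      have := Nat.card_le_card_of_injective _ hinj
      rw [Nat.card_prod, h8] at this
      have := hbig i; have := hbig j
      nlinarith
    obtain ⟨u, hu, hu1, hui, huj⟩ := hmeet
    exact hfixle u hu hu1 i (x i) j (Ne.symm hi) (fun e => hj (by rw [← e]; exact hyi))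
      (fun e => hj (by rw [← e]; exact hyxi)) hui (hcomm u hu x hx i hui) huj
  -- a basis
  haveI : Fintype T := Fintype.ofFinite T
  have hT : Fintype.card T = 8 := by rw [← Nat.card_eq_fintype_card, h8]
  obtain ⟨b1, -, hb1⟩ := Finset.exists_mem_notMem_of_card_lt_card
    (show ({1} : Finset T).card < (Finset.univ : Finset T).card by
      rw [Finset.card_univ, hT, Finset.card_singleton]; norm_num)
  obtain ⟨b2, -, hb2⟩ := Finset.exists_mem_notMem_of_card_lt_card
    (show ({1, b1} : Finset T).card < (Finset.univ : Finset T).card by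
      rw [Finset.card_univ, hT]; exact Finset.card_le_two.trans_lt (by norm_num))
  obtain ⟨b4, -, hb4⟩ := Finset.exists_mem_notMem_of_card_lt_card
    (show ({1, b1, b2, b1 * b2} : Finset T).card < (Finset.univ : Finset T).card by
      rw [Finset.card_univ, hT]; exact Finset.card_le_four.trans_lt (by norm_num))
  simp only [Finset.mem_insert, Finset.mem_singleton, not_or] at hb1 hb2 hb4
  obtain ⟨q1, q2, q3, q4⟩ := hb4
  obtain ⟨p1, p2⟩ := hb2
  have sqT : ∀ b : T, b * b = 1 := fun b => Subtype.ext (hsq b b.2)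
  have cT : ∀ a b : T, a * b = b * a := fun a b => Subtype.ext (cm a a.2 b b.2)
  let φ : Fin 8 → T := fun v => b1 ^ ((v : ℕ) % 2) * b2 ^ ((v : ℕ) / 2 % 2) * b4 ^ ((v : ℕ) / 4)
  have hpow : ∀ (b : T) (x y : ℕ), b ^ ((x + y) % 2) = b ^ x * b ^ y := fun b x y => by
    conv_rhs => rw [← pow_add, ← Nat.mod_add_div (x + y) 2, pow_add, pow_mul, pow_two, sqT, one_pow, mul_one]
  have hφ : ∀ v w, φ (vx v w) = φ v * φ w := fun v w => by
    obtain ⟨e1, e2, e4⟩ := bits_xor v w
    simp only [φ, e1, e2, e4, hpow]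
    letI : CommGroup T := { (inferInstance : Group T) with mul_comm := cT }
    simp [mul_comm, mul_assoc, mul_left_comm]
  have inv' : ∀ b : T, b⁻¹ = b := fun b => inv_eq_of_mul_eq_one_right (sqT b)
  have eqm : ∀ {a b : T}, a * b = 1 → b = a := fun {a b} h => by
    rw [← inv' a]; exact eq_inv_of_mul_eq_one_right h
  have hker : ∀ v, φ v = 1 → v = 0 := by
    intro v hv
    obtain ⟨v, hv8⟩ := v
    interval_cases v
    · rfl
    · exact absurd (by simpa [φ] using hv) hb1
    · exact absurd (by simpa [φ] using hv) p1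
    · exact absurd (eqm (by simpa [φ] using hv)) p2
    · exact absurd (by simpa [φ] using hv) q1
    · exact absurd (eqm (by simpa [φ] using hv)) q2
    · exact absurd (eqm (by simpa [φ] using hv)) q3
    · exact absurd (eqm (by simpa [φ] using hv)) q4
  have hφinj : Function.Injective φ := fun v w e => by
    have key : ∀ v w : Fin 8, vx v w = 0 → v = w := by decide +kernel
    exact key v w (hker _ (by rw [hφ, e, sqT]))
  have hφsurj : Function.Surjective φ :=
    ((Fintype.bijective_iff_injective_and_card φ).2 ⟨hφinj, by rw [Fintype.card_fin, hT]⟩).2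
  -- the conjugator
  let f : Fin 8 → Fin n := fun v => (φ v : Perm (Fin n)) i
  have hf : Function.Injective f := fun v w e => hφinj (by
    have h1 : (φ v * φ w : T) = 1 := Subtype.ext (hfree _ (φ v * φ w).2 (by
      show (φ v : Perm (Fin n)) (f w) = i
      rw [← e]
      show ((φ v : Perm (Fin n)) * (φ v : Perm (Fin n))) i = i
      rw [hsq _ (φ v).2]; rfl))
    exact (eqm h1).symm)
  let e0 : {x : Fin n // (x : ℕ) < 8} ≃ {x : Fin n // x ∈ Set.range f} :=
    Equiv.ofBijective (fun x => ⟨f ⟨x, x.2⟩, ⟨_, rfl⟩⟩)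
      ⟨fun x y e => Subtype.ext (Fin.ext (congrArg Fin.val (hf (congrArg Subtype.val e)) :)),
        fun y => by
          obtain ⟨v, hv⟩ := y.2
          exact ⟨⟨Fin.castLE (by omega) v, by simp⟩, Subtype.ext hv⟩⟩
  let σ : Perm (Fin n) := e0.extendSubtype
  refine ⟨σ, (eq_of_le_of_card_ge ?_ ?_).symm⟩
  · rintro _ ⟨x, hx, rfl⟩
    obtain ⟨v, rfl⟩ := mem_TT.1 hx
    suffices hh : σ * emb h (tr v) = (φ v : Perm (Fin n)) * σ by
      show σ * emb h (tr v) * σ⁻¹ ∈ T
      rw [hh, mul_inv_cancel_right]; exact (φ v).2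
    refine Equiv.ext fun k => ?_
    rw [Perm.mul_apply, Perm.mul_apply]
    by_cases hk : (k : ℕ) < 8
    · obtain ⟨j, hj⟩ : ∃ j : Fin 9, k = Fin.castLE h j := ⟨⟨k, by omega⟩, Fin.ext rfl⟩
      have hj8 : (j : ℕ) < 8 := by rw [hj] at hk; simpa using hk
      have key : ∀ v : Fin 8, ∀ j : Fin 9, ∀ hj : (j : ℕ) < 8, (tr v j : ℕ) = (vx v ⟨j, hj⟩ : ℕ) := by decide +kernel
      rw [hj, emb_apply_lt]
      have a1 : σ (Fin.castLE h (tr v j)) = f (vx v ⟨j, hj8⟩) := by
        rw [Equiv.extendSubtype_apply_of_mem _ _ (by simp [key v j hj8])]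
        exact congrArg f (Fin.ext (by simp [key v j hj8]))
      have a2 : σ (Fin.castLE h j) = f ⟨j, hj8⟩ := by
        rw [Equiv.extendSubtype_apply_of_mem _ _ (by simpa using hj8)]
        exact congrArg f (Fin.ext (by simp))
      rw [a1, a2]
      show (φ (vx v ⟨j, hj8⟩) : Perm (Fin n)) i = _
      rw [hφ, Subgroup.coe_mul, Perm.mul_apply]
    · have hfix : emb h (tr v) k = k := by
        by_cases h9 : (k : ℕ) < 9
        · obtain ⟨j, hj⟩ : ∃ j : Fin 9, k = Fin.castLE h j := ⟨⟨k, h9⟩, Fin.ext rfl⟩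
          have key : ∀ v, ∀ j : Fin 9, ¬(j : ℕ) < 8 → tr v j = j := by decide +kernel
          rw [hj, emb_apply_lt, key v j (by rw [hj] at hk; simpa using hk)]
        · exact emb_apply_ge h _ (by omega)
      rw [hfix]
      have hnr : σ k ∉ Set.range f := e0.extendSubtype_not_mem k hk
      by_cases hv : v = 0
      · subst hv
        rw [show φ 0 = 1 by simp [φ]]; rfl
      have hne : (φ v : Perm (Fin n)) ≠ 1 := fun h1 => hv (hker v (Subtype.ext h1))
      have hsub : Finset.univ.image f ⊆ (φ v : Perm (Fin n)).support := fun y hy => by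
        obtain ⟨w, -, rfl⟩ := Finset.mem_image.1 hy
        rw [Perm.mem_support]
        intro h1
        refine hne (hfree _ (φ v).2 ?_)
        refine ((φ w : Perm (Fin n))).injective ?_
        rw [← Perm.mul_apply, ← cm _ (φ v).2 _ (φ w).2, Perm.mul_apply]
        exact h1
      have heq := Finset.eq_of_subset_of_card_le hsub (by
        rw [hsup _ (φ v).2 hne, Finset.card_image_of_injective _ hf, Finset.card_univ, Fintype.card_fin])
      symm
      by_contra hmv
      refine hnr ?_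
      have : σ k ∈ Finset.univ.image f := heq ▸ Perm.mem_support.2 hmv
      obtain ⟨w, -, hw⟩ := Finset.mem_image.1 this
      exact ⟨w, hw⟩
  · rw [h8, ← Nat.card_congr ((TT h).equivMapOfInjective _ (MulAut.conj σ).injective).toEquiv, card_TT]

end CfsgLib.Invol.AltDoubleCover
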