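import Cfsg.Agent.Lib.Invol.AltDoubleCover.Tools
import Cfsg.Agent.Lib.Invol.AltDoubleCover.Fpf
import Cfsg.Agent.Lib.Invol.AltDoubleCover.Regular

/-!
# The elementary subgroup of order sixteen and its normalizer

Its normalizer is transitive on its involutions and induces a group of order 2520.
-/

set_option autoImplicit false
set_option maxRecDepth 100000

noncomputable section

namespace CfsgLib.Invol.AltDoubleCover

open Equiv Subgroup

/-- A finite subgroup mapped into itself by conjugation is normalised. -/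
theorem mem_normalizer_of_conj {H : Type*} [Group H] {S : Subgroup H} [Finite S] {g : H}
    (h : ∀ x ∈ S, g * x * g⁻¹ ∈ S) : g ∈ normalizer (S : Set H) := by
  refine mem_normalizer_iff_map_conj_eq.2 (eq_of_le_of_card_ge (fun y hy => ?_) (le_of_eq
    (Nat.card_congr (S.equivMapOfInjective _ (MulAut.conj g).injective).toEquiv)))
  obtain ⟨x, hx, rfl⟩ := hy
  exact h x hx

namespace Ctx

variable {G : Type*} [Group G] {n : ℕ} (X : Ctx G n)

/-- A conjugate of the translation group. -/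
def TS (σ : Perm (Fin n)) : Subgroup (Perm (Fin n)) := (TT X.h9).map (MulAut.conj σ).toMonoidHom

theorem TS_one : X.TS 1 = TT X.h9 := by
  refine SetLike.ext fun x => ⟨?_, fun hx => Subgroup.mem_map.2 ⟨x, hx, by simp⟩⟩
  rintro ⟨y, hy, rfl⟩
  simpa using hy

theorem card_TS (σ : Perm (Fin n)) : Nat.card (X.TS σ) = 8 :=
  ((Nat.card_congr ((TT X.h9).equivMapOfInjective _ (MulAut.conj σ).injective).toEquiv).symm).trans (card_TT X.h9)

theorem TS_facts {σ x : Perm (Fin n)} (hx : x ∈ X.TS σ) :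
    x * x = 1 ∧ Perm.sign x = 1 ∧ (x ≠ 1 → x.support.card = 8) := by
  obtain ⟨y, hy, rfl⟩ := hx
  obtain ⟨h1, h2, h3⟩ := TT_facts hy
  refine ⟨by rw [← map_mul, h1, map_one], ?_, fun hne => ?_⟩
  · show Perm.sign (σ * y * σ⁻¹) = 1
    rw [map_mul, map_mul, h2, map_inv, mul_one, mul_inv_cancel]
  · show (σ * y * σ⁻¹).support.card = 8
    rw [Perm.card_support_conj]
    exact h3 fun e => hne (by rw [e, map_one])

theorem mul_mem_TS {σ : Perm (Fin n)} (g : Perm (Fin n)) {x : Perm (Fin n)} (hx : x ∈ X.TS σ) :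
    g * x * g⁻¹ ∈ X.TS (g * σ) := by
  obtain ⟨y, hy, rfl⟩ := hx
  refine ⟨y, hy, ?_⟩
  show g * σ * y * (g * σ)⁻¹ = g * (σ * y * σ⁻¹) * g⁻¹
  group

variable [Finite G]

theorem card_comap (S : Subgroup (Perm (Fin n))) (hS : ∀ x ∈ S, Perm.sign x = 1) :
    Nat.card (S.comap X.D.π) = 2 * Nat.card S := by
  let f := X.D.π.subgroupComap S
  have hsurj : f.range = ⊤ := MonoidHom.range_eq_top.2 fun y => by
    obtain ⟨c, hc⟩ := X.D.lift (y : Perm (Fin n)) (hS _ y.2)
    exact ⟨⟨c, show X.D.π c ∈ S from hc ▸ y.2⟩, Subtype.ext hc⟩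
  have hker : Nat.card f.ker = 2 := by
    let e : f.ker ≃ X.D.π.ker :=
      { toFun := fun x => ⟨x.1.1, congrArg Subtype.val x.2⟩
        invFun := fun x => ⟨⟨x.1, show X.D.π x.1 ∈ S by rw [show X.D.π x.1 = 1 from x.2]; exact one_mem S⟩,
          Subtype.ext x.2⟩
        left_inv := fun x => rfl
        right_inv := fun x => rfl }
    have hk : X.D.π.ker = zpowers X.D.z := by
      ext c
      rw [MonoidHom.mem_ker, X.D.ker]
      constructor
      · rintro (rfl | rfl)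
        · exact one_mem _
        · exact mem_zpowers _
      · intro h
        obtain ⟨i, rfl⟩ := mem_zpowers_iff.1 h
        rcases Int.even_or_odd i with ⟨j, rfl⟩ | ⟨j, rfl⟩
        · exact Or.inl (by rw [← two_mul, zpow_mul, zpow_two, X.D.zz, one_zpow])
        · exact Or.inr (by rw [zpow_add, zpow_mul, zpow_two, X.D.zz, one_zpow, one_mul, zpow_one])
    rw [Nat.card_congr e, hk, Nat.card_zpowers]
    exact orderOf_eq_prime (p := 2) (by rw [pow_two, X.D.zz]) X.D.z_ne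
  rw [← f.ker.card_mul_index, hker, Subgroup.index_ker, hsurj, card_top]

/-- The lift of a conjugate of the translations. -/
def ES (σ : Perm (Fin n)) : Subgroup ↥X.C := (X.TS σ).comap X.D.π

/-- The same in the group. -/
def EG (σ : Perm (Fin n)) : Subgroup G := (X.ES σ).map X.C.subtype

theorem card_EG (σ : Perm (Fin n)) : Nat.card (X.EG σ) = 16 := by
  rw [EG, ← Nat.card_congr (Subgroup.equivMapOfInjective _ _ X.C.subtype_injective).toEquiv, ES,
    X.card_comap _ fun x hx => (X.TS_facts hx).2.1, X.card_TS]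

theorem EG_le_C (σ : Perm (Fin n)) : X.EG σ ≤ X.C := map_subtype_le _

theorem mem_EG {σ : Perm (Fin n)} {c : ↥X.C} : (c : G) ∈ X.EG σ ↔ X.D.π c ∈ X.TS σ :=
  mem_map_iff_mem X.C.subtype_injective

theorem z_mem_EG (σ : Perm (Fin n)) : X.z ∈ X.EG σ := by
  rw [← X.Dz, X.mem_EG, X.D.π_z]; exact one_mem _

theorem EG_sq {σ : Perm (Fin n)} {x : G} (hx : x ∈ X.EG σ) : x * x = 1 := by
  obtain ⟨c, hc, rfl⟩ := hx
  obtain ⟨h1, -, h3⟩ := X.TS_facts hc
  show ((c * c : ↥X.C) : G) = 1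
  by_cases hπ : X.D.π c = 1
  · rcases X.cases_one hπ with e | e <;> rw [Subgroup.coe_mul, e]
    · rw [one_mul]
    · exact X.zz'
  · rw [X.D.sq_invol 2 c h1 (by rw [h3 hπ]), pow_two, X.D.zz]; rfl

theorem EG_comm {σ : Perm (Fin n)} {x y : G} (hx : x ∈ X.EG σ) (hy : y ∈ X.EG σ) : x * y = y * x := by
  have := exp2_comm (E := ↥(X.EG σ)) (fun e => Subtype.ext (X.EG_sq e.2)) ⟨x, hx⟩ ⟨y, hy⟩
  exact congrArg Subtype.val this

/-- It is its own centralizer. -/
theorem EG_cent {σ : Perm (Fin n)} {g : G} (hg : ∀ x ∈ X.EG σ, g * x = x * g) : g ∈ X.EG σ := by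
  have hgC : g ∈ X.C := X.mem_C.2 (hg _ (X.z_mem_EG σ))
  set c : ↥X.C := ⟨g, hgC⟩
  have hc : ∀ x ∈ X.TS σ, X.D.π c * x = x * X.D.π c := fun x hx => by
    obtain ⟨d, rfl⟩ := X.D.lift x (X.TS_facts hx).2.1
    rw [← map_mul, ← map_mul]
    exact congrArg _ (Subtype.ext (hg _ (X.mem_EG.2 hx)))
  have hν := TT_cent X.h9 X.h10 (ν := σ⁻¹ * X.D.π c * σ)
    (by rw [map_mul, map_mul, X.D.sgn, map_inv, mul_one, inv_mul_cancel]) fun x hx => by
      have := hc (σ * x * σ⁻¹) ⟨x, hx, rfl⟩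
      calc σ⁻¹ * X.D.π c * σ * x = σ⁻¹ * (X.D.π c * (σ * x * σ⁻¹)) * σ := by group
        _ = σ⁻¹ * (σ * x * σ⁻¹ * X.D.π c) * σ := by rw [this]
        _ = x * (σ⁻¹ * X.D.π c * σ) := by group
  refine X.mem_EG (c := c).2 ⟨_, hν, ?_⟩
  show σ * (σ⁻¹ * X.D.π c * σ) * σ⁻¹ = X.D.π c
  group

/-- Conjugation inside the centralizer. -/
theorem EG_conj (c : ↥X.C) (σ : Perm (Fin n)) :
    (X.EG σ).map (MulAut.conj (c : G)).toMonoidHom = X.EG (X.D.π c * σ) := by
  refine eq_of_le_of_card_ge ?_ (by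
    rw [← Nat.card_congr ((X.EG σ).equivMapOfInjective _ (MulAut.conj (c : G)).injective).toEquiv, X.card_EG,
      X.card_EG])
  rintro _ ⟨_, ⟨d, hd, rfl⟩, rfl⟩
  show ((c * d * c⁻¹ : ↥X.C) : G) ∈ _
  rw [X.mem_EG, map_mul, map_mul, map_inv]
  exact X.mul_mem_TS _ hd

/-- Classification. -/
theorem EG_classify (F : Subgroup G) (h16 : Nat.card F = 16) (hsq : ∀ x ∈ F, x * x = 1) (hz : X.z ∈ F) :
    ∃ σ, F = X.EG σ := by
  have hC : F ≤ X.C := fun x hx => X.mem_C.2 (congrArg Subtype.val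
    (exp2_comm (E := ↥F) (fun e => Subtype.ext (hsq e e.2)) ⟨x, hx⟩ ⟨X.z, hz⟩))
  set F' := F.subgroupOf X.C
  set T := F'.map X.D.π
  have hcard : Nat.card F' = 16 := by rw [Nat.card_congr (subgroupOfEquivOfLe hC).toEquiv, h16]
  have hcm : T.comap X.D.π = F' := comap_map_eq_self fun c hc => mem_subgroupOf.2 (by
    rcases (X.D.ker c).1 hc with e | e <;> rw [e]
    · exact one_mem _
    · rw [X.Dz]; exact hz)
  have hT8 : Nat.card T = 8 := by
    have := X.card_comap T (by rintro _ ⟨c, -, rfl⟩; exact X.D.sgn c)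
    rw [hcm, hcard] at this; omega
  obtain ⟨σ, hσ⟩ := TT_classify X.h9 X.h10 T hT8
    (by rintro _ ⟨c, hc, rfl⟩; rw [← map_mul, show c * c = 1 from Subtype.ext (hsq _ hc), map_one]) (by
      rintro _ ⟨c, hc, rfl⟩ hne
      obtain ⟨j, hj, hs⟩ := X.D.invol_support (c := c) (Subtype.ext (hsq _ hc)) hne
      have hle : (X.D.π c).support.card ≤ n := (Finset.card_le_univ _).trans (by rw [Fintype.card_fin])
      have := X.h10
      omega)
  refine ⟨σ, ?_⟩
  rw [EG, ES, TS, ← hσ, hcm, subgroupOf_map_subtype, inf_eq_left.2 hC]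

theorem card_stab (σ : Perm (Fin n)) : Nat.card ↥(normalizer (X.EG σ : Set G) ⊓ X.C) = 2688 := by
  set S := (Nrm X.h9).map (MulAut.conj σ).toMonoidHom
  have hS : ∀ x ∈ S, Perm.sign x = 1 := by
    rintro _ ⟨y, hy, rfl⟩
    show Perm.sign (σ * y * σ⁻¹) = 1
    rw [map_mul, map_mul, Perm.mem_alternatingGroup.1 hy.1, map_inv, mul_one, mul_inv_cancel]
  have hcard : Nat.card (S.comap X.D.π) = 2688 := by
    rw [X.card_comap S hS, ← Nat.card_congr ((Nrm X.h9).equivMapOfInjective _ (MulAut.conj σ).injective).toEquiv,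
      card_Nrm X.h9 X.h10]
  have heq : normalizer (X.EG σ : Set G) ⊓ X.C = (S.comap X.D.π).map X.C.subtype := by
    refine le_antisymm ?_ ?_
    · rintro g ⟨hgN, hgC⟩
      refine ⟨⟨g, hgC⟩, ⟨σ⁻¹ * X.D.π ⟨g, hgC⟩ * σ, ⟨Perm.mem_alternatingGroup.2
        (by rw [map_mul, map_mul, X.D.sgn, map_inv, mul_one, inv_mul_cancel]), ?_⟩, ?_⟩, rfl⟩
      · refine mem_normalizer_of_conj fun x hx => ?_
        obtain ⟨d, hd⟩ := X.D.lift (σ * x * σ⁻¹) (X.TS_facts ⟨x, hx, rfl⟩).2.1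
        have h1 : (d : G) ∈ X.EG σ := X.mem_EG.2 (hd ▸ ⟨x, hx, rfl⟩)
        have h2 := (mem_normalizer_iff.1 hgN _).1 h1
        rw [show g * (d : G) * g⁻¹ = (((⟨g, hgC⟩ : ↥X.C) * d * (⟨g, hgC⟩ : ↥X.C)⁻¹ : ↥X.C) : G) from rfl,
          X.mem_EG, map_mul, map_mul, map_inv, hd] at h2
        obtain ⟨y, hy, hy'⟩ := h2
        change σ * y * σ⁻¹ = _ at hy'
        have hyeq : σ⁻¹ * X.D.π ⟨g, hgC⟩ * σ * x * (σ⁻¹ * X.D.π ⟨g, hgC⟩ * σ)⁻¹ = y := by
          rw [show y = σ⁻¹ * (σ * y * σ⁻¹) * σ by group, hy']; group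
        rw [hyeq]; exact hy
      · show σ * (σ⁻¹ * X.D.π ⟨g, hgC⟩ * σ) * σ⁻¹ = _
        group
    · rintro _ ⟨c, ⟨y, hy, hyc⟩, rfl⟩
      refine ⟨mem_normalizer_of_conj fun x hx => ?_, c.2⟩
      obtain ⟨d, ⟨t, ht, hd⟩, rfl⟩ := hx
      show ((c * d * c⁻¹ : ↥X.C) : G) ∈ _
      rw [X.mem_EG, map_mul, map_mul, map_inv, ← hd, ← hyc]
      refine ⟨y * t * y⁻¹, (mem_normalizer_iff.1 hy.2 t).1 ht, ?_⟩
      show σ * (y * t * y⁻¹) * σ⁻¹ = σ * y * σ⁻¹ * (σ * t * σ⁻¹) * (σ * y * σ⁻¹)⁻¹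
      group
  rw [heq, ← Nat.card_congr (Subgroup.equivMapOfInjective _ _ X.C.subtype_injective).toEquiv, hcard]

/-- The normalizer. -/
def NE : Subgroup G := normalizer (X.EG 1 : Set G)

theorem card_NE : Nat.card X.NE = 40320 := by
  classical
  letI : MulAction ↥X.NE G := MulAction.compHom G ((MulAut.conj : G →* MulAut G).comp X.NE.subtype)
  have hsmul : ∀ (g : ↥X.NE) (x : G), g • x = (g : G) * x * (g : G)⁻¹ := fun _ _ => rfl
  let P : G → ℤˣ → Prop := fun e s => ∃ g σ, Perm.sign σ = s ∧ g * X.z * g⁻¹ = e ∧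
    (X.EG σ).map (MulAut.conj g).toMonoidHom = X.EG 1
  have mm : ∀ (H : Subgroup G) (a b : G), (H.map (MulAut.conj a).toMonoidHom).map (MulAut.conj b).toMonoidHom =
      H.map (MulAut.conj (b * a)).toMonoidHom := fun H a b => by
    rw [map_map]; congr 1; ext x; simp [mul_assoc]
  have mone : ∀ H : Subgroup G, H.map (MulAut.conj (1 : G)).toMonoidHom = H := fun H => by
    refine SetLike.ext fun x => ⟨?_, fun hx => Subgroup.mem_map.2 ⟨x, hx, by simp⟩⟩
    rintro ⟨y, hy, rfl⟩; simpa using hy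
  -- every involution of the subgroup has a class
  have hP : ∀ e ∈ X.EG 1, e ≠ 1 → ∃ s, P e s := by
    intro e he he1
    obtain ⟨g, hg⟩ := X.exists_conj_z (X.EG_sq he) he1 (X.EG_le_C 1 he)
    obtain ⟨σ, hσ⟩ := X.EG_classify ((X.EG 1).map (MulAut.conj g⁻¹).toMonoidHom)
      (by rw [← Nat.card_congr ((X.EG 1).equivMapOfInjective _ (MulAut.conj g⁻¹).injective).toEquiv, X.card_EG])
      (by rintro _ ⟨x, hx, rfl⟩; rw [← map_mul, X.EG_sq hx, map_one])
      ⟨e, he, by rw [← hg]; show g⁻¹ * (g * X.z * g⁻¹) * g⁻¹⁻¹ = X.z; group⟩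
    exact ⟨_, g, σ, rfl, hg, by rw [← hσ, mm, mul_inv_cancel, mone]⟩
  -- equal class gives conjugacy
  have hconj : ∀ e e' s, P e s → P e' s → e' ∈ MulAction.orbit ↥X.NE e := by
    rintro e e' s ⟨g, σ, hs, hg, hgE⟩ ⟨g', σ', hs', hg', hgE'⟩
    obtain ⟨c, hc⟩ := X.D.lift (σ' * σ⁻¹) (by rw [map_mul, map_inv, hs, hs', mul_inv_cancel])
    have hh : g' * (c : G) * g⁻¹ ∈ X.NE := by
      refine mem_normalizer_iff_map_conj_eq.2 ?_
      show (X.EG 1).map (MulAut.conj (g' * (c : G) * g⁻¹)).toMonoidHom = X.EG 1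
      conv_lhs => rw [← hgE]
      rw [mm, show g' * (c : G) * g⁻¹ * g = g' * (c : G) by group, ← mm, X.EG_conj, hc, inv_mul_cancel_right, hgE']
    refine ⟨⟨_, hh⟩, ?_⟩
    show (g' * (c : G) * g⁻¹) * e * (g' * (c : G) * g⁻¹)⁻¹ = e'
    rw [← hg, ← hg']
    calc g' * (c : G) * g⁻¹ * (g * X.z * g⁻¹) * (g' * (c : G) * g⁻¹)⁻¹
        = g' * ((c : G) * X.z * (c : G)⁻¹) * g'⁻¹ := by group
      _ = g' * X.z * g'⁻¹ := by rw [X.mem_C.1 c.2, mul_inv_cancel_right]
  -- stabilisers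
  have hstab : ∀ e s, P e s → Nat.card X.NE = (MulAction.orbit ↥X.NE e).ncard * 2688 := by
    rintro e s ⟨g, σ, -, hg, hgE⟩
    rw [← (MulAction.stabilizer ↥X.NE e).index_mul_card, MulAction.index_stabilizer]
    congr 1
    rw [← X.card_stab σ]
    have key : ∀ x : G, g * x * g⁻¹ ∈ X.NE ↔ x ∈ normalizer (X.EG σ : Set G) := fun x => by
      rw [NE, mem_normalizer_iff_map_conj_eq, mem_normalizer_iff_map_conj_eq]
      show (X.EG 1).map (MulAut.conj (g * x * g⁻¹)).toMonoidHom = X.EG 1 ↔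
        (X.EG σ).map (MulAut.conj x).toMonoidHom = X.EG σ
      have h1 : (X.EG 1).map (MulAut.conj (g * x * g⁻¹)).toMonoidHom =
          ((X.EG σ).map (MulAut.conj x).toMonoidHom).map (MulAut.conj g).toMonoidHom := by
        conv_lhs => rw [← hgE]
        rw [mm, mm, show g * x * g⁻¹ * g = g * x by group]
      rw [h1, ← hgE]
      exact (map_injective (MulAut.conj g).injective).eq_iff
    have f1 : ∀ x : ↥(normalizer (X.EG σ : Set G) ⊓ X.C),
        (⟨g * (x : G) * g⁻¹, (key x).2 x.2.1⟩ : ↥X.NE) ∈ MulAction.stabilizer ↥X.NE e := fun x => by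
      rw [MulAction.mem_stabilizer_iff, hsmul]
      show g * (x : G) * g⁻¹ * e * (g * (x : G) * g⁻¹)⁻¹ = e
      conv_lhs => rw [← hg]
      calc g * (x : G) * g⁻¹ * (g * X.z * g⁻¹) * (g * (x : G) * g⁻¹)⁻¹
          = g * ((x : G) * X.z * (x : G)⁻¹) * g⁻¹ := by group
        _ = g * X.z * g⁻¹ := by rw [X.mem_C.1 x.2.2, mul_inv_cancel_right]
        _ = e := hg
    have f2 : ∀ y : ↥(MulAction.stabilizer ↥X.NE e),
        g⁻¹ * ((y : ↥X.NE) : G) * g ∈ normalizer (X.EG σ : Set G) ⊓ X.C := fun y => by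
      refine ⟨(key _).1 (by
        rw [show g * (g⁻¹ * ((y : ↥X.NE) : G) * g) * g⁻¹ = ((y : ↥X.NE) : G) by group]; exact y.1.2), ?_⟩
      obtain ⟨⟨y, hyN⟩, hy⟩ := y
      rw [MulAction.mem_stabilizer_iff, hsmul] at hy
      change y * e * y⁻¹ = e at hy
      refine X.mem_C.2 ?_
      calc g⁻¹ * y * g * X.z = g⁻¹ * (y * (g * X.z * g⁻¹) * y⁻¹) * y * g := by group
        _ = g⁻¹ * (g * X.z * g⁻¹) * y * g := by rw [hg, hy]
        _ = X.z * (g⁻¹ * y * g) := by group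
    exact (Nat.card_congr
      { toFun := fun x => ⟨_, f1 x⟩
        invFun := fun y => ⟨_, f2 y⟩
        left_inv := fun x => Subtype.ext (by show g⁻¹ * (g * (x : G) * g⁻¹) * g = x; group)
        right_inv := fun y => Subtype.ext (Subtype.ext (by
          show g * (g⁻¹ * ((y : ↥X.NE) : G) * g) * g⁻¹ = _
          group)) }).symm
  set S : Set G := (X.EG 1 : Set G) \ {1}
  have hS : S.ncard = 15 := by
    rw [Set.ncard_sdiff (by simp [one_mem]), Set.ncard_singleton]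
    show Nat.card (X.EG 1) - 1 = 15
    rw [X.card_EG]
  have horb : ∀ e ∈ S, MulAction.orbit ↥X.NE e ⊆ S := by
    rintro e ⟨he, he1⟩ _ ⟨g, rfl⟩
    refine ⟨(mem_normalizer_iff.1 g.2 e).1 he, fun h => he1 ?_⟩
    rw [Set.mem_singleton_iff] at h ⊢
    change (g : G) * e * (g : G)⁻¹ = 1 at h
    rwa [mul_inv_eq_one, mul_eq_left] at h
  have hzS : X.z ∈ S := ⟨X.z_mem_EG 1, (invol_iff.1 X.hz).2⟩
  have hzP : P X.z 1 := ⟨1, 1, map_one _, by group, mone _⟩
  have hz := hstab _ _ hzP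
  by_cases hall : MulAction.orbit ↥X.NE X.z = S
  · rw [hz, hall, hS]
  exfalso
  obtain ⟨e, heS, he⟩ : ∃ e ∈ S, e ∉ MulAction.orbit ↥X.NE X.z := by
    by_contra h; push Not at h
    exact hall (Set.Subset.antisymm (horb _ hzS) h)
  obtain ⟨s, hs⟩ := hP e heS.1 heS.2
  have hs1 : s = -1 := (Int.units_eq_one_or s).resolve_left fun h => he (hconj _ _ 1 hzP (h ▸ hs))
  have hcover : S = MulAction.orbit ↥X.NE X.z ∪ MulAction.orbit ↥X.NE e := by
    refine Set.Subset.antisymm (fun x hx => ?_) (Set.union_subset (horb _ hzS) (horb _ heS))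
    obtain ⟨t, ht⟩ := hP x hx.1 hx.2
    rcases Int.units_eq_one_or t with rfl | rfl
    · exact Or.inl (hconj _ _ 1 hzP ht)
    · exact Or.inr (hconj _ _ (-1) (hs1 ▸ hs) ht)
  have hdisj : Disjoint (MulAction.orbit ↥X.NE X.z) (MulAction.orbit ↥X.NE e) := by
    refine Set.disjoint_left.2 fun x hx hx' => he ?_
    rw [← MulAction.orbit_eq_iff.2 hx, MulAction.orbit_eq_iff.2 hx']
    exact MulAction.mem_orbit_self e
  have h15 := congrArg Set.ncard hcover
  rw [hS, Set.ncard_union_eq hdisj (Set.toFinite _) (Set.toFinite _)] at h15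
  have he' := hstab _ _ hs
  omega

/-- An element of order three normalising the elementary subgroup commutes with a four group. -/
theorem four_cent {x : G} (hxN : x ∈ X.NE) (hx3 : x ^ 3 = 1) (hx1 : x ≠ 1) :
    ∃ u v : G, u * u = 1 ∧ v * v = 1 ∧ u ≠ 1 ∧ v ≠ 1 ∧ u ≠ v ∧ u * v = v * u ∧ u * x = x * u ∧ v * x = x * v := by
  classical
  haveI : Fact (Nat.Prime 3) := ⟨Nat.prime_three⟩
  set E0 := (X.EG 1).subgroupOf X.NE
  haveI : E0.Normal := Subgroup.normal_in_normalizer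
  have hle : X.EG 1 ≤ X.NE := le_normalizer
  have h16 : Nat.card E0 = 16 := by rw [Nat.card_congr (subgroupOfEquivOfLe hle).toEquiv, X.card_EG]
  have h2 : ∀ e : E0, e * e = 1 := fun e => Subtype.ext (Subtype.ext (X.EG_sq e.2))
  set φ : ↥X.NE →* MulAut ↥E0 := MulAut.conjNormal
  have hφ : ∀ (g : ↥X.NE) (e : E0), ((φ g e : E0) : ↥X.NE) = g * e * g⁻¹ := fun g e => rfl
  set xN : ↥X.NE := ⟨x, hxN⟩
  set Xa := φ xN
  by_cases hfree : ∀ e, Xa e = e → e = 1
  swap
  · push Not at hfree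
    obtain ⟨e, he, he1⟩ := hfree
    have hX3 : Xa ^ (3 ^ 1) = 1 := by
      rw [pow_one, ← map_pow, show xN ^ 3 = 1 from Subtype.ext hx3, map_one]
    have hc := fix_modEq_top (p := 3) Xa hX3
    rw [h16] at hc
    have h4 : 4 ≤ Nat.card (fixS Xa) := by
      have := sub_card h16 (fixS Xa)
      simp only [List.mem_cons, List.not_mem_nil, or_false] at this
      have hne : Nat.card (fixS Xa) ≠ 1 := fun h => he1 (by
        rw [← mem_bot, ← card_eq_one.1 h]; exact he)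
      unfold Nat.ModEq at hc
      omega
    haveI : Fintype (fixS Xa) := Fintype.ofFinite _
    obtain ⟨u, -, hu⟩ := Finset.exists_mem_notMem_of_card_lt_card
      (show ({1} : Finset (fixS Xa)).card < (Finset.univ : Finset (fixS Xa)).card by
        rw [Finset.card_univ, ← Nat.card_eq_fintype_card, Finset.card_singleton]; omega)
    obtain ⟨v, -, hv⟩ := Finset.exists_mem_notMem_of_card_lt_card
      (show ({1, u} : Finset (fixS Xa)).card < (Finset.univ : Finset (fixS Xa)).card by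
        rw [Finset.card_univ, ← Nat.card_eq_fintype_card]; exact Finset.card_le_two.trans_lt (by omega))
    simp only [Finset.mem_insert, Finset.mem_singleton, not_or] at hu hv
    let val : fixS Xa → G := fun w => (((w : E0) : ↥X.NE) : G)
    have hinj : Function.Injective val := fun a b h => Subtype.ext (Subtype.ext (Subtype.ext h))
    have hcomm : ∀ w : fixS Xa, val w * x = x * val w := fun w => by
      have h := congrArg (fun g : E0 => ((g : ↥X.NE) : G)) w.2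
      change x * val w * x⁻¹ = val w at h
      exact (mul_inv_eq_iff_eq_mul.1 h).symm
    exact ⟨val u, val v, X.EG_sq (u : E0).2, X.EG_sq (v : E0).2, fun h => hu (hinj h), fun h => hv.1 (hinj h),
      fun h => hv.2 (hinj h).symm, X.EG_comm (u : E0).2 (v : E0).2, hcomm u, hcomm v⟩
  have hker : φ.ker = E0 := by
    refine SetLike.ext fun g => ⟨fun hg => ?_, fun hg => ?_⟩
    · refine mem_subgroupOf.2 (X.EG_cent fun e he => ?_)
      have h := congrArg (fun f : MulAut E0 => ((f ⟨⟨e, hle he⟩, mem_subgroupOf.2 he⟩ : E0) : ↥X.NE)) hg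
      have h' := congrArg Subtype.val h
      exact mul_inv_eq_iff_eq_mul.1 (h' : (g : G) * e * (g : G)⁻¹ = e)
    · refine MulEquiv.ext fun e => Subtype.ext (Subtype.ext ?_)
      show (g : G) * ((e : ↥X.NE) : G) * (g : G)⁻¹ = ((e : ↥X.NE) : G)
      rw [X.EG_comm (show (g : G) ∈ X.EG 1 from hg) (show ((e : ↥X.NE) : G) ∈ X.EG 1 from e.2),
        mul_inv_cancel_right]
  have hH : Nat.card φ.range = 2520 := by
    have h := φ.ker.card_mul_index
    rw [Subgroup.index_ker, hker, h16, X.card_NE] at h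
    omega
  have hfpf : IsFpf Xa := ⟨by rw [← map_pow, show xN ^ 3 = 1 from Subtype.ext hx3, map_one], hfree⟩
  obtain ⟨u, v, ⟨gu, rfl⟩, ⟨gv, rfl⟩, hu1, hv1, huv, husq, hvsq, huvc, huX, hvX⟩ :=
    exists_four h16 h2 φ.range hH ⟨xN, rfl⟩ hfpf
  have huniq : ∀ d : ↥X.NE, φ d = 1 → d * xN = xN * d → d = 1 := by
    intro d hd hdx
    have hd' : d ∈ E0 := hker ▸ hd
    have := hfree ⟨d, hd'⟩ (Subtype.ext (by rw [hφ]; exact mul_inv_eq_iff_eq_mul.2 hdx.symm))
    exact congrArg Subtype.val this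
  have hlift : ∀ g : ↥X.NE, φ g * Xa = Xa * φ g → ∃ g', φ g' = φ g ∧ g' * xN = xN * g' := by
    intro g hg
    set e : ↥X.NE := g⁻¹ * (xN * g * xN⁻¹) with he
    have hde : e ∈ E0 := by
      rw [← hker, MonoidHom.mem_ker, he, map_mul, map_mul, map_mul, map_inv, map_inv, ← hg, mul_inv_cancel_right,
        inv_mul_cancel]
    set d := Xa ⟨e, hde⟩ with hd
    refine ⟨g * (d : ↥X.NE), ?_, ?_⟩
    · rw [map_mul, show φ (d : ↥X.NE) = 1 by rw [← MonoidHom.mem_ker, hker]; exact d.2, mul_one]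
    · symm
      refine mul_inv_eq_iff_eq_mul.1 ?_
      have hd2 : Xa d = (⟨e, hde⟩ : E0) * d := hfpf.sq h2 _
      have hd2' : xN * (d : ↥X.NE) * xN⁻¹ = e * d := by
        rw [← hφ, show φ xN d = Xa d from rfl, hd2]; rfl
      have hee : e * e = 1 := congrArg Subtype.val (h2 ⟨e, hde⟩)
      calc xN * (g * (d : ↥X.NE)) * xN⁻¹ = (xN * g * xN⁻¹) * (xN * (d : ↥X.NE) * xN⁻¹) := by group
        _ = (g * e) * (e * d) := by rw [hd2', he]; group
        _ = g * (e * e) * d := by group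
        _ = g * d := by rw [hee, mul_one]
  obtain ⟨u', hu', hux⟩ := hlift gu huX
  obtain ⟨v', hv', hvx⟩ := hlift gv hvX
  have cu : Commute u' xN := hux
  have cv : Commute v' xN := hvx
  refine ⟨(u' : G), (v' : G), ?_, ?_, fun h => hu1 ?_, fun h => hv1 ?_, fun h => huv ?_, ?_,
    congrArg Subtype.val hux, congrArg Subtype.val hvx⟩
  · exact congrArg Subtype.val (huniq (u' * u') (by rw [map_mul, hu', husq]) (cu.mul_left cu).eq)
  · exact congrArg Subtype.val (huniq (v' * v') (by rw [map_mul, hv', hvsq]) (cv.mul_left cv).eq)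
  · rw [← hu', show u' = 1 from Subtype.ext h, map_one]
  · rw [← hv', show v' = 1 from Subtype.ext h, map_one]
  · rw [← hu', ← hv', show u' = v' from Subtype.ext h]
  · have h := huniq (u' * v' * u'⁻¹ * v'⁻¹)
      (by rw [map_mul, map_mul, map_mul, map_inv, map_inv, hu', hv', huvc]; group)
      ((((cu.mul_left cv).mul_left cu.inv_left).mul_left cv.inv_left).eq)
    rw [mul_inv_eq_one, mul_inv_eq_iff_eq_mul] at h
    exact congrArg Subtype.val h

end Ctx

end CfsgLib.Invol.AltDoubleCover
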