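import Cfsg.Agent.Lib.Invol.AltDoubleCover.Large
import Cfsg.Agent.Lib.Invol.ZStar

/-!
# A simple group with an involution centralizer a double cover of an alternating group: degree eight to eleven
-/

set_option autoImplicit false

namespace CfsgLib.Invol.AltDoubleCover

open Equiv Subgroup

/-- Transport of a cover along an isomorphism. -/
def Cover.comap {C C' : Type*} [Group C] [Group C'] {n : ℕ} (D : Cover C n) (e : C' ≃* C) : Cover C' n where
  π := D.π.comp e.toMonoidHom
  z := e.symm D.z
  sgn c := D.sgn (e c)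
  lift σ hσ := by
    obtain ⟨c, hc⟩ := D.lift σ hσ
    exact ⟨e.symm c, by simp [hc]⟩
  zz := by rw [← map_mul, D.zz, map_one]
  z_ne h := D.z_ne (by simpa using congrArg e h)
  zc c := e.injective (by simpa using D.zc (e c))
  ker c := by
    show D.π (e c) = 1 ↔ _
    rw [D.ker, MulEquiv.eq_symm_apply, map_eq_one_iff _ e.injective]
  dt c hc := e.injective (by simpa using D.dt (e c) hc)

section

variable {G : Type*} [Group G] [Finite G]

/-- Conjugation between centralizers of conjugate elements. -/
def centEquiv (g z t : G) (h : g * z * g⁻¹ = t) :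
    ↥(centralizer ({t} : Set G)) ≃* ↥(centralizer ({z} : Set G)) where
  toFun c := ⟨g⁻¹ * (c : G) * g, mem_centralizer_singleton_iff.2 (by
    have hc := mem_centralizer_singleton_iff.1 c.2
    subst h
    calc g⁻¹ * (c : G) * g * z = g⁻¹ * ((c : G) * (g * z * g⁻¹)) * g := by group
      _ = g⁻¹ * ((g * z * g⁻¹) * (c : G)) * g := by rw [hc]
      _ = z * (g⁻¹ * (c : G) * g) := by group)⟩
  invFun c := ⟨g * (c : G) * g⁻¹, mem_centralizer_singleton_iff.2 (by
    have hc := mem_centralizer_singleton_iff.1 c.2
    subst h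
    calc g * (c : G) * g⁻¹ * (g * z * g⁻¹) = g * ((c : G) * z) * g⁻¹ := by group
      _ = g * (z * (c : G)) * g⁻¹ := by rw [hc]
      _ = g * z * g⁻¹ * (g * (c : G) * g⁻¹) := by group)⟩
  left_inv c := Subtype.ext (by show g * (g⁻¹ * (c : G) * g) * g⁻¹ = c; group)
  right_inv c := Subtype.ext (by show g⁻¹ * (g * (c : G) * g⁻¹) * g = c; group)
  map_mul' c d := Subtype.ext (by
    show g⁻¹ * ((c : G) * d) * g = g⁻¹ * (c : G) * g * (g⁻¹ * (d : G) * g); group)

/-- The centralizers of each of two commuting elements in the centralizer of the other agree. -/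
def swapEquiv (z t : G) (hzt : z * t = t * z) :
    ↥(Cover.Cu (⟨t, mem_centralizer_singleton_iff.2 hzt.symm⟩ : ↥(centralizer ({z} : Set G)))) ≃*
      ↥(Cover.Cu (⟨z, mem_centralizer_singleton_iff.2 hzt⟩ : ↥(centralizer ({t} : Set G)))) where
  toFun e := ⟨⟨((e : ↥(centralizer ({z} : Set G))) : G),
      mem_centralizer_singleton_iff.2 (congrArg Subtype.val (Cover.mem_Cu.1 e.2))⟩,
    Cover.mem_Cu.2 (Subtype.ext (mem_centralizer_singleton_iff.1 (e : ↥(centralizer ({z} : Set G))).2))⟩
  invFun e := ⟨⟨((e : ↥(centralizer ({t} : Set G))) : G),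
      mem_centralizer_singleton_iff.2 (congrArg Subtype.val (Cover.mem_Cu.1 e.2))⟩,
    Cover.mem_Cu.2 (Subtype.ext (mem_centralizer_singleton_iff.1 (e : ↥(centralizer ({t} : Set G))).2))⟩
  left_inv _ := rfl
  right_inv _ := rfl
  map_mul' _ _ := rfl

/-- The data: a simple group with the centralizer of an involution covering an alternating group. -/
structure Frame (G : Type*) [Group G] (n : ℕ) where
  z : G
  hz : orderOf z = 2
  simple : IsSimpleGroup G
  D : Cover ↥(centralizer ({z} : Set G)) n
  Dz : (D.z : G) = z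
  hn : 5 ≤ n

theorem exists_frame [IsSimpleGroup G] {n : ℕ} (hn : 5 ≤ n) {z : G} (hz : orderOf z = 2)
    (h : Cfsg.IsNonsplitDoubleCover ↥(centralizer ({z} : Set G)) (alternatingGroup (Fin n))) :
    ∃ F : Frame G n, F.z = z := by
  obtain ⟨D, hD⟩ := exists_cover hn h (z := ⟨z, mem_centralizer_singleton_iff.2 rfl⟩)
    (mem_center_iff.2 fun c => Subtype.ext (mem_centralizer_singleton_iff.1 c.2))
    (fun e => by
      have : z = 1 := congrArg Subtype.val e
      rw [this, orderOf_one] at hz; norm_num at hz)
  exact ⟨⟨z, hz, inferInstance, D, congrArg Subtype.val hD, hn⟩, rfl⟩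

variable {n : ℕ} (F : Frame G n)

theorem Frame.z_not_central : ¬ ∀ g : G, g * F.z = F.z * g := by
  intro hc
  haveI := F.simple
  rcases IsSimpleGroup.eq_bot_or_eq_top_of_normal (center G) inferInstance with h | h
  · have hm : F.z ∈ center G := mem_center_iff.2 hc
    rw [h, mem_bot] at hm
    have := F.hz
    rw [hm, orderOf_one] at this; norm_num at this
  · haveI : NeZero n := ⟨by have := F.hn; omega⟩
    let p : ℕ → Fin n := CfsgLib.Char.AltPres.pt n
    have hne : ∀ {i j : ℕ}, i < 4 → j < 4 → i ≠ j → p i ≠ p j := fun hi hj h =>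
      CfsgLib.Char.AltPres.pt_ne (by have := F.hn; omega) (by have := F.hn; omega) h
    have hdt : IsDT (swap (p 0) (p 1) * swap (p 2) (p 3)) := IsDT.mk (hne (by omega) (by omega) (by omega))
      (hne (by omega) (by omega) (by omega)) (hne (by omega) (by omega) (by omega))
      (hne (by omega) (by omega) (by omega)) (hne (by omega) (by omega) (by omega))
      (hne (by omega) (by omega) (by omega))
    have hdt' : IsDT (swap (p 0) (p 2) * swap (p 1) (p 4)) := IsDT.mk
      (hne (by omega) (by omega) (by omega)) (hne (by omega) (by omega) (by omega))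
      (CfsgLib.Char.AltPres.pt_ne (by have := F.hn; omega) (by have := F.hn; omega) (by omega))
      (hne (by omega) (by omega) (by omega))
      (CfsgLib.Char.AltPres.pt_ne (by have := F.hn; omega) (by have := F.hn; omega) (by omega))
      (CfsgLib.Char.AltPres.pt_ne (by have := F.hn; omega) (by have := F.hn; omega) (by omega))
    obtain ⟨a, ha⟩ := F.D.lift _ hdt.sign_eq
    obtain ⟨b, hb⟩ := F.D.lift _ hdt'.sign_eq
    have hab : a * b = b * a := Subtype.ext (mem_center_iff.1 (show (b : G) ∈ center G from h.symm ▸ mem_top _) (a : G))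
    have h' := congrArg (fun c => F.D.π c (p 0)) hab
    have h4 : ∀ {i : ℕ}, i < 4 → p i ≠ p 4 := fun hi =>
      CfsgLib.Char.AltPres.pt_ne (by have := F.hn; omega) (by have := F.hn; omega) (by omega)
    have n01 := hne (i := 0) (j := 1) (by omega) (by omega) (by omega)
    have n02 := hne (i := 0) (j := 2) (by omega) (by omega) (by omega)
    have n03 := hne (i := 0) (j := 3) (by omega) (by omega) (by omega)
    have n12 := hne (i := 1) (j := 2) (by omega) (by omega) (by omega)
    have n13 := hne (i := 1) (j := 3) (by omega) (by omega) (by omega)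
    have n23 := hne (i := 2) (j := 3) (by omega) (by omega) (by omega)
    have n04 := h4 (i := 0) (by omega); have n14 := h4 (i := 1) (by omega)
    have n24 := h4 (i := 2) (by omega); have n34 := h4 (i := 3) (by omega)
    simp [map_mul, ha, hb, Perm.mul_apply, swap_apply_of_ne_of_ne, n01, n02, n03, n12, n13, n23, n04, n14, n24, n34,
      n01.symm, n02.symm, n03.symm, n12.symm, n13.symm, n23.symm, n04.symm, n14.symm, n24.symm, n34.symm] at h'

/-- Some conjugate of the involution lies in its centralizer and differs from it. -/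
theorem Frame.exists_conj : ∃ g : G, F.z * (g * F.z * g⁻¹) = g * F.z * g⁻¹ * F.z ∧ g * F.z * g⁻¹ ≠ F.z := by
  by_contra hcon
  push Not at hcon
  haveI := F.simple
  have hiso : Cfsg.IsIsolatedInvolution F.z := ⟨F.hz, fun g hg => hcon g hg⟩
  have hzc := zstar hiso
  refine F.z_not_central fun g => ?_
  have hO : Cfsg.pPrimeCore 2 G = ⊥ := by
    haveI : (Cfsg.pPrimeCore 2 G).Normal := inferInstance
    refine (IsSimpleGroup.eq_bot_or_eq_top_of_normal _ inferInstance).resolve_right fun htop => ?_
    exact notMem_pPrimeCore F.hz (htop.symm ▸ mem_top _)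
  exact mem_center_iff.1 (eq_of_zcentral_bot hzc hO) g

/-- The involutions in the centralizer conjugate to the given one move eight points, and `8 ≤ n ≤ 11`. -/
theorem Frame.conj_support {g : G} (h : F.z * (g * F.z * g⁻¹) = g * F.z * g⁻¹ * F.z)
    (hne : g * F.z * g⁻¹ ≠ F.z) :
    (F.D.π ⟨g * F.z * g⁻¹, mem_centralizer_singleton_iff.2 h.symm⟩).support.card = 8 ∧ 8 ≤ n ∧ n ≤ 11 := by
  set t := g * F.z * g⁻¹ with ht
  let e := centEquiv g F.z t ht.symm
  have zz : F.z * F.z = 1 := invol_mul_self F.hz
  have tt : t * t = 1 := invol_mul_self (invol_conj F.hz g)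
  refine degree_bound F.D (F.D.comap e) (u := ⟨t, mem_centralizer_singleton_iff.2 h.symm⟩)
    (u' := ⟨F.z, mem_centralizer_singleton_iff.2 h⟩) (Subtype.ext tt) (Subtype.ext zz) ?_ ?_ (swapEquiv F.z t h)
    ?_ ?_
  · intro h1
    rcases (F.D.ker _).1 h1 with e' | e'
    · have := congrArg Subtype.val e'
      have h2 := invol_conj F.hz g
      rw [show g * F.z * g⁻¹ = 1 from this, orderOf_one] at h2; norm_num at h2
    · exact hne ((congrArg Subtype.val e').trans F.Dz)
  · intro h1
    rcases (F.D.ker _).1 (show F.D.π (e ⟨F.z, mem_centralizer_singleton_iff.2 h⟩) = 1 from h1) with e' | e'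
    · have h2 : g⁻¹ * F.z * g = 1 := congrArg Subtype.val e'
      have h3 : F.z = 1 := by
        have := congrArg (fun x => g * x * g⁻¹) h2
        simpa [mul_assoc] using this
      have := F.hz
      rw [h3, orderOf_one] at this; norm_num at this
    · have h2 : g⁻¹ * F.z * g = F.z := (congrArg Subtype.val e').trans F.Dz
      refine hne ?_
      calc t = g * F.z * g⁻¹ := ht
        _ = g * (g⁻¹ * F.z * g) * g⁻¹ := by rw [h2]
        _ = F.z := by group
  · exact Subtype.ext (Subtype.ext F.Dz)
  · refine Subtype.ext (Subtype.ext ?_)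
    show t = g * (F.D.z : G) * g⁻¹
    rw [F.Dz]

theorem Frame.degree (F : Frame G n) : 8 ≤ n ∧ n ≤ 11 := by
  obtain ⟨g, h1, h2⟩ := F.exists_conj
  exact (F.conj_support h1 h2).2

end

end CfsgLib.Invol.AltDoubleCover
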