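import Cfsg.Agent.Lib.Invol.AltDoubleCover.Cover

/-!
# Intrinsic properties of the centralizer of an involution in a double cover of an alternating group
-/

set_option autoImplicit false

namespace CfsgLib.Invol.AltDoubleCover

open Equiv Subgroup
open scoped commutatorElement
open CfsgLib.Invol.AltCover (disjoint_swaps)

/-- A 2-group of permutations of at least five points normalised by the products of two overlapping
transpositions is trivial. -/
theorem two_group_eq_bot {α : Type*} [Fintype α] [DecidableEq α] (h5 : 5 ≤ Fintype.card α)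
    (N : Subgroup (Perm α)) (h2 : IsPGroup 2 N)
    (hN : ∀ a b c : α, a ≠ b → b ≠ c → a ≠ c → swap a b * swap b c ∈ normalizer (N : Set (Perm α))) : N = ⊥ := by
  classical
  haveI : IsSimpleGroup (alternatingGroup α) :=
    alternatingGroup.isSimpleGroup (by rw [Nat.card_eq_fintype_card]; exact h5)
  obtain ⟨a₀, b₀, c₀, hab, hbc, hac⟩ : ∃ a b c : α, a ≠ b ∧ b ≠ c ∧ a ≠ c := by
    obtain ⟨s, -, hs⟩ := Finset.exists_subset_card_eq (show 3 ≤ (Finset.univ : Finset α).card by
      rw [Finset.card_univ]; omega)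
    obtain ⟨x, y, w, h1, h2, h3, -⟩ := Finset.card_eq_three.1 hs
    exact ⟨x, y, w, h1, h3, h2⟩
  have h3c : (swap a₀ b₀ * swap b₀ c₀).IsThreeCycle := by
    rw [swap_comm a₀ b₀]; exact Perm.isThreeCycle_swap_mul_swap_same hab.symm hbc hac
  have hall : ∀ c : Perm α, c.IsThreeCycle → c ∈ normalizer (N : Set (Perm α)) := fun c hc => by
    obtain ⟨g, rfl⟩ := isConj_iff.1 (Perm.isConj_iff_cycleType_eq.2 (h3c.trans hc.symm))
    rw [show g * (swap a₀ b₀ * swap b₀ c₀) * g⁻¹ = (g * swap a₀ b₀ * g⁻¹) * (g * swap b₀ c₀ * g⁻¹) by group,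
      ← swap_apply_apply, ← swap_apply_apply]
    exact hN _ _ _ (g.injective.ne hab) (g.injective.ne hbc) (g.injective.ne hac)
  have halt : alternatingGroup α ≤ normalizer (N : Set (Perm α)) := by
    rw [← Perm.closure_three_cycles_eq_alternating, closure_le]
    exact hall
  haveI hnorm : (N.subgroupOf (alternatingGroup α)).Normal :=
    ⟨fun x hx g => mem_subgroupOf.2 ((mem_normalizer_iff.1 (halt g.2) x).1 (mem_subgroupOf.1 hx))⟩
  have hbot : N.subgroupOf (alternatingGroup α) = ⊥ := by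
    refine (IsSimpleGroup.eq_bot_or_eq_top_of_normal _ inferInstance).resolve_right fun htop => ?_
    have hm : swap a₀ b₀ * swap b₀ c₀ ∈ N :=
      mem_subgroupOf.1 (htop ▸ mem_top (⟨_, Perm.mem_alternatingGroup.2 h3c.sign⟩ : alternatingGroup α))
    obtain ⟨k, hk⟩ := h2 ⟨_, hm⟩
    have hd : orderOf (swap a₀ b₀ * swap b₀ c₀) ∣ 2 ^ k := orderOf_dvd_of_pow_eq_one (congrArg Subtype.val hk)
    rw [h3c.orderOf] at hd
    have := (Nat.prime_dvd_prime_iff_eq Nat.prime_three Nat.prime_two).1 (Nat.prime_three.dvd_of_dvd_pow hd)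
    omega
  refine eq_bot_iff.2 fun x hx => mem_bot.2 (Perm.ext fun a => ?_)
  have hcomm : ∀ c : Perm α, c.IsThreeCycle → x * c = c * x := fun c hc => by
    have h1 : c * x * c⁻¹ * x⁻¹ ∈ N :=
      mul_mem ((mem_normalizer_iff.1 (hall c hc) x).1 hx) (inv_mem hx)
    have h2' : c * x * c⁻¹ * x⁻¹ ∈ alternatingGroup α := Perm.mem_alternatingGroup.2 (by
      rw [map_mul, map_mul, map_mul, map_inv, map_inv]; simp [mul_comm, mul_left_comm])
    have h3 : (⟨_, h2'⟩ : alternatingGroup α) ∈ N.subgroupOf (alternatingGroup α) := mem_subgroupOf.2 h1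
    rw [hbot, mem_bot] at h3
    exact (mul_inv_eq_iff_eq_mul.1 (mul_inv_eq_one.1 (congrArg Subtype.val h3))).symm
  -- two triples meeting only in `a`
  obtain ⟨s, hs, hsc⟩ := Finset.exists_subset_card_eq (show 4 ≤ (Finset.univ.erase a).card by
    rw [Finset.card_erase_of_mem (Finset.mem_univ _), Finset.card_univ]; omega)
  obtain ⟨b, hb⟩ := Finset.card_pos.1 (show 0 < s.card by omega)
  obtain ⟨c, hc⟩ := Finset.card_pos.1 (show 0 < (s.erase b).card by rw [Finset.card_erase_of_mem hb]; omega)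
  obtain ⟨d, hd⟩ := Finset.card_pos.1 (show 0 < ((s.erase b).erase c).card by
    rw [Finset.card_erase_of_mem hc, Finset.card_erase_of_mem hb]; omega)
  obtain ⟨e, he⟩ := Finset.card_pos.1 (show 0 < (((s.erase b).erase c).erase d).card by
    rw [Finset.card_erase_of_mem hd, Finset.card_erase_of_mem hc, Finset.card_erase_of_mem hb]; omega)
  simp only [Finset.mem_erase] at hc hd he
  have hne : ∀ y ∈ s, a ≠ y := fun y hy => (Finset.mem_erase.1 (hs hy)).1.symm
  have key : ∀ p q : α, a ≠ p → a ≠ q → p ≠ q → x a = a ∨ x a = p ∨ x a = q := by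
    intro p q hap haq hpq
    by_contra hcon
    simp only [not_or] at hcon
    have h1 := congrArg (fun g : Perm α => g a) (hcomm (swap a p * swap p q) (by
      rw [swap_comm a p]; exact Perm.isThreeCycle_swap_mul_swap_same hap.symm hpq haq))
    simp only [Perm.mul_apply, swap_apply_of_ne_of_ne hap haq, swap_apply_left,
      swap_apply_of_ne_of_ne hcon.2.1 hcon.2.2, swap_apply_of_ne_of_ne hcon.1 hcon.2.1] at h1
    exact hap (x.injective h1).symm
  rw [Perm.one_apply]
  rcases key b c (hne b hb) (hne c hc.2) hc.1.symm with h | h | h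
  · exact h
  · rcases key d e (hne d hd.2.2) (hne e he.2.2.2) he.1.symm with h' | h' | h'
    · exact h'
    · exact absurd (h.symm.trans h') hd.2.1.symm
    · exact absurd (h.symm.trans h') he.2.2.1.symm
  · rcases key d e (hne d hd.2.2) (hne e he.2.2.2) he.1.symm with h' | h' | h'
    · exact h'
    · exact absurd (h.symm.trans h') hd.1.symm
    · exact absurd (h.symm.trans h') he.2.1.symm

namespace Cover

variable {C : Type*} [Group C] {n : ℕ} (D : Cover C n)

/-- A permutation of order three has a lift of order three. -/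
theorem exists_lift_three {τ : Perm (Fin n)} (hs : Perm.sign τ = 1) (h3 : τ ^ 3 = 1) :
    ∃ c, D.π c = τ ∧ c ^ 3 = 1 := by
  obtain ⟨c, hc⟩ := D.lift τ hs
  rcases (D.ker (c ^ 3)).1 (by rw [map_pow, hc, h3]) with h | h
  · exact ⟨c, hc, h⟩
  · refine ⟨D.z * c, by rw [map_mul, D.π_z, one_mul, hc], ?_⟩
    rw [(show Commute D.z c from (D.zc c).symm).mul_pow, h, pow_succ, pow_two, D.zz, one_mul, D.zz]

/-- An element of order three commutes with every lift of a permutation commuting with its image. -/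
theorem commute_three {x d : C} (hx : x ^ 3 = 1) (h : D.π d * D.π x = D.π x * D.π d) : d * x = x * d := by
  rcases D.conj_eq_or h with e | e
  · exact mul_inv_eq_iff_eq_mul.1 e
  · exfalso
    have h3 : (d * x * d⁻¹) ^ 3 = 1 := by rw [conj_pow, hx, mul_one, mul_inv_cancel]
    rw [e, (show Commute D.z x from (D.zc x).symm).mul_pow, hx, mul_one, pow_succ, pow_two, D.zz, one_mul] at h3
    exact D.z_ne h3

variable {u : C}

/-- The centralizer of `u`. -/
abbrev Cu (u : C) : Subgroup C := centralizer ({u} : Set C)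

/-- The central involution, in the centralizer. -/
def zU (u : C) : ↥(Cu u) := ⟨D.z, mem_centralizer_singleton_iff.2 (D.zc u).symm⟩

/-- The involution, in its centralizer. -/
def uU (u : C) : ↥(Cu u) := ⟨u, mem_centralizer_singleton_iff.2 rfl⟩

theorem mem_Cu {c : C} : c ∈ Cu u ↔ c * u = u * c := mem_centralizer_singleton_iff

theorem σσ (hu : u * u = 1) (x : Fin n) : D.π u (D.π u x) = x := by
  rw [← Perm.mul_apply, ← map_mul, hu, map_one]; rfl

theorem π_comm (e : ↥(Cu u)) (x : Fin n) : D.π (e : C) (D.π u x) = D.π u (D.π (e : C) x) := by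
  rw [← Perm.mul_apply, ← Perm.mul_apply, ← map_mul, ← map_mul, mem_Cu.1 e.2]

theorem pair_nodup (hu : u * u = 1) {x y : Fin n} (hx : D.π u x ≠ x) (hy : D.π u y ≠ y) (h1 : y ≠ x)
    (h2 : y ≠ D.π u x) : [x, D.π u x, y, D.π u y].Nodup := by
  have h3 : x ≠ D.π u y := fun e => h2 (by rw [e, D.σσ hu])
  have h4 : D.π u x ≠ D.π u y := fun e => h1 ((D.π u).injective e).symm
  simp [hx.symm, h1.symm, h3, h2.symm, h4, hy.symm]

/-- A lift of two transpositions of `u` centralises `u`. -/
theorem lift_pair (hu : u * u = 1) {x y : Fin n} (hx : D.π u x ≠ x) (hy : D.π u y ≠ y) (h1 : y ≠ x)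
    (h2 : y ≠ D.π u x) :
    ∃ a : ↥(Cu u), D.π (a : C) = swap x (D.π u x) * swap y (D.π u y) := by
  have hnd := D.pair_nodup hu hx hy h1 h2
  have hdt : IsDT (swap x (D.π u x) * swap y (D.π u y)) := ⟨_, _, _, _, hnd, rfl⟩
  obtain ⟨a, ha⟩ := D.lift _ hdt.sign_eq
  refine ⟨⟨a, mem_Cu.2 ?_⟩, ha⟩
  obtain ⟨n1, n2, n3, n4, n5, n6⟩ := nodup_four hnd
  have hc : (a⁻¹ * u) * a = a * (a⁻¹ * u) := D.commute_dt hnd ha fun w hw => by
    rw [map_mul, map_inv, ha, inv_eq_of_mul_eq_one_right hdt.mul_self, Perm.mul_apply, Perm.mul_apply]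
    simp only [List.mem_cons, List.not_mem_nil, or_false] at hw
    rcases hw with rfl | rfl | rfl | rfl
    · rw [swap_apply_of_ne_of_ne n4 n5, swap_apply_right]
    · rw [D.σσ hu, swap_apply_of_ne_of_ne n2 n3, swap_apply_left]
    · rw [swap_apply_right, swap_apply_of_ne_of_ne n2.symm n4.symm]
    · rw [D.σσ hu, swap_apply_left, swap_apply_of_ne_of_ne n3.symm n5.symm]
  rw [mul_inv_cancel_left, mul_assoc] at hc
  exact (inv_mul_eq_iff_eq_mul.1 hc).symm

/-- Three transposition cycles of `u`. -/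
theorem three_pairs (hu : u * u = 1) (h8 : 8 ≤ (D.π u).support.card) :
    ∃ p q r : Fin n, D.π u p ≠ p ∧ D.π u q ≠ q ∧ D.π u r ≠ r ∧ q ≠ p ∧ q ≠ D.π u p ∧ r ≠ p ∧ r ≠ D.π u p ∧
      r ≠ q ∧ r ≠ D.π u q := by
  classical
  obtain ⟨p, hp⟩ := Finset.card_pos.1 (show 0 < (D.π u).support.card by omega)
  obtain ⟨q, hq, hq'⟩ := Finset.exists_mem_notMem_of_card_lt_card
    (show ({p, D.π u p} : Finset (Fin n)).card < (D.π u).support.card from
      lt_of_le_of_lt Finset.card_le_two (by omega))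
  obtain ⟨r, hr, hr'⟩ := Finset.exists_mem_notMem_of_card_lt_card
    (show ({p, D.π u p} ∪ {q, D.π u q} : Finset (Fin n)).card < (D.π u).support.card from
      lt_of_le_of_lt (Finset.card_union_le _ _)
        (lt_of_le_of_lt (add_le_add Finset.card_le_two Finset.card_le_two) (by omega)))
  simp only [Finset.mem_union, Finset.mem_insert, Finset.mem_singleton, not_or] at hq' hr'
  exact ⟨p, q, r, Perm.mem_support.1 hp, Perm.mem_support.1 hq, Perm.mem_support.1 hr, hq'.1, hq'.2, hr'.1.1, hr'.1.2,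
    hr'.2.1, hr'.2.2⟩

/-- A normal 2-subgroup of the centralizer has the central involution as a commutator. -/
theorem exists_two_normal (hu : u * u = 1) (h8 : 8 ≤ (D.π u).support.card) :
    ∃ E : Subgroup ↥(Cu u), E.Normal ∧ IsPGroup 2 E ∧ ∃ a ∈ E, ∃ b ∈ E, ⁅a, b⁆ = D.zU u := by
  let E : Subgroup ↥(Cu u) :=
  { carrier := {e | ∀ x, D.π (e : C) x = x ∨ D.π (e : C) x = D.π u x}
    one_mem' := fun x => Or.inl (by rw [Subgroup.coe_one, map_one]; rfl)
    mul_mem' := fun {e f} he hf x => by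
      rw [Subgroup.coe_mul, map_mul, Perm.mul_apply]
      rcases hf x with h | h <;> rw [h]
      · exact he x
      · rcases he (D.π u x) with h' | h' <;> rw [h']
        · exact Or.inr rfl
        · exact Or.inl (D.σσ hu x)
    inv_mem' := fun {e} he x => by
      rw [Subgroup.coe_inv, map_inv]
      rcases he x with h | h
      · exact Or.inl (Perm.inv_eq_iff_eq.2 h.symm)
      · refine Or.inr (Perm.inv_eq_iff_eq.2 ?_)
        rw [D.π_comm e x, h, D.σσ hu] }
  have hE : ∀ e : ↥(Cu u), e ∈ E ↔ ∀ x, D.π (e : C) x = x ∨ D.π (e : C) x = D.π u x := fun _ => Iff.rfl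
  refine ⟨E, ⟨fun e he g => (hE _).2 fun x => ?_⟩, ?_, ?_⟩
  · rw [Subgroup.coe_mul, Subgroup.coe_mul, Subgroup.coe_inv, map_mul, map_mul, map_inv, Perm.mul_apply, Perm.mul_apply]
    rcases (hE e).1 he ((D.π (g : C))⁻¹ x) with h | h <;> rw [h]
    · exact Or.inl (by rw [Perm.inv_def, Equiv.apply_symm_apply])
    · exact Or.inr (by rw [D.π_comm g, Perm.inv_def, Equiv.apply_symm_apply])
  · intro e
    have h2 : D.π ((e : ↥(Cu u)) : C) * D.π ((e : ↥(Cu u)) : C) = 1 := Perm.ext fun x => by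
      rw [Perm.mul_apply, Perm.one_apply]
      rcases (hE e).1 e.2 x with h | h
      · rw [h, h]
      · rw [h, D.π_comm, h, D.σσ hu]
    refine ⟨2, Subtype.ext (Subtype.ext ?_)⟩
    simp only [Subgroup.coe_pow, Subgroup.coe_one]
    rcases (D.ker _).1 ((map_mul D.π _ _).trans h2) with h | h
    · rw [show (2 : ℕ) ^ 2 = 2 * 2 by norm_num, pow_mul, pow_two ((e : ↥(Cu u)) : C), h, one_pow]
    · rw [show (2 : ℕ) ^ 2 = 2 * 2 by norm_num, pow_mul, pow_two ((e : ↥(Cu u)) : C), h, pow_two, D.zz]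
  obtain ⟨p, q, r, hp, hq, hr, q1, q2, r1, r2, r3, r4⟩ := D.three_pairs hu h8
  obtain ⟨a, ha⟩ := D.lift_pair hu hp hq q1 q2
  obtain ⟨b, hb⟩ := D.lift_pair hu hp hr r1 r2
  have hin : ∀ {x y : Fin n} (c : ↥(Cu u)), D.π (c : C) = swap x (D.π u x) * swap y (D.π u y) → c ∈ E := by
    intro x y c hc w
    have key : ∀ x w : Fin n, swap x (D.π u x) w = w ∨ swap x (D.π u x) w = D.π u w := fun x w => by
      by_cases h1 : w = x
      · subst h1; exact Or.inr (swap_apply_left _ _)
      by_cases h2 : w = D.π u x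
      · subst h2; exact Or.inr (by rw [swap_apply_right, D.σσ hu])
      exact Or.inl (swap_apply_of_ne_of_ne h1 h2)
    rw [hc, Perm.mul_apply]
    rcases key y w with h | h <;> rw [h]
    · exact key x w
    · rcases key x (D.π u w) with h' | h' <;> rw [h']
      · exact Or.inr rfl
      · exact Or.inl (D.σσ hu w)
  refine ⟨a, hin a ha, b, hin b hb, Subtype.ext ?_⟩
  have hA : IsDT (D.π (a : C)) := ⟨_, _, _, _, D.pair_nodup hu hp hq q1 q2, ha⟩
  have hB : IsDT (D.π (b : C)) := ⟨_, _, _, _, D.pair_nodup hu hp hr r1 r2, hb⟩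
  obtain ⟨n1, n2, n3, n4, n5, n6⟩ := nodup_four (D.pair_nodup hu hp hq q1 q2)
  have hAB : IsDT (D.π ((a : C) * b)) := by
    have hd : Commute (swap p (D.π u p)) (swap q (D.π u q)) :=
      Perm.Disjoint.commute (disjoint_swaps n2 n3 n4 n5)
    refine ⟨_, _, _, _, D.pair_nodup hu hq hr r3 r4, ?_⟩
    rw [map_mul, ha, hb, hd.eq, mul_assoc, ← mul_assoc (swap p (D.π u p)), swap_mul_self, one_mul]
  have hinv : ∀ {c : C}, c * c = D.z → c⁻¹ = c * D.z := fun {c} h => by
    refine inv_eq_of_mul_eq_one_right ?_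
    rw [← mul_assoc, h, D.zz]
  show (a : C) * b * (a : C)⁻¹ * (b : C)⁻¹ = D.z
  rw [hinv (D.dt _ hA), hinv (D.dt _ hB)]
  calc (a : C) * b * (a * D.z) * (b * D.z) = (a * b * a) * (D.z * b) * D.z := by simp only [mul_assoc]
    _ = (a * b * (a * b)) * (D.z * D.z) := by rw [← D.zc b]; simp only [mul_assoc]
    _ = D.z := by rw [D.dt _ hAB, D.zz, mul_one]

/-- The transposition cycles of `u`. -/
abbrev Pairs (u : C) : Type := {s : Finset (Fin n) // ∃ x, D.π u x ≠ x ∧ s = {x, D.π u x}}

theorem pairs_image (e : ↥(Cu u)) (s : D.Pairs u) :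
    ∃ x, D.π u x ≠ x ∧ s.1.image (D.π (e : C)) = {x, D.π u x} := by
  obtain ⟨x, hx, hs⟩ := s.2
  refine ⟨D.π (e : C) x, fun h => hx ((D.π (e : C)).injective ?_), ?_⟩
  · rw [D.π_comm e x, h]
  · rw [hs, Finset.image_insert, Finset.image_singleton, D.π_comm e x]

/-- The action on the transposition cycles. -/
noncomputable def pairAct (u : C) : ↥(Cu u) →* Perm (D.Pairs u) :=
  MonoidHom.toHomPerm
  { toFun := fun e s => ⟨s.1.image (D.π (e : C)), D.pairs_image e s⟩
    map_one' := funext fun s => Subtype.ext (by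
      show s.1.image (D.π ((1 : ↥(Cu u)) : C)) = s.1
      rw [Subgroup.coe_one, map_one]; exact Finset.image_id)
    map_mul' := fun e f => funext fun s => Subtype.ext (by
      show s.1.image (D.π ((e * f : ↥(Cu u)) : C)) = (s.1.image (D.π (f : C))).image (D.π (e : C))
      rw [Finset.image_image, Subgroup.coe_mul, map_mul]; rfl) }

theorem pairAct_apply (e : ↥(Cu u)) (s : D.Pairs u) : (D.pairAct u e s).1 = s.1.image (D.π (e : C)) := rfl

/-- A normal 2-subgroup of the centralizer of an involution with large support does not have it as a commutator. -/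
theorem no_two_normal (hu : u * u = 1) (h16 : 16 ≤ (D.π u).support.card) (E : Subgroup ↥(Cu u)) [hEn : E.Normal]
    (hE : IsPGroup 2 E) {a b : ↥(Cu u)} (ha : a ∈ E) (hb : b ∈ E) : ⁅a, b⁆ ≠ uU u := by
  classical
  have h5 : 5 ≤ Fintype.card (D.Pairs u) := by
    have hsub : (D.π u).support ⊆ (Finset.univ : Finset (D.Pairs u)).biUnion fun s => s.1 := fun x hx =>
      Finset.mem_biUnion.2 ⟨⟨_, x, Perm.mem_support.1 hx, rfl⟩, Finset.mem_univ _, Finset.mem_insert_self _ _⟩
    have h2 := (Finset.card_le_card hsub).trans (Finset.card_biUnion_le_card_mul _ _ 2 fun s _ => by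
      obtain ⟨x, -, hs⟩ := s.2; rw [hs]; exact Finset.card_le_two)
    rw [Finset.card_univ] at h2
    omega
  have hnorm : ∀ e : ↥(Cu u), D.pairAct u e ∈ normalizer (E.map (D.pairAct u) : Set (Perm (D.Pairs u))) := fun e =>
    Subgroup.le_normalizer_map (D.pairAct u) ⟨e, (normalizer_eq_top_iff.2 hEn).symm ▸ mem_top e, rfl⟩
  have hN : E.map (D.pairAct u) = ⊥ := by
    refine two_group_eq_bot h5 _ (hE.map _) fun P Q R hPQ hQR hPR => ?_
    obtain ⟨a', ha', hP⟩ := P.2
    obtain ⟨b', hb', hQ⟩ := Q.2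
    obtain ⟨c', hc', hR⟩ := R.2
    have sep : ∀ {S T : D.Pairs u} {x y : Fin n}, S.1 = {x, D.π u x} → T.1 = {y, D.π u y} → S ≠ T →
        x ≠ y ∧ x ≠ D.π u y ∧ D.π u x ≠ y ∧ D.π u x ≠ D.π u y := by
      intro S T x y hS hT hne
      have h : ∀ w, w = x ∨ w = D.π u x → w ≠ y ∧ w ≠ D.π u y := by
        intro w hw
        constructor
        · rintro rfl
          refine hne (Subtype.ext (hS.trans (Eq.trans ?_ hT.symm)))
          rcases hw with rfl | rfl
          · rfl
          · rw [D.σσ hu, Finset.pair_comm]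
        · rintro rfl
          refine hne (Subtype.ext (hS.trans (Eq.trans ?_ hT.symm)))
          rcases hw with h | h
          · rw [← h, D.σσ hu, Finset.pair_comm]
          · rw [(D.π u).injective h]
      exact ⟨(h x (Or.inl rfl)).1, (h x (Or.inl rfl)).2, (h _ (Or.inr rfl)).1, (h _ (Or.inr rfl)).2⟩
    obtain ⟨ab, ab', a'b, a'b'⟩ := sep hP hQ hPQ
    obtain ⟨bc, bc', b'c, b'c'⟩ := sep hQ hR hQR
    obtain ⟨ac, ac', a'c, a'c'⟩ := sep hP hR hPR
    set τ := (swap a' b' * swap b' c') * (swap (D.π u a') (D.π u b') * swap (D.π u b') (D.π u c')) with hτ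
    have hsgn : Perm.sign τ = 1 := by
      rw [hτ, map_mul, map_mul, map_mul, Perm.sign_swap ab, Perm.sign_swap bc, Perm.sign_swap a'b',
        Perm.sign_swap b'c']
      decide
    have v1 : τ a' = b' := by
      rw [hτ]; simp [Perm.mul_apply, swap_apply_of_ne_of_ne, ab, ab', ac, ac', ha'.symm]
    have v2 : τ b' = c' := by
      rw [hτ]; simp [Perm.mul_apply, swap_apply_of_ne_of_ne, ab, bc, bc', a'b.symm, hb'.symm, ac.symm, bc.symm]
    have v3 : τ c' = a' := by
      rw [hτ]; simp [Perm.mul_apply, swap_apply_of_ne_of_ne, a'c.symm, b'c.symm, hc'.symm]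
    have v1' : τ (D.π u a') = D.π u b' := by
      rw [hτ]; simp [Perm.mul_apply, swap_apply_of_ne_of_ne, a'b', a'c', ab'.symm, hb', bc'.symm, b'c]
    have v2' : τ (D.π u b') = D.π u c' := by
      rw [hτ]; simp [Perm.mul_apply, swap_apply_of_ne_of_ne, b'c', a'c'.symm, b'c'.symm, ac'.symm, bc'.symm, hc']
    have v3' : τ (D.π u c') = D.π u a' := by
      rw [hτ]; simp [Perm.mul_apply, swap_apply_of_ne_of_ne, ha', a'b, a'c]
    have vfix : ∀ x, x ≠ a' → x ≠ b' → x ≠ c' → x ≠ D.π u a' → x ≠ D.π u b' → x ≠ D.π u c' → τ x = x := by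
      intro x x1 x2 x3 x4 x5 x6
      rw [hτ]; simp [Perm.mul_apply, swap_apply_of_ne_of_ne, x1, x2, x3, x4, x5, x6]
    have h3 : τ ^ 3 = 1 := Perm.ext fun x => by
      simp only [pow_succ, pow_zero, one_mul, Perm.mul_apply, Perm.one_apply]
      by_cases x1 : x = a'
      · rw [x1, v1, v2, v3]
      by_cases x2 : x = b'
      · rw [x2, v2, v3, v1]
      by_cases x3 : x = c'
      · rw [x3, v3, v1, v2]
      by_cases x4 : x = D.π u a'
      · rw [x4, v1', v2', v3']
      by_cases x5 : x = D.π u b'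
      · rw [x5, v2', v3', v1']
      by_cases x6 : x = D.π u c'
      · rw [x6, v3', v1', v2']
      simp only [vfix x x1 x2 x3 x4 x5 x6]
    have hτu : D.π u * τ = τ * D.π u := Perm.ext fun x => by
      simp only [Perm.mul_apply]
      by_cases x1 : x = a'
      · rw [x1, v1, v1']
      by_cases x2 : x = b'
      · rw [x2, v2, v2']
      by_cases x3 : x = c'
      · rw [x3, v3, v3']
      by_cases x4 : x = D.π u a'
      · rw [x4, v1', D.σσ hu, D.σσ hu, v1]
      by_cases x5 : x = D.π u b'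
      · rw [x5, v2', D.σσ hu, D.σσ hu, v2]
      by_cases x6 : x = D.π u c'
      · rw [x6, v3', D.σσ hu, D.σσ hu, v3]
      rw [vfix x x1 x2 x3 x4 x5 x6, vfix]
      · exact fun e => x4 (by rw [← e, D.σσ hu])
      · exact fun e => x5 (by rw [← e, D.σσ hu])
      · exact fun e => x6 (by rw [← e, D.σσ hu])
      · exact fun e => x1 ((D.π u).injective e)
      · exact fun e => x2 ((D.π u).injective e)
      · exact fun e => x3 ((D.π u).injective e)
    obtain ⟨t, ht, ht3⟩ := D.exists_lift_three hsgn h3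
    have hmem : t ∈ Cu u := mem_Cu.2 (D.commute_three ht3 (by rw [ht]; exact hτu)).symm
    have key : D.pairAct u ⟨t, hmem⟩ = swap P Q * swap Q R := by
      refine Perm.ext fun S => Subtype.ext ?_
      rw [D.pairAct_apply, ht, Perm.mul_apply]
      by_cases hSP : S = P
      · rw [hSP, swap_apply_of_ne_of_ne hPQ hPR, swap_apply_left, hP, hQ, Finset.image_insert, Finset.image_singleton,
          v1, v1']
      by_cases hSQ : S = Q
      · rw [hSQ, swap_apply_left, swap_apply_of_ne_of_ne hPR.symm hQR.symm, hQ, hR, Finset.image_insert,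
          Finset.image_singleton, v2, v2']
      by_cases hSR : S = R
      · rw [hSR, swap_apply_right, swap_apply_right, hR, hP, Finset.image_insert, Finset.image_singleton, v3, v3']
      rw [swap_apply_of_ne_of_ne hSQ hSR, swap_apply_of_ne_of_ne hSP hSQ]
      obtain ⟨x, -, hS⟩ := S.2
      obtain ⟨xa, xa', x'a, x'a'⟩ := sep hS hP hSP
      obtain ⟨xb, xb', x'b, x'b'⟩ := sep hS hQ hSQ
      obtain ⟨xc, xc', x'c, x'c'⟩ := sep hS hR hSR
      rw [hS, Finset.image_insert, Finset.image_singleton, vfix x xa xb xc xa' xb' xc',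
        vfix _ x'a x'b x'c x'a' x'b' x'c']
    exact key ▸ hnorm _
  intro hab
  have hpres : ∀ e ∈ E, ∀ x, D.π u x ≠ x → D.π (e : C) x = x ∨ D.π (e : C) x = D.π u x := by
    intro e he x hx
    have h1 : D.pairAct u e = 1 := by rw [← mem_bot, ← hN]; exact mem_map_of_mem _ he
    have h2 : ({x, D.π u x} : Finset (Fin n)).image (D.π (e : C)) = {x, D.π u x} := by
      conv_rhs => rw [show ({x, D.π u x} : Finset (Fin n)) =
        (D.pairAct u e ⟨{x, D.π u x}, x, hx, rfl⟩).1 by rw [h1]; rfl]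
      exact (D.pairAct_apply e ⟨{x, D.π u x}, x, hx, rfl⟩).symm
    have h3 : D.π (e : C) x ∈ ({x, D.π u x} : Finset (Fin n)) := by
      rw [← h2]; exact Finset.mem_image_of_mem _ (Finset.mem_insert_self _ _)
    simpa using h3
  obtain ⟨x, hx⟩ := Finset.card_pos.1 (show 0 < (D.π u).support.card by omega)
  have hx' := Perm.mem_support.1 hx
  have hswap : D.π (a : C) (D.π (b : C) x) = D.π (b : C) (D.π (a : C) x) := by
    rcases hpres a ha x hx' with h | h <;> rcases hpres b hb x hx' with h' | h' <;>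
      simp only [h, h', D.π_comm]
  have e1 : a * b = uU u * (b * a) := by rw [← hab, commutatorElement_def]; group
  have e2 := congrArg (fun w : ↥(Cu u) => D.π (w : C) x) e1
  simp only [Subgroup.coe_mul, map_mul, Perm.mul_apply, hswap] at e2
  rcases hpres a ha x hx' with h | h <;> rcases hpres b hb x hx' with h' | h' <;>
    simp only [h, h', D.π_comm, uU, D.σσ hu] at e2
  all_goals first
    | exact hx' e2.symm
    | exact hx' e2

/-- A normal subgroup of the centralizer with an element of order three, avoiding the involution. -/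
theorem exists_three_normal (hu : u * u = 1) (h8 : (D.π u).support.card = 8) (hn : 11 ≤ n) :
    ∃ H : Subgroup ↥(Cu u), H.Normal ∧ (∃ s ∈ H, orderOf s = 3) ∧ uU u ∉ H := by
  classical
  haveI : Fact (Nat.Prime 3) := ⟨Nat.prime_three⟩
  let H : Subgroup ↥(Cu u) :=
  { carrier := {e | ∀ x, D.π u x ≠ x → D.π (e : C) x = x}
    one_mem' := fun x _ => by rw [Subgroup.coe_one, map_one]; rfl
    mul_mem' := fun {e f} he hf x hx => by rw [Subgroup.coe_mul, map_mul, Perm.mul_apply, hf x hx, he x hx]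
    inv_mem' := fun {e} he x hx => by
      rw [Subgroup.coe_inv, map_inv]; exact Perm.inv_eq_iff_eq.2 (he x hx).symm }
  refine ⟨H, ⟨fun e he g x hx => ?_⟩, ?_, fun h => ?_⟩
  · rw [Subgroup.coe_mul, Subgroup.coe_mul, Subgroup.coe_inv, map_mul, map_mul, map_inv, Perm.mul_apply, Perm.mul_apply]
    have hgx : D.π u ((D.π (g : C))⁻¹ x) ≠ (D.π (g : C))⁻¹ x := fun h => hx (by
      have h' := congrArg (D.π (g : C)) h
      rwa [D.π_comm g, Perm.inv_def, Equiv.apply_symm_apply] at h')
    rw [he _ hgx, Perm.inv_def, Equiv.apply_symm_apply]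
  · obtain ⟨s, hs, hs3⟩ := Finset.exists_subset_card_eq (show 3 ≤ ((D.π u).support)ᶜ.card by
      rw [Finset.card_compl, h8, Fintype.card_fin]; omega)
    obtain ⟨a, b, c, ab, ac, bc, rfl⟩ := Finset.card_eq_three.1 hs3
    have hfix : ∀ y ∈ ({a, b, c} : Finset (Fin n)), D.π u y = y := fun y hy => by
      have := hs hy
      rw [Finset.mem_compl, Perm.mem_support, not_not] at this
      exact this
    have hc3 : (swap a b * swap b c).IsThreeCycle := by
      rw [swap_comm a b]; exact Perm.isThreeCycle_swap_mul_swap_same ab.symm bc ac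
    obtain ⟨t, ht, ht3⟩ := D.exists_lift_three hc3.sign (by rw [← hc3.orderOf, pow_orderOf_eq_one])
    have hcm : D.π u * D.π t = D.π t * D.π u := by
      have hsw : ∀ p ∈ ({a, b, c} : Finset (Fin n)), ∀ q ∈ ({a, b, c} : Finset (Fin n)),
          D.π u * swap p q = swap p q * D.π u := fun p hp q hq => by
        rw [mul_swap_eq_swap_mul, hfix p hp, hfix q hq]
      rw [ht, ← mul_assoc, hsw a (by simp) b (by simp), mul_assoc, hsw b (by simp) c (by simp), mul_assoc]
    refine ⟨⟨t, mem_Cu.2 (D.commute_three ht3 hcm).symm⟩, fun x hx => ?_, ?_⟩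
    · show D.π t x = x
      have hne : ∀ y ∈ ({a, b, c} : Finset (Fin n)), x ≠ y := fun y hy e => hx (e ▸ hfix y hy)
      rw [ht, Perm.mul_apply, swap_apply_of_ne_of_ne (hne b (by simp)) (hne c (by simp)),
        swap_apply_of_ne_of_ne (hne a (by simp)) (hne b (by simp))]
    · rw [← orderOf_coe]
      exact orderOf_eq_prime ht3 fun h => hc3.ne_one (ht.symm.trans (by rw [show t = 1 from h, map_one]))
  · obtain ⟨x, hx⟩ := Finset.card_pos.1 (show 0 < (D.π u).support.card by omega)
    exact Perm.mem_support.1 hx (h x (Perm.mem_support.1 hx))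

/-- Every normal subgroup of the centralizer with an element of order three contains the central involution. -/
theorem z_mem_three_normal (hu : u * u = 1) (h8 : (D.π u).support.card = 8) (hn : 12 ≤ n)
    (N : Subgroup ↥(Cu u)) [hNn : N.Normal] {s : ↥(Cu u)} (hs : s ∈ N) (hs3 : orderOf s = 3) :
    D.zU u ∈ N := by
  classical
  set τ := D.π (s : C) with hτ
  have hτ3 : ∀ x, τ (τ (τ x)) = x := fun x => by
    have h : (s : C) ^ 3 = 1 := by rw [← Subgroup.coe_pow, ← hs3, pow_orderOf_eq_one, Subgroup.coe_one]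
    have h' := congrArg (fun c => D.π c x) h
    simpa [pow_succ, Perm.mul_apply] using h'
  -- conjugating a lifted double transposition by `s`
  have main : ∀ h : ↥(Cu u), IsDT (τ * D.π (h : C) * τ⁻¹ * (D.π (h : C))⁻¹) → D.zU u ∈ N := by
    intro h hdt
    have hm : s * h * s⁻¹ * h⁻¹ ∈ N := by
      rw [show s * h * s⁻¹ * h⁻¹ = s * (h * s⁻¹ * h⁻¹) by group]
      exact mul_mem hs (hNn.conj_mem _ (inv_mem hs) h)
    have hd : IsDT (D.π ((s * h * s⁻¹ * h⁻¹ : ↥(Cu u)) : C)) := by
      simpa only [Subgroup.coe_mul, Subgroup.coe_inv, map_mul, map_inv] using hdt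
    have e : (s * h * s⁻¹ * h⁻¹) * (s * h * s⁻¹ * h⁻¹) = D.zU u := Subtype.ext (D.dt _ hd)
    exact e ▸ mul_mem hm hm
  have hdtinv : ∀ {p q a b : Fin n}, [p, q, a, b].Nodup → (swap p q * swap a b)⁻¹ = swap p q * swap a b :=
    fun {p q a b} h => inv_eq_of_mul_eq_one_right (IsDT.mul_self ⟨p, q, a, b, h, rfl⟩)
  have hconj : ∀ p q a b : Fin n, τ * (swap p q * swap a b) * τ⁻¹ = swap (τ p) (τ q) * swap (τ a) (τ b) := by
    intro p q a b
    rw [show τ * (swap p q * swap a b) * τ⁻¹ = (τ * swap p q * τ⁻¹) * (τ * swap a b * τ⁻¹) by group,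
      ← swap_apply_apply, ← swap_apply_apply]
  by_cases hcase : ∃ x, D.π u x ≠ x ∧ τ x ≠ x ∧ τ x ≠ D.π u x
  · obtain ⟨x, hx, hx1, hx2⟩ := hcase
    set y := τ x with hy
    have hτu : ∀ w, τ (D.π u w) = D.π u (τ w) := fun w => D.π_comm s w
    have hyσ : D.π u y ≠ y := fun h => hx (τ.injective (by rw [hτu]; exact h))
    have hwσ : D.π u (τ y) ≠ τ y := fun h => hyσ (τ.injective (by rw [hτu]; exact h))
    have w1 : τ y ≠ y := fun h => hx1 (τ.injective h)
    have w2 : τ y ≠ D.π u y := fun h => hx2 (τ.injective (by rw [hτu]; exact h))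
    have w3 : τ y ≠ x := fun h => hx1 (by
      have := hτ3 x; rw [← hy, h, ← hy] at this; exact this)
    have w4 : τ y ≠ D.π u x := fun h => hx2 (by
      have := hτ3 x
      rw [← hy, h, hτu, ← hy] at this
      rw [← this, D.σσ hu])
    obtain ⟨a, ha⟩ := D.lift_pair hu hx hyσ hx1 hx2
    refine main a ?_
    have hnd := D.pair_nodup hu hx hyσ hx1 hx2
    rw [ha, hdtinv hnd, hconj, hτu, hτu, ← hy]
    obtain ⟨n1, n2, n3, n4, n5, n6⟩ := nodup_four (D.pair_nodup hu hx hwσ w3 w4)
    obtain ⟨m1, m2, m3, m4, m5, m6⟩ := nodup_four hnd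
    obtain ⟨l1, l2, l3, l4, l5, l6⟩ := nodup_four (D.pair_nodup hu hyσ hwσ w1 w2)
    have c1 : Commute (swap y (D.π u y)) (swap (τ y) (D.π u (τ y))) :=
      Perm.Disjoint.commute (disjoint_swaps l2 l3 l4 l5)
    have c2 : Commute (swap x (D.π u x)) (swap y (D.π u y)) := Perm.Disjoint.commute (disjoint_swaps m2 m3 m4 m5)
    rw [c1.eq, c2.eq, mul_assoc, ← mul_assoc (swap y (D.π u y)), swap_mul_self, one_mul]
    exact IsDT.mk l6 n2.symm n4.symm n3.symm n5.symm n1
  push Not at hcase
  have hfixS : ∀ x, D.π u x ≠ x → τ x = x := fun x hx => by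
    by_contra h
    have h1 := hcase x hx h
    have h2 := hτ3 x
    rw [h1, D.π_comm s x, ← hτ, h1, D.σσ hu, h1] at h2
    exact hx h2
  have hτ1 : τ ≠ 1 := fun h => by
    rcases (D.ker _).1 h with e | e
    · rw [show s = 1 from Subtype.ext e, orderOf_one] at hs3; omega
    · have e' : s * s = 1 := Subtype.ext (by rw [Subgroup.coe_mul, e, D.zz]; rfl)
      have hd := orderOf_dvd_of_pow_eq_one (show s ^ 2 = 1 by rw [pow_two, e'])
      rw [hs3] at hd; norm_num at hd
  obtain ⟨x, hx⟩ : ∃ x, τ x ≠ x := by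
    by_contra h
    push Not at h
    exact hτ1 (Perm.ext h)
  set y := τ x with hy
  set w := τ y with hw
  have hτw : τ w = x := hτ3 x
  have out : ∀ p, τ p ≠ p → D.π u p = p := fun p hp => by
    by_contra h; exact hp (hfixS p h)
  have xy : x ≠ y := hx.symm
  have yw : y ≠ w := fun h => hx (τ.injective h).symm
  have xw : x ≠ w := fun h => hx (hy.trans ((congrArg τ h).trans hτw))
  have ux : D.π u x = x := out x hx
  have uy : D.π u y = y := out y yw.symm
  have uw : D.π u w = w := out w (by rw [hτw]; exact xw)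
  have lift_fixed : ∀ p q a b : Fin n, [p, q, a, b].Nodup → (∀ i ∈ [p, q, a, b], D.π u i = i) →
      ∃ h : ↥(Cu u), D.π (h : C) = swap p q * swap a b := by
    intro p q a b hnd hf
    obtain ⟨h, hh⟩ := D.lift _ (IsDT.sign_eq ⟨p, q, a, b, hnd, rfl⟩)
    exact ⟨⟨h, mem_Cu.2 (D.commute_dt hnd hh hf).symm⟩, hh⟩
  obtain ⟨v, hv, hv'⟩ := Finset.exists_mem_notMem_of_card_lt_card
    (show ({x, y, w} : Finset (Fin n)).card < ((D.π u).support)ᶜ.card from
      lt_of_le_of_lt Finset.card_le_three (by rw [Finset.card_compl, h8, Fintype.card_fin]; omega))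
  rw [Finset.mem_compl, Perm.mem_support, not_not] at hv
  simp only [Finset.mem_insert, Finset.mem_singleton, not_or] at hv'
  obtain ⟨vx, vy, vw⟩ := hv'
  by_cases hvfix : τ v = v
  · have hnd : [x, y, w, v].Nodup := by simp [xy, xw, Ne.symm vx, yw, Ne.symm vy, Ne.symm vw]
    obtain ⟨h, hh⟩ := lift_fixed x y w v hnd (by simp [ux, uy, uw, hv])
    refine main h ?_
    rw [hh, hdtinv hnd, hconj, hτw, hvfix, ← hy, ← hw]
    have e := dt_klein (p := x) (q := v) (u := y) (v := w) (by simp [Ne.symm vx, xy, xw, vy, vw, yw])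
    rw [swap_comm v w] at e
    rw [(Perm.Disjoint.commute (disjoint_swaps xy.symm (Ne.symm vy) xw.symm (Ne.symm vw))).eq, e]
    exact IsDT.mk xw (Ne.symm vx) xy (Ne.symm vw) yw.symm vy
  · set q := τ v with hq
    set r := τ q with hr
    have vq : v ≠ q := Ne.symm hvfix
    have hτr : τ r = v := hτ3 v
    have qx : q ≠ x := fun h => vw (τ.injective (by rw [← hq, h, hτw]))
    have qy : q ≠ y := fun h => vx (τ.injective h)
    have qw : q ≠ w := fun h => vy (τ.injective h)
    have rx : r ≠ x := fun h => qw (τ.injective (by rw [← hr, h, hτw]))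
    have ry : r ≠ y := fun h => qx (τ.injective h)
    have rw' : r ≠ w := fun h => qy (τ.injective h)
    have rq : r ≠ q := fun h => vq (τ.injective h).symm
    have rv : r ≠ v := fun h => hvfix ((congrArg τ h).symm.trans hτr)
    have uq : D.π u q = q := out q rq
    have hnd : [x, v, y, q].Nodup := by simp [Ne.symm vx, xy, Ne.symm qx, vy, vq, Ne.symm qy]
    obtain ⟨h, hh⟩ := lift_fixed x v y q hnd (by simp [ux, hv, uy, uq])
    refine main h ?_
    rw [hh, hdtinv hnd, hconj, ← hy, ← hq, ← hw, ← hr]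
    have c1 : Commute (swap y q) (swap w r) :=
      Perm.Disjoint.commute (disjoint_swaps yw (Ne.symm ry) qw (Ne.symm rq))
    have c2 : Commute (swap x v) (swap y q) := Perm.Disjoint.commute (disjoint_swaps xy (Ne.symm qx) vy vq)
    rw [c1.eq, c2.eq, mul_assoc, ← mul_assoc (swap y q), swap_mul_self, one_mul]
    exact IsDT.mk rw'.symm (Ne.symm xw) (Ne.symm vw) rx rv (Ne.symm vx)

end Cover

/-- Two covers glued along the centralizers of two involutions force the degree to be at most eleven. -/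
theorem degree_bound {C C' : Type*} [Group C] [Group C'] {n : ℕ} (D : Cover C n) (D' : Cover C' n) {u : C} {u' : C'}
    (hu : u * u = 1) (hu' : u' * u' = 1) (hπ : D.π u ≠ 1) (hπ' : D'.π u' ≠ 1)
    (φ : ↥(Cover.Cu u) ≃* ↥(Cover.Cu u')) (hz : φ (D.zU u) = Cover.uU u') (hzu : φ (Cover.uU u) = D'.zU u') :
    (D.π u).support.card = 8 ∧ 8 ≤ n ∧ n ≤ 11 := by
  obtain ⟨j, hj, hcard⟩ := D.invol_support hu hπ
  obtain ⟨j', hj', hcard'⟩ := D'.invol_support hu' hπ'
  have h8n : 8 * j ≤ n := hcard ▸ (Finset.card_le_univ _).trans (by rw [Fintype.card_fin])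
  have h8n' : 8 * j' ≤ n := hcard' ▸ (Finset.card_le_univ _).trans (by rw [Fintype.card_fin])
  have e1 : j = 1 := by
    by_contra h
    obtain ⟨E, hEn, hE2, a, ha, b, hb, hab⟩ := D'.exists_two_normal hu' (by omega)
    haveI : (E.comap φ.toMonoidHom).Normal := hEn.comap _
    refine D.no_two_normal hu (by omega) (E.comap φ.toMonoidHom) (hE2.comap_of_injective _ φ.injective)
      (a := φ.symm a) (b := φ.symm b) (by simpa [mem_comap] using ha) (by simpa [mem_comap] using hb) ?_
    rw [← map_commutatorElement, hab, ← hzu, φ.symm_apply_apply]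
  have e2 : j' = 1 := by
    by_contra h
    obtain ⟨E, hEn, hE2, a, ha, b, hb, hab⟩ := D.exists_two_normal hu (by omega)
    haveI : (E.comap φ.symm.toMonoidHom).Normal := hEn.comap _
    refine D'.no_two_normal hu' (by omega) (E.comap φ.symm.toMonoidHom) (hE2.comap_of_injective _ φ.symm.injective)
      (a := φ a) (b := φ b) (by simpa [mem_comap] using ha) (by simpa [mem_comap] using hb) ?_
    rw [← map_commutatorElement, hab, hz]
  refine ⟨by omega, by omega, ?_⟩
  by_contra hn
  obtain ⟨H, hHn, ⟨s, hs, hs3⟩, huH⟩ := D'.exists_three_normal hu' (by omega) (by omega)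
  haveI : (H.comap φ.toMonoidHom).Normal := hHn.comap _
  have h := D.z_mem_three_normal hu (by omega) (by omega) (H.comap φ.toMonoidHom) (s := φ.symm s)
    (by simpa [mem_comap] using hs) (by rw [MulEquiv.orderOf_eq, hs3])
  rw [mem_comap] at h
  exact huH (hz ▸ h)

end CfsgLib.Invol.AltDoubleCover
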