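import Cfsg.Agent.Lib.Invol.AltDoubleCover.Tools

/-!
# The centralizer of a lifted 3-cycle: odd core and decomposition
-/

set_option autoImplicit false
set_option maxRecDepth 100000

namespace CfsgLib.Invol.AltDoubleCover

open Equiv Subgroup
open scoped commutatorElement

namespace Ctx

variable {G : Type*} [Group G] {n : ℕ} (X : Ctx G n)

/-- The centralizer of the lifted 3-cycle. -/
abbrev Ca : Subgroup G := centralizer ({(X.a : G)} : Set G)

theorem mem_Ca {x : G} : x ∈ X.Ca ↔ x * (X.a : G) = X.a * x := mem_centralizer_singleton_iff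

theorem a_pow_three : (X.a : G) ^ 3 = 1 := by rw [← Subgroup.coe_pow, X.a_cube]; rfl

theorem a_ne_one : (X.a : G) ≠ 1 := fun h => by
  have h1 := X.π_a
  rw [show X.a = 1 from Subtype.ext h, map_one] at h1
  have h2 : (1 : Perm (Fin 9)) = cA := emb_injective X.h9 ((map_one _).trans h1)
  revert h2; decide +kernel

theorem z_mem_Ca : X.z ∈ X.Ca := X.mem_Ca.2 (X.mem_C.1 X.a.2).symm

theorem s_mem_Ca : (X.s : G) ∈ X.Ca := X.mem_Ca.2 (congrArg Subtype.val X.s_comm_a)

theorem w_conj_a : (X.w : G) * X.a * X.w = (X.a : G)⁻¹ := congrArg Subtype.val X.w_inv_a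

theorem w_inv : (X.w : G)⁻¹ = X.w := inv_eq_of_mul_eq_one_right (congrArg Subtype.val X.w_sq)

/-- Elements fixing the first triple pointwise. -/
def Fix (c : ↥X.C) : Prop := ∀ i : Fin n, (i : ℕ) < 3 → X.D.π c i = i

theorem τ_apply_ge {i : Fin n} (hi : 3 ≤ (i : ℕ)) : X.ι cA i = i := by
  by_cases h : (i : ℕ) < 9
  · obtain ⟨j, rfl⟩ : ∃ j : Fin 9, i = Fin.castLE X.h9 j := ⟨⟨i, h⟩, Fin.ext rfl⟩
    have key : ∀ j : Fin 9, 3 ≤ (j : ℕ) → cA j = j := by decide +kernel
    rw [emb_apply_lt, key j (by simpa using hi)]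
  · exact emb_apply_ge _ _ (by omega)

theorem τ_apply_lt {i : Fin n} (hi : (i : ℕ) < 3) :
    (X.ι cA i : ℕ) < 3 ∧ X.ι cA i ≠ i ∧ X.ι cA (X.ι cA i) ≠ i ∧ X.ι cA (X.ι cA (X.ι cA i)) = i := by
  obtain ⟨j, rfl⟩ : ∃ j : Fin 9, i = Fin.castLE X.h9 j := ⟨⟨i, by omega⟩, Fin.ext rfl⟩
  have key : ∀ j : Fin 9, (j : ℕ) < 3 → (cA j : ℕ) < 3 ∧ cA j ≠ j ∧ cA (cA j) ≠ j ∧ cA (cA (cA j)) = j := by
    decide +kernel
  obtain ⟨k1, k2, k3, k4⟩ := key j (by simpa using hi)
  simp only [emb_apply_lt]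
  exact ⟨by simpa using k1, fun e => k2 (Fin.castLE_injective _ e), fun e => k3 (Fin.castLE_injective _ e),
    congrArg _ k4⟩

theorem preserves {σ : Perm (Fin n)} (h : σ * X.ι cA = X.ι cA * σ) (i : Fin n) :
    (σ i : ℕ) < 3 ↔ (i : ℕ) < 3 := by
  have hc : X.ι cA (σ i) = σ (X.ι cA i) := by
    rw [← Perm.mul_apply, ← h, Perm.mul_apply]
  constructor
  · intro h1
    by_contra h2
    rw [X.τ_apply_ge (show 3 ≤ (i : ℕ) by omega)] at hc
    exact (X.τ_apply_lt h1).2.1 hc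
  · intro h1
    by_contra h2
    rw [X.τ_apply_ge (show 3 ≤ (σ i : ℕ) by omega)] at hc
    exact (X.τ_apply_lt h1).2.1 (σ.injective hc).symm

theorem π_comm_a {c : ↥X.C} (hc : (c : G) ∈ X.Ca) : X.D.π c * X.ι cA = X.ι cA * X.D.π c := by
  rw [← X.π_a, ← map_mul, ← map_mul]
  exact congrArg _ (Subtype.ext (X.mem_Ca.1 hc))

theorem fix_mem_Ca {c : ↥X.C} (hc : X.Fix c) : (c : G) ∈ X.Ca := by
  refine X.mem_Ca.2 (congrArg Subtype.val (X.D.commute_three X.a_cube (d := c) ?_))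
  rw [X.π_a]
  refine Perm.ext fun i => ?_
  rw [Perm.mul_apply, Perm.mul_apply]
  by_cases hi : (i : ℕ) < 3
  · rw [hc i hi, hc _ (X.τ_apply_lt hi).1]
  · rw [X.τ_apply_ge (show 3 ≤ (i : ℕ) by omega), X.τ_apply_ge]
    by_contra hlt
    exact hi (by
      have h1 := hc (X.D.π c i) (by omega)
      have h2 := (X.D.π c).injective h1
      rw [h2] at hlt; omega)

/-- The only involution of the centralizer commuting with the lifted 3-cycle is the central one. -/
theorem invol_Ca {u : G} (hu : u * u = 1) (hc : u ∈ X.C) (ha : u ∈ X.Ca) (h1 : u ≠ 1) : u = X.z := by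
  classical
  by_contra hne
  have hπ : X.D.π ⟨u, hc⟩ ≠ 1 := fun h => by
    rcases X.cases_one h with e | e
    · exact h1 e
    · exact hne e
  obtain ⟨j, hj, hcard⟩ := X.D.invol_support (c := ⟨u, hc⟩) (Subtype.ext hu) hπ
  set σ := X.D.π ⟨u, hc⟩
  have hcm : σ * X.ι cA = X.ι cA * σ := X.π_comm_a (c := ⟨u, hc⟩) ha
  have hσ : σ * σ = 1 := by
    rw [← map_mul, show (⟨u, hc⟩ : ↥X.C) * ⟨u, hc⟩ = 1 from Subtype.ext hu, map_one]
  have hfix : ∀ i : Fin n, (i : ℕ) < 3 → σ i = i := fun i hi => by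
    refine fixed_of_orbit hσ hcm (X.τ_apply_lt hi).2.2.2 ?_
    have h2 := (X.preserves hcm i).2 hi
    obtain ⟨k1, k2, k3, k4⟩ := X.τ_apply_lt hi
    have k5 := (X.τ_apply_lt k1).1
    have k6 : X.ι cA (X.ι cA i) ≠ X.ι cA i := (X.τ_apply_lt k1).2.1
    simp only [ne_eq, Fin.ext_iff] at k2 k3 k6 ⊢
    omega
  have hsub : σ.support ⊆ (Finset.univ : Finset (Fin n)).filter fun i : Fin n => ¬(i : ℕ) < 3 := fun i hi =>
    Finset.mem_filter.2 ⟨Finset.mem_univ _, fun hlt => Perm.mem_support.1 hi (hfix i hlt)⟩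
  have hle := Finset.card_le_card hsub
  have hcnt : ((Finset.univ : Finset (Fin n)).filter fun i : Fin n => ¬(i : ℕ) < 3).card = n - 3 := by
    have h1 := Finset.card_filter_add_card_filter_not (s := (Finset.univ : Finset (Fin n))) (fun i : Fin n => (i : ℕ) < 3)
    have h2 : ((Finset.univ : Finset (Fin n)).filter fun i : Fin n => (i : ℕ) < 3).card = 3 := by
      rw [Finset.card_eq_of_bijective (n := 3) (fun i hi => (⟨i, by have := X.h9; omega⟩ : Fin n))]
      · intro i hi; exact ⟨i, (Finset.mem_filter.1 hi).2, rfl⟩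
      · intro i hi; exact Finset.mem_filter.2 ⟨Finset.mem_univ _, hi⟩
      · intro i j hi hj e; exact congrArg Fin.val e
    rw [Finset.card_univ, Fintype.card_fin] at h1
    omega
  have := X.h10
  omega

/-- A subgroup normalised by the pointwise stabiliser of the triple with a nontrivial element there contains the
central involution. -/
theorem z_mem_of_normalized (N : Subgroup ↥X.C) (hN : ∀ k : ↥X.C, X.Fix k → ∀ y ∈ N, k * y * k⁻¹ ∈ N)
    {y : ↥X.C} (hy : y ∈ N) (hfix : X.Fix y) (hπ : X.D.π y ≠ 1) : X.D.z ∈ N := by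
  classical
  let β := {i : Fin n // ¬(i : ℕ) < 3}
  have hcard : 5 ≤ Fintype.card β := by
    have := X.h9
    calc 5 = Fintype.card (Fin 5) := (Fintype.card_fin 5).symm
      _ ≤ Fintype.card β := Fintype.card_le_of_injective
          (fun i => (⟨⟨(i : ℕ) + 3, by omega⟩, by simp⟩ : β)) (fun i j e => by
            have := congrArg (fun b : β => ((b : Fin n) : ℕ)) e
            simp at this
            exact Fin.ext this)
  haveI : IsSimpleGroup (alternatingGroup β) :=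
    alternatingGroup.isSimpleGroup (by rw [Nat.card_eq_fintype_card]; exact hcard)
  let φ : alternatingGroup β →* Perm (Fin n) := Perm.ofSubtype.comp (alternatingGroup β).subtype
  have hφfix : ∀ (g : alternatingGroup β) (i : Fin n), (i : ℕ) < 3 → φ g i = i := fun g i hi =>
    Perm.ofSubtype_apply_of_not_mem _ (not_not.2 hi)
  have hφsign : ∀ g : alternatingGroup β, Perm.sign (φ g) = 1 := fun g => by
    rw [show φ g = Perm.ofSubtype (g : Perm β) from rfl, Perm.sign_ofSubtype]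
    exact Perm.mem_alternatingGroup.1 g.2
  set M := (N.map X.D.π).comap φ with hM
  haveI : M.Normal := ⟨fun m hm g => by
    rw [hM, mem_comap] at hm ⊢
    obtain ⟨c, hc, e⟩ := hm
    obtain ⟨k, hk⟩ := X.D.lift (φ g) (hφsign g)
    refine ⟨k * c * k⁻¹, hN k (fun i hi => by rw [hk, hφfix g i hi]) c hc, ?_⟩
    rw [map_mul, map_mul, map_inv, hk, e, map_mul, map_mul, map_inv]⟩
  have hpres : ∀ i, (X.D.π y i : ℕ) < 3 ↔ (i : ℕ) < 3 := fun i => by
    constructor
    · intro h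
      have h2 := (X.D.π y).injective (hfix _ h)
      rwa [h2] at h
    · intro h; rw [hfix i h]; exact h
  let y' : Perm β := (X.D.π y).subtypePerm fun i => not_congr (hpres i)
  have hy' : Perm.ofSubtype y' = X.D.π y := Perm.ofSubtype_subtypePerm _ fun i hi hlt => hi (hfix i hlt)
  have hy'A : y' ∈ alternatingGroup β := by
    rw [Perm.mem_alternatingGroup, ← Perm.sign_ofSubtype, hy', X.D.sgn]
  have htop : M = ⊤ := by
    refine (IsSimpleGroup.eq_bot_or_eq_top_of_normal M inferInstance).resolve_left fun hb => hπ ?_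
    have h1 : (⟨y', hy'A⟩ : alternatingGroup β) ∈ M := ⟨y, hy, hy'.symm⟩
    rw [hb, mem_bot] at h1
    rw [← hy', show y' = 1 from congrArg Subtype.val h1, map_one]
  have h9 := X.h9
  let q : (j : ℕ) → j < 4 → β := fun j hj => ⟨⟨j + 3, by omega⟩, by simp⟩
  have hq : ∀ {i j : ℕ} (hi : i < 4) (hj : j < 4), i ≠ j → q i hi ≠ q j hj := fun hi hj h e => h (by
    have := congrArg (fun b : β => ((b : Fin n) : ℕ)) e
    simpa [q] using this)
  let d : Perm β := swap (q 0 (by omega)) (q 1 (by omega)) * swap (q 2 (by omega)) (q 3 (by omega))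
  have hd : IsDT d := IsDT.mk (hq (by omega) (by omega) (show (0 : ℕ) ≠ 1 by omega)) (hq (by omega) (by omega) (show (0 : ℕ) ≠ 2 by omega))
    (hq (by omega) (by omega) (show (0 : ℕ) ≠ 3 by omega)) (hq (by omega) (by omega) (show (1 : ℕ) ≠ 2 by omega))
    (hq (by omega) (by omega) (show (1 : ℕ) ≠ 3 by omega)) (hq (by omega) (by omega) (show (2 : ℕ) ≠ 3 by omega))
  obtain ⟨c, hc, e⟩ : φ ⟨d, Perm.mem_alternatingGroup.2 hd.sign_eq⟩ ∈ N.map X.D.π :=
    (htop.symm ▸ mem_top _ : (⟨d, Perm.mem_alternatingGroup.2 hd.sign_eq⟩ : alternatingGroup β) ∈ M)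
  refine X.D.z_mem_of_dt hc ?_
  rw [e]
  obtain ⟨i, j, k, l, hnd, hdd⟩ := hd
  refine ⟨i, j, k, l, hnd.map Subtype.coe_injective, ?_⟩
  show Perm.ofSubtype d = _
  rw [hdd, map_mul, Perm.ofSubtype_swap_eq, Perm.ofSubtype_swap_eq]

variable [Finite G]

/-- The odd core of the centralizer of the lifted 3-cycle. -/
def O : Subgroup G := (Cfsg.pPrimeCore 2 ↥X.Ca).map X.Ca.subtype

theorem O_le : X.O ≤ X.Ca := map_subtype_le _

theorem O_odd : Odd (Nat.card X.O) := by
  rw [Nat.odd_iff, ← Nat.two_dvd_ne_zero]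
  rw [O, Nat.card_congr (Subgroup.equivMapOfInjective _ _ X.Ca.subtype_injective).toEquiv.symm]
  exact Coprime.pPrimeCore_not_dvd Nat.prime_two

theorem O_conj {x : G} (hx : x ∈ X.Ca) {y : G} (hy : y ∈ X.O) : x * y * x⁻¹ ∈ X.O := by
  obtain ⟨v, hv, rfl⟩ := hy
  haveI : (Cfsg.pPrimeCore 2 ↥X.Ca).Normal := inferInstance
  exact ⟨⟨x, hx⟩ * v * ⟨x, hx⟩⁻¹, Subgroup.Normal.conj_mem inferInstance v hv _, rfl⟩

theorem le_O {N : Subgroup G} (hN : N ≤ X.Ca) (hodd : Odd (Nat.card N))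
    (hn : ∀ x ∈ X.Ca, ∀ y ∈ N, x * y * x⁻¹ ∈ N) : N ≤ X.O := by
  intro y hy
  haveI : (N.subgroupOf X.Ca).Normal := ⟨fun v hv g => mem_subgroupOf.2 (hn g g.2 v (mem_subgroupOf.1 hv))⟩
  refine ⟨⟨y, hN hy⟩, Coprime.le_pPrimeCore ?_ (mem_subgroupOf.2 hy : (⟨y, hN hy⟩ : X.Ca) ∈ N.subgroupOf X.Ca), rfl⟩
  rw [Nat.card_congr (subgroupOfEquivOfLe hN).toEquiv]
  exact hodd.coprime_two_right

theorem card_A : Nat.card (zpowers (X.a : G)) = 3 := by
  haveI : Fact (Nat.Prime 3) := ⟨Nat.prime_three⟩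
  rw [Nat.card_zpowers, orderOf_eq_prime X.a_pow_three X.a_ne_one]

theorem a_mem_O : (X.a : G) ∈ X.O := by
  refine X.le_O (zpowers_le.2 (X.mem_Ca.2 rfl)) (by rw [X.card_A]; decide) (fun x hx y hy => ?_) (mem_zpowers _)
  obtain ⟨i, rfl⟩ := mem_zpowers_iff.1 hy
  rw [(show Commute x (X.a : G) from X.mem_Ca.1 hx).zpow_right i, mul_inv_cancel_right]
  exact hy

theorem z_not_mem_O : X.z ∉ X.O := fun h => by
  have h2 := orderOf_dvd_natCard (⟨X.z, h⟩ : X.O)
  rw [← Subgroup.orderOf_coe, X.hz] at h2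
  exact Nat.two_dvd_ne_zero.2 (Nat.odd_iff.1 X.O_odd) h2

/-- The odd core meets the centralizer of the central involution in the lifted 3-cycle. -/
theorem O_inter {y : G} (hy : y ∈ X.O) (hc : y ∈ X.C) : y ∈ zpowers (X.a : G) := by
  classical
  set c : ↥X.C := ⟨y, hc⟩ with hc'
  have hya : (c : G) ∈ X.Ca := X.O_le hy
  have hcm := X.π_comm_a hya
  have hrest : ∀ i : Fin n, ¬(i : ℕ) < 3 → X.D.π c i = i := by
    intro i hi
    by_contra hmv
    have hji : ¬(X.D.π c i : ℕ) < 3 := fun h => hi ((X.preserves hcm i).1 h)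
    set j := X.D.π c i with hj
    obtain ⟨p, hp, hp'⟩ := Finset.exists_mem_notMem_of_card_lt_card
      (show ({i, j} : Finset (Fin n)).card < ((Finset.univ : Finset (Fin n)).filter fun k : Fin n => ¬(k : ℕ) < 3).card
        from lt_of_le_of_lt Finset.card_le_two (by
          have h9 := X.h9
          calc 2 < (Finset.univ : Finset (Fin 5)).card := by simp
            _ ≤ _ := Finset.card_le_card_of_injOn (fun k => (⟨(k : ℕ) + 3, by omega⟩ : Fin n))
              (fun k _ => by simp) (fun a _ b _ e => Fin.ext (by simpa using congrArg Fin.val e))))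
    obtain ⟨q, hq, hq'⟩ := Finset.exists_mem_notMem_of_card_lt_card
      (show ({i, j, p} : Finset (Fin n)).card <
          ((Finset.univ : Finset (Fin n)).filter fun k : Fin n => ¬(k : ℕ) < 3).card
        from lt_of_le_of_lt Finset.card_le_three (by
          have h9 := X.h9
          calc 3 < (Finset.univ : Finset (Fin 5)).card := by simp
            _ ≤ _ := Finset.card_le_card_of_injOn (fun k => (⟨(k : ℕ) + 3, by omega⟩ : Fin n))
              (fun k _ => by simp) (fun a _ b _ e => Fin.ext (by simpa using congrArg Fin.val e))))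
    simp only [Finset.mem_filter, Finset.mem_insert, Finset.mem_singleton, not_or] at hp hp' hq hq'
    have hpq : p ≠ q := Ne.symm hq'.2.2
    have hip : i ≠ p := Ne.symm hp'.1
    have hiq : i ≠ q := Ne.symm hq'.1
    have hτ3 : (swap i p * swap p q).IsThreeCycle := by
      rw [swap_comm i p]; exact Perm.isThreeCycle_swap_mul_swap_same hip.symm hpq hiq
    obtain ⟨k, hk, hk3⟩ := X.D.exists_lift_three hτ3.sign (by rw [← hτ3.orderOf, pow_orderOf_eq_one])
    have hkfix : X.Fix k := fun l hl => by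
      rw [hk, Perm.mul_apply, swap_apply_of_ne_of_ne (fun e : l = p => hp.2 (e ▸ hl))
        (fun e : l = q => hq.2 (e ▸ hl)), swap_apply_of_ne_of_ne (fun e : l = i => hi (e ▸ hl))
        (fun e : l = p => hp.2 (e ▸ hl))]
    -- the commutator is nontrivial in the stabiliser and lies in the odd core
    let N : Subgroup ↥X.C := X.O.subgroupOf X.C
    have hN : ∀ k' : ↥X.C, X.Fix k' → ∀ v ∈ N, k' * v * k'⁻¹ ∈ N := fun k' hk' v hv =>
      mem_subgroupOf.2 (X.O_conj (X.fix_mem_Ca hk') (mem_subgroupOf.1 hv))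
    have hcN : c ∈ N := mem_subgroupOf.2 hy
    have hmem : k * c * k⁻¹ * c⁻¹ ∈ N := mul_mem (hN k hkfix c hcN) (inv_mem hcN)
    have hfix : X.Fix (k * c * k⁻¹ * c⁻¹) := fun l hl => by
      have h1 : ((X.D.π c)⁻¹ l : ℕ) < 3 := by
        rw [← X.preserves hcm, Perm.inv_def, Equiv.apply_symm_apply]; exact hl
      rw [map_mul, map_mul, map_mul, map_inv, map_inv, Perm.mul_apply, Perm.mul_apply, Perm.mul_apply,
        show (X.D.π k)⁻¹ ((X.D.π c)⁻¹ l) = (X.D.π c)⁻¹ l from Perm.inv_eq_iff_eq.2 (hkfix _ h1).symm,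
        Perm.inv_def, Equiv.apply_symm_apply, hkfix l hl]
    refine X.z_not_mem_O ?_
    have hz := X.z_mem_of_normalized N hN hmem hfix fun h => ?_
    · rw [← X.Dz]; exact mem_subgroupOf.1 hz
    · rw [map_mul, map_mul, map_mul, map_inv, map_inv, mul_inv_eq_one, mul_inv_eq_iff_eq_mul, hk] at h
      have h' := congrArg (fun g : Perm (Fin n) => g i) h
      simp only [Perm.mul_apply, swap_apply_of_ne_of_ne hip hiq, swap_apply_left, ← hj] at h'
      rw [swap_apply_of_ne_of_ne (Ne.symm hp'.2) (Ne.symm hq'.2.1),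
        swap_apply_of_ne_of_ne (fun e : j = i => hmv e) (Ne.symm hp'.2)] at h'
      exact hip ((X.D.π c).injective (by rw [← hj]; exact h'))
  -- determined by the image of one point
  have h9 := X.h9
  obtain ⟨i0, hi0⟩ : ∃ i : Fin n, (i : ℕ) = 0 := ⟨⟨0, by omega⟩, rfl⟩
  obtain ⟨k1, k2, k3, k4⟩ := X.τ_apply_lt (i := i0) (by omega)
  have himg := (X.preserves hcm i0).2 (by omega)
  have hcomm : ∀ i, X.D.π c (X.ι cA i) = X.ι cA (X.D.π c i) := fun i => by
    rw [← Perm.mul_apply, hcm, Perm.mul_apply]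
  obtain ⟨e, he⟩ : ∃ e : ℕ, X.D.π c i0 = ((X.ι cA) ^ e) i0 := by
    have hlt := (X.τ_apply_lt k1).1
    have hne : X.ι cA (X.ι cA i0) ≠ X.ι cA i0 := (X.τ_apply_lt k1).2.1
    have : X.D.π c i0 = i0 ∨ X.D.π c i0 = X.ι cA i0 ∨ X.D.π c i0 = X.ι cA (X.ι cA i0) := by
      simp only [ne_eq, Fin.ext_iff] at k2 k3 hne ⊢
      omega
    rcases this with h | h | h
    · exact ⟨0, by rw [h]; rfl⟩
    · exact ⟨1, by rw [h, pow_one]⟩
    · exact ⟨2, by rw [h, pow_two]; rfl⟩
  have hπ : X.D.π c = X.D.π (X.a ^ e) := by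
    rw [map_pow, X.π_a]
    refine Perm.ext fun i => ?_
    have hpc : Commute ((X.ι cA) ^ e) (X.ι cA) := (Commute.refl _).pow_left e
    by_cases hi : (i : ℕ) < 3
    · have : i = i0 ∨ i = X.ι cA i0 ∨ i = X.ι cA (X.ι cA i0) := by
        have hlt := (X.τ_apply_lt k1).1
        have hne : X.ι cA (X.ι cA i0) ≠ X.ι cA i0 := (X.τ_apply_lt k1).2.1
        simp only [ne_eq, Fin.ext_iff] at k2 k3 hne ⊢
        omega
      have hs : ∀ j, X.D.π c j = ((X.ι cA) ^ e) j → X.D.π c (X.ι cA j) = ((X.ι cA) ^ e) (X.ι cA j) := fun j hj => by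
        rw [hcomm, hj, ← Perm.mul_apply, ← Perm.mul_apply, hpc.eq]
      rcases this with rfl | rfl | rfl
      · exact he
      · exact hs _ he
      · exact hs _ (hs _ he)
    · rw [hrest i hi, Perm.pow_apply_eq_self_of_apply_eq_self (X.τ_apply_ge (show 3 ≤ (i : ℕ) by omega))]
  rcases X.D.eq_or hπ with h | h
  · rw [show y = (X.a : G) ^ e from congrArg Subtype.val h]; exact pow_mem (mem_zpowers _) _
  · exfalso
    have h' : y = X.z * (X.a : G) ^ e := by
      rw [show y = ((X.D.z * X.a ^ e : ↥X.C) : G) from congrArg Subtype.val h, X.Dz_mul, Subgroup.coe_pow]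
    refine X.z_not_mem_O ?_
    rw [show X.z = y * ((X.a : G) ^ e)⁻¹ by rw [h', mul_inv_cancel_right]]
    exact mul_mem hy (inv_mem (pow_mem X.a_mem_O e))

/-- The centralizer of the lifted 3-cycle is its odd core times its part in the centralizer. -/
theorem Ca_decomp {x : G} (hx : x ∈ X.Ca) : ∃ o ∈ X.O, ∃ c ∈ X.C, c ∈ X.Ca ∧ x = o * c := by
  set zX : ↥X.Ca := ⟨X.z, X.z_mem_Ca⟩
  have ho : orderOf zX = 2 := by rw [← Subgroup.orderOf_coe]; exact X.hz
  have hiso : Cfsg.IsIsolatedInvolution zX := by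
    refine ⟨ho, fun g hg => Subtype.ext ?_⟩
    set u : G := ((g * zX * g⁻¹ : ↥X.Ca) : G)
    have hu2 : orderOf u = 2 := by rw [Subgroup.orderOf_coe]; exact invol_conj ho g
    exact X.invol_Ca (invol_mul_self hu2) (X.mem_C.2 (congrArg Subtype.val hg.eq).symm) (g * zX * g⁻¹).2
      (invol_iff.1 hu2).2
  have h1 := zstar hiso ⟨x, hx⟩
  set o₁ : G := X.z * x * X.z * x⁻¹ with ho1
  have hzi : X.z⁻¹ = X.z := invol_inv X.hz
  have hmem : o₁ ∈ X.O := ⟨_, h1, by
    show X.z * x * X.z⁻¹ * x⁻¹ = _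
    rw [hzi]⟩
  obtain ⟨m, hm⟩ := X.O_odd
  have hop : o₁ ^ (2 * m + 1) = 1 := by
    have := pow_card_eq_one' (G := X.O) (x := ⟨o₁, hmem⟩)
    rw [hm] at this
    exact congrArg Subtype.val this
  have zz := X.zz'
  have hinv : X.z * o₁ * X.z = o₁⁻¹ := by
    rw [ho1]
    calc X.z * (X.z * x * X.z * x⁻¹) * X.z = (X.z * X.z) * (x * X.z * x⁻¹ * X.z) := by group
      _ = x * X.z⁻¹ * x⁻¹ * X.z⁻¹ := by rw [zz, one_mul, hzi]
      _ = _ := by group
  set h := o₁ ^ (m + 1) with hh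
  have hh2 : h * h = o₁ := by
    rw [hh, ← pow_add, show m + 1 + (m + 1) = 2 * m + 1 + 1 by omega, pow_succ, hop, one_mul]
  have hzh : X.z * h * X.z = h⁻¹ := by
    have e : ∀ k : ℕ, X.z * o₁ ^ k * X.z = (o₁ ^ k)⁻¹ := by
      intro k
      induction k with
      | zero => simp [zz]
      | succ k ih =>
        rw [pow_succ, show X.z * (o₁ ^ k * o₁) * X.z = X.z * o₁ ^ k * 1 * (o₁ * X.z) by group, ← zz,
          show X.z * o₁ ^ k * (X.z * X.z) * (o₁ * X.z) = (X.z * o₁ ^ k * X.z) * (X.z * o₁ * X.z) by group, ih, hinv,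
          ← mul_inv_rev, ← pow_succ, ← pow_succ']
    exact e (m + 1)
  have hhO : h ∈ X.O := pow_mem hmem _
  refine ⟨h⁻¹, inv_mem hhO, h * x, X.mem_C.2 ?_, mul_mem (X.O_le hhO) hx, by group⟩
  have hzh' : X.z * h = h⁻¹ * X.z := by rw [← hzh, mul_assoc (X.z * h), zz, mul_one]
  calc h * x * X.z = h * (o₁⁻¹ * (X.z * x)) := by
        have : o₁⁻¹ * (X.z * x) = x * X.z := by
          rw [ho1, show (X.z * x * X.z * x⁻¹)⁻¹ * (X.z * x) = x * X.z⁻¹ by group, hzi]
        rw [this, mul_assoc]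
    _ = h * (h * h)⁻¹ * (X.z * x) := by rw [hh2]; group
    _ = (h⁻¹ * X.z) * x := by group
    _ = X.z * (h * x) := by rw [← hzh', mul_assoc]

end Ctx

end CfsgLib.Invol.AltDoubleCover
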