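import Cfsg.Agent.Lib.Invol.AltDoubleCover.Plane
import Cfsg.Agent.Lib.Invol.AltDoubleCover.Elementary

/-!
# Degree nine: the case of an odd core of order `3 ^ 5` is impossible
-/

set_option autoImplicit false
set_option maxRecDepth 100000

noncomputable section

namespace CfsgLib.Invol.AltDoubleCover

open Equiv Subgroup

/-- Cancellation. -/
theorem conj_inv_cancel {H : Type*} [Group H] (d k : H) : d * (d * k * d)⁻¹ * d = k⁻¹ := by group

/-- Inverse of a quotient. -/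
theorem inv_mul_inv_swap {H : Type*} [Group H] (d k : H) : (d * k⁻¹)⁻¹ = k * d⁻¹ := by group

namespace Ctx

variable {G : Type*} [Group G] [Finite G] (X : Ctx G 9)

/-- An element of the base. -/
def bel (v : Fin 3 × Fin 3 × Fin 3) : ↥X.C := X.a ^ (v.1 : ℕ) * X.b ^ (v.2.1 : ℕ) * X.c ^ (v.2.2 : ℕ)

theorem π_bel (v : Fin 3 × Fin 3 × Fin 3) : X.D.π (X.bel v) = syl (v.1, v.2.1, v.2.2, 0) := by
  rw [bel, map_mul, map_mul, map_pow, map_pow, map_pow, X.π_a9, X.π_b, X.π_c, syl]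
  simp

theorem bel_cube (v : Fin 3 × Fin 3 × Fin 3) : X.bel v ^ 3 = 1 := by
  obtain ⟨hab, hac, hbc⟩ := X.comm_abc
  have e1 : Commute (X.a ^ (v.1 : ℕ)) (X.b ^ (v.2.1 : ℕ)) := (show Commute X.a X.b from hab).pow_pow _ _
  have e2 : Commute (X.a ^ (v.1 : ℕ) * X.b ^ (v.2.1 : ℕ)) (X.c ^ (v.2.2 : ℕ)) :=
    ((show Commute X.a X.c from hac).pow_pow _ _).mul_left ((show Commute X.b X.c from hbc).pow_pow _ _)
  rw [bel, e2.mul_pow, e1.mul_pow, ← pow_mul, ← pow_mul, ← pow_mul, mul_comm (v.1 : ℕ), mul_comm (v.2.1 : ℕ),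
    mul_comm (v.2.2 : ℕ), pow_mul, pow_mul, pow_mul, X.a_cube, X.b_cube, X.c_cube, one_pow, one_pow, one_pow]
  simp

theorem bel_comm (v : Fin 3 × Fin 3 × Fin 3) :
    X.bel v * X.a = X.a * X.bel v ∧ X.bel v * X.b = X.b * X.bel v ∧ X.bel v * X.c = X.c * X.bel v := by
  obtain ⟨hab, hac, hbc⟩ := X.comm_abc
  have ab : Commute X.a X.b := hab
  have ac : Commute X.a X.c := hac
  have bc : Commute X.b X.c := hbc
  exact ⟨((((Commute.refl X.a).pow_left _).mul_left (ab.symm.pow_left _)).mul_left (ac.symm.pow_left _)).eq,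
    (((ab.pow_left _).mul_left ((Commute.refl X.b).pow_left _)).mul_left (bc.symm.pow_left _)).eq,
    (((ac.pow_left _).mul_left (bc.pow_left _)).mul_left ((Commute.refl X.c).pow_left _)).eq⟩

theorem bel_injective : Function.Injective X.bel := fun v w e => by
  have h := congrArg X.D.π e
  rw [X.π_bel, X.π_bel] at h
  have h' := syl_injective h
  simp only [Prod.mk.injEq] at h'
  exact Prod.ext h'.1 (Prod.ext h'.2.1 h'.2.2.1)

theorem exists_bel {r : ↥X.C} (ha : X.D.π r * cA = cA * X.D.π r) (hb : X.D.π r * cB = cB * X.D.π r) :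
    ∃ v, r = X.bel v ∨ r = X.D.z * X.bel v := by
  obtain ⟨v, hv⟩ := base_cent (X.D.sgn r) ha hb
  exact ⟨v, X.D.eq_or (hv.trans (X.π_bel v).symm)⟩

theorem IsI.comm_bel {x : G} (hx : X.IsI x) (v : Fin 3 × Fin 3 × Fin 3) : x * X.bel v = X.bel v * x := by
  obtain ⟨h1, h2, h3, -⟩ := hx
  simp only [bel, Subgroup.coe_mul, Subgroup.coe_pow]
  exact ((((show Commute x _ from h1).pow_right _).mul_right ((show Commute x _ from h2).pow_right _)).mul_right
    ((show Commute x _ from h3).pow_right _)).eq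

/-- The elements of 3-power order centralising the product of the first two triples and the central involution. -/
theorem exists_bel_of_pair {g : G} (hg : g ∈ X.C) (h9 : g ^ 9 = 1)
    (hx : g * ((X.a * X.b : ↥X.C) : G) = ((X.a * X.b : ↥X.C) : G) * g) : ∃ v, g = X.bel v := by
  set r : ↥X.C := ⟨g, hg⟩
  have hr9 : r ^ 9 = 1 := Subtype.ext h9
  have h := pair_cent (ν := X.D.π r) (by rw [← map_pow, hr9, map_one]) (by
    rw [← X.π_a9, ← X.π_b, ← map_mul, ← map_mul, ← map_mul]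
    exact congrArg _ (Subtype.ext hx))
  obtain ⟨v, hv⟩ := X.exists_bel h.1 h.2
  rcases hv with hv | hv
  · exact ⟨v, congrArg Subtype.val hv⟩
  · exfalso
    have hb9 : X.bel v ^ 9 = 1 := (pow_mul (X.bel v) 3 3).trans (by rw [X.bel_cube, one_pow])
    have hz8 : X.D.z ^ 8 = 1 := (pow_mul X.D.z 2 4).trans (by rw [pow_two, X.D.zz, one_pow])
    rw [hv, (show Commute X.D.z (X.bel v) from (X.D.zc _).symm).mul_pow, hb9, mul_one,
      pow_succ X.D.z 8, hz8, one_mul] at hr9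
    exact X.D.z_ne hr9

theorem e_z : (X.e : G) * X.z = X.z * X.e := X.mem_C.1 X.e.2

theorem ee : (X.e : G) * X.e = 1 := congrArg Subtype.val X.e_sq

theorem e_inv : (X.e : G)⁻¹ = X.e := inv_eq_of_mul_eq_one_right X.ee

section Core

variable (hO : Nat.card X.O = 243) (h3 : ∀ v ∈ X.V, v ^ 3 = 1)

include hO h3 in
theorem exists_I_ne : ∃ ι, X.IsI ι ∧ ι ≠ 1 := by
  have h9 := (X.plane hO h3 X.fix_bc.1 X.π_b_ne.1 X.b_cube X.gG_fix X.gG_sq X.gG_inv.1).1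
  obtain ⟨v, hv, hv1⟩ : ∃ v ∈ X.L, v ≠ 1 := by
    by_contra hno
    push Not at hno
    have : X.L = ⊥ := (eq_bot_iff_forall _).2 hno
    rw [L] at this
    rw [this, card_bot] at h9
    omega
  obtain ⟨x, hx, e⟩ := X.exists_I hO h3 hv
  refine ⟨x, hx, fun h1 => hv1 ?_⟩
  subst h1
  rw [← e]
  exact Subtype.ext (map_one X.q)

include hO h3 in
/-- The centralizer of the first two triples. -/
theorem centAB {y : G} (ha : y * X.a = X.a * y) (hb : y * X.b = X.b * y) :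
    ∃ ι v, X.IsI ι ∧ (y = ι * X.bel v ∨ y = ι * (X.z * X.bel v)) := by
  have hy : y ∈ X.Ca := X.mem_Ca.2 ha
  obtain ⟨o, ho, k, hk, -, e⟩ := X.Ca_decomp hy
  set x := X.z * y * X.z⁻¹ * y⁻¹ with hx'
  have hxe : x = X.z * o * X.z⁻¹ * o⁻¹ := by
    rw [hx', e, show X.z * (o * k) * X.z⁻¹ * (o * k)⁻¹ = X.z * o * (k * X.z⁻¹ * k⁻¹) * o⁻¹ by group,
      invol_inv X.hz, X.mem_C.1 hk, mul_inv_cancel_right]
  have hxO : x ∈ X.O := hxe ▸ mul_mem (X.O_conj X.z_mem_Ca ho) (inv_mem ho)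
  have zi := invol_inv X.hz
  have hxz : X.z * x * X.z⁻¹ = x⁻¹ := by
    rw [hx', zi, show X.z * (X.z * y * X.z * y⁻¹) * X.z = (X.z * X.z) * y * X.z * y⁻¹ * X.z by group, X.zz', one_mul,
      show (X.z * y * X.z * y⁻¹)⁻¹ = y * X.z⁻¹ * y⁻¹ * X.z⁻¹ by group, zi]
  have hzb : X.z * (X.b : G) = X.b * X.z := (X.mem_C.1 X.b.2).symm
  have hxb : x * X.b = X.b * x := by
    have c1 : Commute X.z (X.b : G) := hzb
    have c2 : Commute y (X.b : G) := hb
    exact (((c1.mul_left c2).mul_left c1.inv_left).mul_left c2.inv_left).eq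
  have hL : (⟨X.q ⟨x, X.O_le_M hxO⟩, X.mem_V.2 ⟨_, hxO, rfl⟩⟩ : ↥X.V) ∈ X.L := by
    rw [L, mem_fixS]
    refine Subtype.ext ?_
    rw [act_coe, qF, ← map_inv]
    show X.q _ * X.q ⟨x, _⟩ * X.q _ = X.q ⟨x, _⟩
    rw [← map_mul, ← map_mul]
    refine congrArg _ (Subtype.ext ?_)
    show (X.b : G) * x * (X.b : G)⁻¹ = x
    rw [← hxb, mul_inv_cancel_right]
  obtain ⟨ι, hι, hq⟩ := X.exists_I hO h3 hL
  have hq' := congrArg Subtype.val hq
  rw [qI, q_eq] at hq'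
  change ι⁻¹ * x ∈ X.A at hq'
  have hxι : x = ι := by
    have h1 : X.z * (ι⁻¹ * x) * X.z⁻¹ = (ι⁻¹ * x)⁻¹ := by
      rw [show X.z * (ι⁻¹ * x) * X.z⁻¹ = (X.z * ι * X.z⁻¹)⁻¹ * (X.z * x * X.z⁻¹) by group, hι.2.2.2.1, inv_inv, hxz]
      have hc : ι * (ι⁻¹ * x) = ι⁻¹ * x * ι := X.A_comm hq' hι.mem_Ca
      have hx2 : x = ι⁻¹ * x * ι := by rw [← hc]; group
      calc ι * x⁻¹ = ι * (ι⁻¹ * x * ι)⁻¹ := by rw [← hx2]
        _ = (ι⁻¹ * x)⁻¹ := by group
    exact (inv_mul_eq_one.1 (X.fixed_inverted hq' h1)).symm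
  have hzy : X.z * y * X.z⁻¹ = ι * y := by rw [← hxι, hx']; group
  have hι3 : ι * (ι * ι) = 1 := by rw [← pow_two, ← pow_succ']; exact hι.2.2.2.2
  have hzr : X.z * (ι * ι * y) * X.z⁻¹ = ι * ι * y := by
    rw [show X.z * (ι * ι * y) * X.z⁻¹ =
      (X.z * ι * X.z⁻¹) * (X.z * ι * X.z⁻¹) * (X.z * y * X.z⁻¹) by group, hι.2.2.2.1, hzy]
    calc ι⁻¹ * ι⁻¹ * (ι * y) = ι⁻¹ * (ι * (ι * ι)) * ι⁻¹ * (ι * y) := by rw [hι3, mul_one]
      _ = ι * ι * y := by group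
  have hrC : ι * ι * y ∈ X.C := X.mem_C.2 (mul_inv_eq_iff_eq_mul.1 hzr).symm
  set r : ↥X.C := ⟨_, hrC⟩
  have cab : ∀ u : ↥X.C, ι * (u : G) = u * ι → y * u = u * y → X.D.π r * X.D.π u = X.D.π u * X.D.π r := by
    intro u h1 h2
    rw [← map_mul, ← map_mul]
    exact congrArg _ (Subtype.ext
      ((((show Commute ι (u : G) from h1).mul_left h1).mul_left (show Commute y (u : G) from h2)).eq))
  obtain ⟨v, hv⟩ := X.exists_bel (r := r) (by rw [← X.π_a9]; exact cab X.a hι.1 ha)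
    (by rw [← X.π_b]; exact cab X.b hι.2.1 hb)
  refine ⟨ι, v, hι, ?_⟩
  have ey : y = ι * (ι * ι * y) := by rw [← mul_assoc, hι3, one_mul]
  rcases hv with hv | hv
  · exact Or.inl (by
      rw [ey, show ι * ι * y = X.bel v from congrArg Subtype.val hv])
  · exact Or.inr (by
      rw [ey, show ι * ι * y = ((X.D.z * X.bel v : ↥X.C) : G) from congrArg Subtype.val hv, X.Dz_mul])

include hO h3 in
theorem centAB_c {y : G} (ha : y * X.a = X.a * y) (hb : y * X.b = X.b * y) : y * X.c = X.c * y := by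
  obtain ⟨ι, v, hι, h⟩ := X.centAB hO h3 ha hb
  have h1 : Commute (X.bel v : G) (X.c : G) := congrArg (fun r : ↥X.C => (r : G)) (X.bel_comm v).2.2
  have h2 : Commute X.z (X.c : G) := (X.mem_C.1 X.c.2).symm
  rcases h with rfl | rfl
  · exact ((show Commute ι (X.c : G) from hι.2.2.1).mul_left h1).eq
  · exact ((show Commute ι (X.c : G) from hι.2.2.1).mul_left (h2.mul_left h1)).eq

include hO h3 in
theorem surj_bc {ι : G} (hι : X.IsI ι) :
    (∃ h ∈ X.O, h * X.b * h⁻¹ = X.b * ι) ∧ ∃ h ∈ X.O, h * X.c * h⁻¹ = X.c * ι := by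
  have key : ∀ u : ↥X.C, ∀ (hu : X.Fix u),
      (u = X.b ∨ u = X.c ∨ u = X.c * X.b ∨ u = X.c * X.b⁻¹) →
      (∀ h ∈ X.O, ∃ ι, X.IsI ι ∧ h * u * h⁻¹ = u * ι) → ∃ h ∈ X.O, h * u * h⁻¹ = u * ι := by
    intro u hu hu' hcore
    obtain ⟨h, hh, α, hα, e⟩ := (X.core_comm hO h3 hu hu').2 ι hι
    obtain ⟨ι', hι', e'⟩ := hcore h hh
    rw [e, mul_assoc, mul_right_inj] at e'
    have h1 : α = ι⁻¹ * ι' := by rw [← e']; group
    have h2 := (hι.mul_inv.mul X hO h3 hι').eq_one_of_A X (h1 ▸ hα)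
    exact ⟨h, hh, by rw [e, h1, h2, mul_one]⟩
  exact ⟨key X.b X.fix_bc.1 (Or.inl rfl) fun h hh => X.core_b hO h3 hh,
    key X.c X.fix_bc.2 (Or.inr (Or.inl rfl)) fun h hh => X.core_c hO h3 hh⟩

/-- The elements centralising the plane and the product of two triples, acting trivially modulo the plane. -/
def IsM (g : G) : Prop :=
  g * ((X.a * X.b : ↥X.C) : G) = ((X.a * X.b : ↥X.C) : G) * g ∧ (∀ ι, X.IsI ι → g * ι = ι * g) ∧
    X.IsI (g * X.a * g⁻¹ * (X.a : G)⁻¹)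

include hO h3 in
theorem IsM.mul {g g' : G} (hg : X.IsM g) (hg' : X.IsM g') : X.IsM (g * g') ∧
    g * g' * X.a * (g * g')⁻¹ * (X.a : G)⁻¹ =
      (g' * X.a * g'⁻¹ * (X.a : G)⁻¹) * (g * X.a * g⁻¹ * (X.a : G)⁻¹) := by
  obtain ⟨h1, h2, h3'⟩ := hg
  obtain ⟨k1, k2, k3⟩ := hg'
  have e : g * g' * X.a * (g * g')⁻¹ * (X.a : G)⁻¹ =
      (g' * X.a * g'⁻¹ * (X.a : G)⁻¹) * (g * X.a * g⁻¹ * (X.a : G)⁻¹) := by
    set κ := g' * X.a * g'⁻¹ * (X.a : G)⁻¹ with hκ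
    calc g * g' * X.a * (g * g')⁻¹ * (X.a : G)⁻¹ = g * κ * X.a * g⁻¹ * (X.a : G)⁻¹ := by rw [hκ]; group
      _ = κ * g * X.a * g⁻¹ * (X.a : G)⁻¹ := by rw [h2 κ k3]
      _ = κ * (g * X.a * g⁻¹ * (X.a : G)⁻¹) := by group
  exact ⟨⟨((show Commute g _ from h1).mul_left k1).eq,
    fun ι hι => ((show Commute g _ from h2 ι hι).mul_left (k2 ι hι)).eq, e ▸ k3.mul X hO h3 h3'⟩, e⟩

theorem IsM.inv {g : G} (hg : X.IsM g) : X.IsM g⁻¹ ∧
    g⁻¹ * X.a * g⁻¹⁻¹ * (X.a : G)⁻¹ = (g * X.a * g⁻¹ * (X.a : G)⁻¹)⁻¹ := by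
  obtain ⟨h1, h2, h3⟩ := hg
  set κ := g * X.a * g⁻¹ * (X.a : G)⁻¹ with hκ
  have hc : g⁻¹ * κ⁻¹ = κ⁻¹ * g⁻¹ := ((show Commute g κ from h2 κ h3).inv_inv).eq
  have e : g⁻¹ * X.a * g⁻¹⁻¹ * (X.a : G)⁻¹ = κ⁻¹ := by
    calc g⁻¹ * X.a * g⁻¹⁻¹ * (X.a : G)⁻¹ = g⁻¹ * κ⁻¹ * (g * X.a) * (X.a : G)⁻¹ := by rw [hκ]; group
      _ = κ⁻¹ * g⁻¹ * (g * X.a) * (X.a : G)⁻¹ := by rw [hc]
      _ = κ⁻¹ := by group
  exact ⟨⟨(show Commute g _ from h1).inv_left.eq, fun ι hι => (show Commute g ι from h2 ι hι).inv_left.eq,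
    e ▸ h3.mul_inv⟩, e⟩

theorem IsM.comm_b {g : G} (hg : X.IsM g) (h : g * X.a = X.a * g) : g * X.b = X.b * g := by
  have h' : Commute g (X.a : G) := h
  have := (h'.inv_right.mul_right (show Commute g _ from hg.1)).eq
  simpa [Subgroup.coe_mul, ← mul_assoc] using this

include hO h3 in
/-- The part centralising the first triple. -/
theorem IsM.base {g : G} (hg : X.IsM g) (h : g * X.a = X.a * g) : ∃ ι v, X.IsI ι ∧ g = ι * X.bel v := by
  obtain ⟨ι, v, hι, e | e⟩ := X.centAB hO h3 h (hg.comm_b X h)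
  · exact ⟨ι, v, hι, e⟩
  · exfalso
    obtain ⟨κ, hκ, hκ1⟩ := X.exists_I_ne hO h3
    have h1 := hg.2.1 κ hκ
    rw [e] at h1
    have c1 : Commute κ ι := hκ.commute X hO h3 hι
    have c2 : Commute κ (X.bel v : G) := hκ.comm_bel X v
    have c3 : Commute κ X.z := by
      have h0 : Commute κ (ι * (X.z * (X.bel v : G))) := h1.symm
      have := ((c1.inv_right.mul_right h0).mul_right c2.inv_right)
      simpa [mul_assoc] using this
    have h4 := hκ.2.2.2.1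
    rw [← c3.eq, mul_inv_cancel_right] at h4
    refine hκ1 ?_
    have h5 := hκ.2.2.2.2
    rwa [pow_succ, pow_two, mul_eq_one_iff_eq_inv.2 h4, one_mul] at h5

include hO h3 in
theorem IsM.pow_nine {g : G} (hg : X.IsM g) : g ^ 9 = 1 := by
  obtain ⟨m2, e2⟩ := hg.mul X hO h3 hg
  obtain ⟨m3, e3⟩ := m2.mul X hO h3 hg
  set κ := g * X.a * g⁻¹ * (X.a : G)⁻¹ with hκ
  rw [e2] at e3
  have hκ3 : κ * (κ * κ) = 1 := by rw [← pow_two, ← pow_succ']; exact hg.2.2.2.2.2.2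
  rw [hκ3, mul_inv_eq_one, mul_inv_eq_iff_eq_mul] at e3
  obtain ⟨ι, v, hι, e⟩ := m3.base X hO h3 e3
  have hc : Commute ι (X.bel v : G) := hι.comm_bel X v
  have h27 : (g * g * g) ^ 3 = 1 := by
    rw [e, hc.mul_pow, hι.2.2.2.2, one_mul, ← Subgroup.coe_pow, X.bel_cube]; rfl
  rw [show g ^ 9 = (g ^ 3) ^ 3 from pow_mul g 3 3, show g ^ 3 = g * g * g by rw [pow_succ, pow_two]]
  exact h27

include hO h3 in
/-- Elements of the set with prescribed image. -/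
theorem exists_M {ι : G} (hι : X.IsI ι) : ∃ g, X.IsM g ∧ g * X.a * g⁻¹ * (X.a : G)⁻¹ = ι := by
  obtain ⟨h₁, hh₁, e₁⟩ := (X.surj_bc hO h3 hι.mul_inv).1
  obtain ⟨h₂, hh₂, e₂⟩ := (X.surj_bc hO h3 (hι.conj_t X).2).2
  set k := (X.t : G) * h₂ * (X.t : G)⁻¹ with hk
  have tc : (X.t : G) * X.c * (X.t : G)⁻¹ = X.a := congrArg (fun r : ↥X.C => (r : G)) X.t_c
  have tb : (X.t : G) * X.a * (X.t : G)⁻¹ = X.b := rfl
  have ka : k * X.a * k⁻¹ = X.a * ι := by
    rw [hk, show (X.t : G) * h₂ * (X.t : G)⁻¹ * X.a * ((X.t : G) * h₂ * (X.t : G)⁻¹)⁻¹ =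
      (X.t : G) * (h₂ * ((X.t : G)⁻¹ * X.a * X.t) * h₂⁻¹) * (X.t : G)⁻¹ by group,
      show (X.t : G)⁻¹ * X.a * X.t = X.c by rw [← tc]; group, e₂]
    calc (X.t : G) * (X.c * ((X.t : G)⁻¹ * ι * X.t)) * (X.t : G)⁻¹
        = ((X.t : G) * X.c * (X.t : G)⁻¹) * ι := by group
      _ = X.a * ι := by rw [tc]
  have kb : k * X.b * k⁻¹ = X.b := by
    rw [hk, ← tb, show (X.t : G) * h₂ * (X.t : G)⁻¹ * ((X.t : G) * X.a * (X.t : G)⁻¹) *
      ((X.t : G) * h₂ * (X.t : G)⁻¹)⁻¹ = (X.t : G) * (h₂ * X.a * h₂⁻¹) * (X.t : G)⁻¹ by group,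
      X.mem_Ca.1 (X.O_le hh₂), mul_inv_cancel_right]
  have kI : ∀ κ, X.IsI κ → k * κ = κ * k := fun κ hκ => by
    have h := conj_comm (X.t : G) ((hκ.conj_t X).2.comm_O X hO h3 hh₂)
    rw [← hk, show (X.t : G) * ((X.t : G)⁻¹ * κ * X.t) * (X.t : G)⁻¹ = κ by group] at h
    exact h
  have hi : ∀ κ, X.IsI κ → h₁ * κ = κ * h₁ := fun κ hκ => hκ.comm_O X hO h3 hh₁
  have ha : h₁ * X.a * h₁⁻¹ = X.a := by rw [X.mem_Ca.1 (X.O_le hh₁), mul_inv_cancel_right]
  have hhι : h₁ * ι * h₁⁻¹ = ι := by rw [hi ι hι, mul_inv_cancel_right]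
  have ga : h₁ * k * X.a * (h₁ * k)⁻¹ = X.a * ι := by
    rw [show h₁ * k * X.a * (h₁ * k)⁻¹ = h₁ * (k * X.a * k⁻¹) * h₁⁻¹ by group, ka,
      show h₁ * ((X.a : G) * ι) * h₁⁻¹ = (h₁ * X.a * h₁⁻¹) * (h₁ * ι * h₁⁻¹) by group, ha, hhι]
  have gb : h₁ * k * X.b * (h₁ * k)⁻¹ = X.b * ι⁻¹ := by
    rw [show h₁ * k * X.b * (h₁ * k)⁻¹ = h₁ * (k * X.b * k⁻¹) * h₁⁻¹ by group, kb, e₁]
  have e : h₁ * k * X.a * (h₁ * k)⁻¹ * (X.a : G)⁻¹ = ι := by
    rw [ga, show (X.a : G) * ι = ι * X.a from hι.1.symm, mul_inv_cancel_right]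
  refine ⟨h₁ * k, ⟨?_, fun κ hκ => ((show Commute h₁ κ from hi κ hκ).mul_left (kI κ hκ)).eq, e ▸ hι⟩, e⟩
  refine mul_inv_eq_iff_eq_mul.1 ?_
  rw [Subgroup.coe_mul, show h₁ * k * ((X.a : G) * X.b) * (h₁ * k)⁻¹ =
    (h₁ * k * X.a * (h₁ * k)⁻¹) * (h₁ * k * X.b * (h₁ * k)⁻¹) by group, ga, gb,
    show (X.a : G) * ι * ((X.b : G) * ι⁻¹) = X.a * (ι * X.b) * ι⁻¹ by group, hι.2.1]
  group

/-- An involution of the centralizer exchanging the first two triples. -/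
structure IsD (d : G) : Prop where
  sq : d * d = 1
  a_b : d * X.a * d = X.b
  b_a : d * X.b * d = X.a
  mem : d ∈ X.C
  conj_I : ∀ ι, X.IsI ι → X.IsI (d * ι * d)

theorem isD_e : X.IsD (X.e : G) := by
  obtain ⟨ea, eb, -⟩ := X.e_conj
  have h1 := congrArg (fun r : ↥X.C => (r : G)) ea
  have h2 := congrArg (fun r : ↥X.C => (r : G)) eb
  simp only [Subgroup.coe_mul, Subgroup.coe_inv, X.e_inv] at h1 h2
  exact ⟨X.ee, h1, h2, X.e.2, fun ι hι => by
    have := hι.conj_e X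
    rwa [X.e_inv] at this⟩

theorem isD_ze : X.IsD (X.z * (X.e : G)) := by
  obtain ⟨he, hab, hba, -, hI⟩ := X.isD_e
  have hze : (X.e : G) * X.z = X.z * X.e := X.e_z
  have zi := invol_inv X.hz
  have key : ∀ r : G, X.z * (X.e : G) * r * (X.z * X.e) = X.z * (X.e * r * X.e) * X.z⁻¹ := fun r => by
    rw [zi]
    conv_lhs => arg 2; rw [← hze]
    group
  have hc : ∀ r : ↥X.C, X.z * (r : G) * X.z⁻¹ = r := fun r => by
    rw [← X.mem_C.1 r.2, mul_inv_cancel_right]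
  refine ⟨?_, by rw [key, hab, hc], by rw [key, hba, hc], mul_mem X.z_mem X.e.2, fun ι hι => ?_⟩
  · conv_lhs => arg 2; rw [← hze]
    rw [show X.z * (X.e : G) * ((X.e : G) * X.z) = X.z * ((X.e : G) * X.e) * X.z by group, he, mul_one, X.zz']
  · rw [key, (hI ι hι).2.2.2.1]
    exact (hI ι hι).mul_inv

theorem IsD.conj_bel {d : G} (hd : X.IsD d) : d * ((X.a * X.b : ↥X.C) : G) * d = ((X.a * X.b : ↥X.C) : G) := by
  rw [Subgroup.coe_mul]
  calc d * ((X.a : G) * X.b) * d = (d * X.a * d) * (d * X.b * d) := by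
        conv_lhs => rw [← mul_one (X.a : G), ← hd.sq]
        group
    _ = X.b * X.a := by rw [hd.a_b, hd.b_a]
    _ = _ := congrArg (fun r : ↥X.C => (r : G)) X.comm_abc.1.symm

include hO h3 in
/-- A lift centralised by an involution exchanging the triples. -/
theorem exists_M_fixed {d : G} (hd : X.IsD d) {ι : G} (hι : X.IsI ι) (hdι : d * ι * d = ι⁻¹) :
    ∃ g, X.IsM g ∧ g * d = d * g ∧ g * X.a * g⁻¹ * (X.a : G)⁻¹ = ι := by
  obtain ⟨g, hg, e⟩ := X.exists_M hO h3 hι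
  obtain ⟨hg1, hg2, -⟩ := id hg
  have dinv : d⁻¹ = d := inv_eq_of_mul_eq_one_right hd.sq
  have dd : ∀ p r : G, d * (p * r) * d = (d * p * d) * (d * r * d) := fun p r => by
    conv_lhs => rw [← mul_one p, ← hd.sq]
    group
  have dinv' : ∀ p : G, (d * p * d)⁻¹ = d * p⁻¹ * d := fun p => by rw [mul_inv_rev, mul_inv_rev, dinv, ← mul_assoc]
  set k := d * g * d with hk
  have ge : g * X.a * g⁻¹ = ι * X.a := by rw [← e]; group
  have gbe : g * X.b * g⁻¹ = ι⁻¹ * X.b := by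
    have h := mul_inv_eq_iff_eq_mul.2 hg1
    rw [Subgroup.coe_mul] at h
    calc g * X.b * g⁻¹ = (g * X.a * g⁻¹)⁻¹ * (g * ((X.a : G) * X.b) * g⁻¹) := by group
      _ = (ι * X.a)⁻¹ * ((X.a : G) * X.b) := by rw [ge, h]
      _ = ι⁻¹ * X.b := by rw [hι.1]; group
  have ka : k * X.a * k⁻¹ * (X.a : G)⁻¹ = ι := by
    have h1 : k * X.a * k⁻¹ = ι * X.a := by
      calc k * X.a * k⁻¹ = d * (g * (d * X.a * d) * g⁻¹) * d := by rw [hk, mul_inv_rev, mul_inv_rev, dinv]; group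
        _ = d * (ι⁻¹ * X.b) * d := by rw [hd.a_b, gbe]
        _ = (d * ι⁻¹ * d) * (d * X.b * d) := dd _ _
        _ = ι * X.a := by rw [← dinv', hdι, inv_inv, hd.b_a]
    rw [h1, mul_inv_cancel_right]
  have hkM : X.IsM k := by
    refine ⟨?_, fun κ hκ => ?_, ka ▸ hι⟩
    · conv_lhs => rw [← hd.conj_bel X, ← dd, hg1, dd, hd.conj_bel X]
    · have hκ' : κ = d * (d * κ * d) * d := by
        rw [show d * (d * κ * d) * d = (d * d) * κ * (d * d) by group, hd.sq, one_mul, mul_one]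
      rw [hκ', hk, ← dd, hg2 _ (hd.conj_I κ hκ), dd]
  set r := g⁻¹ * k with hr
  obtain ⟨gi, gie⟩ := hg.inv X
  obtain ⟨hrM, hre⟩ := gi.mul X hO h3 hkM
  rw [gie, e, ka, mul_inv_cancel] at hre
  have hra : r * X.a = X.a * r := mul_inv_eq_iff_eq_mul.1 (mul_inv_eq_one.1 hre)
  obtain ⟨κ, v, hκ, hrv⟩ := hrM.base X hO h3 hra
  rw [← hr] at hrv
  have hr3 : r ^ 3 = 1 := by
    rw [hrv, (show Commute κ (X.bel v : G) from hκ.comm_bel X v).mul_pow, hκ.2.2.2.2, one_mul, ← Subgroup.coe_pow,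
      X.bel_cube]
    rfl
  have hr3' : r * (r * r) = 1 := by rw [← pow_two, ← pow_succ']; exact hr3
  have hdr : d * r * d = r⁻¹ := by
    have hdk : d * k * d = g := by
      rw [hk, show d * (d * g * d) * d = (d * d) * g * (d * d) by group, hd.sq, one_mul, mul_one]
    rw [hr, dd, hdk, ← dinv', ← hk]; group
  obtain ⟨hrr, hrre⟩ := hrM.mul X hO h3 hrM
  rw [← hr] at hrre
  obtain ⟨hgM, hge⟩ := hg.mul X hO h3 hrr
  refine ⟨g * (r * r), hgM, ?_, ?_⟩
  · have : d * (g * (r * r)) * d = g * (r * r) := by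
      rw [dd, dd, hdr, ← hk, show k = g * r by rw [hr]; group]
      calc g * r * (r⁻¹ * r⁻¹) = g * r⁻¹ := by group
        _ = g * ((r * (r * r)) * r⁻¹) := by rw [hr3', one_mul]
        _ = g * (r * r) := by
            have : Commute r (r * r) := (Commute.refl r).mul_right (Commute.refl r)
            rw [this.eq]; group
    calc g * (r * r) * d = d * d * (g * (r * r) * d) := by rw [hd.sq, one_mul]
      _ = d * (d * (g * (r * r)) * d) := by group
      _ = d * (g * (r * r)) := by rw [this]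
  · rw [hge, e, hrre]
    rw [hr] at hra
    rw [show r * X.a * r⁻¹ * (X.a : G)⁻¹ = 1 by rw [hr, hra]; group, mul_one, one_mul]

theorem exists_y : ∃ y : G, y ^ 9 = 1 ∧ y * ((X.a * X.b : ↥X.C) : G) = ((X.a * X.b : ↥X.C) : G) * y ∧
    (y * X.z * y⁻¹ = X.e ∨ y * X.z * y⁻¹ = X.z * X.e) ∧ (y⁻¹ * X.z * y = X.e ∨ y⁻¹ * X.z * y = X.z * X.e) := by
  classical
  haveI : Fact (Nat.Prime 3) := ⟨Nat.prime_three⟩
  obtain ⟨s3, -, c3, -, n3, -, -, -, g3, -⟩ := lin_facts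
  obtain ⟨x0, hx0, hx03⟩ := X.D.exists_lift_odd s3 (r := 3) (by decide) c3
  have memT : ∀ {σ : Perm (Fin 9)}, σ ∈ X.TS 1 ↔ ∃ v, tr v = σ := fun {σ} => by
    rw [X.TS_one, mem_TT]
    constructor <;> rintro ⟨v, hv⟩ <;> exact ⟨v, by rw [← hv]; first | exact (X.ι_nine _).symm | exact X.ι_nine _⟩
  have hxN : (x0 : G) ∈ X.NE := mem_normalizer_of_conj fun d hd => by
    obtain ⟨d', hd', rfl⟩ := hd
    obtain ⟨v, hv⟩ := memT.1 hd'
    obtain ⟨w, hw⟩ := g3 v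
    show ((x0 * d' * x0⁻¹ : ↥X.C) : G) ∈ X.EG 1
    rw [X.mem_EG, map_mul, map_mul, map_inv, hx0, ← hv, hw, mul_inv_cancel_right]
    exact memT.2 ⟨w, rfl⟩
  set xN : ↥X.NE := ⟨x0, hxN⟩
  have hx3G : (x0 : G) ^ 3 = 1 := congrArg Subtype.val hx03
  have hxo : orderOf xN = 3 := orderOf_eq_prime (Subtype.ext hx3G) fun h => n3 (by
    rw [← hx0, show x0 = 1 from Subtype.ext (congrArg (fun r : ↥X.NE => (r : G)) h), map_one])
  obtain ⟨P, hP⟩ := (IsPGroup.of_card (p := 3) (n := 1)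
    (show Nat.card (zpowers xN) = 3 ^ 1 by rw [Nat.card_zpowers, hxo, pow_one])).exists_le_sylow
  have hP9 : Nat.card P = 9 := by
    rw [P.card_eq_multiplicity, X.card_NE, show (40320 : ℕ) = 3 ^ 2 * 4480 from rfl,
      Nat.factorization_mul (by norm_num) (by norm_num), Finsupp.add_apply,
      Nat.Prime.factorization_pow Nat.prime_three, Finsupp.single_eq_same,
      Nat.factorization_eq_zero_of_not_dvd (by norm_num)]
    rfl
  obtain ⟨p, hp, hpC⟩ : ∃ p ∈ (P : Subgroup ↥X.NE), (p : G) ∉ X.C := by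
    by_contra hall
    push Not at hall
    have hle : (P : Subgroup ↥X.NE).map X.NE.subtype ≤ normalizer (X.EG 1 : Set G) ⊓ X.C := by
      rintro _ ⟨r, hr, rfl⟩
      exact ⟨r.2, hall r hr⟩
    have := card_dvd_of_le hle
    rw [← Nat.card_congr (Subgroup.equivMapOfInjective _ _ X.NE.subtype_injective).toEquiv, hP9, X.card_stab] at this
    omega
  have hp9 : (p : G) ^ 9 = 1 := by
    have := congrArg (fun r : P => ((r : ↥X.NE) : G)) (pow_card_eq_one' (G := P) (x := ⟨p, hp⟩))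
    rw [hP9] at this
    simpa using this
  haveI : IsMulCommutative P := IsPGroup.isMulCommutative_of_card_eq_prime_sq (p := 3) (G := P) (by rw [hP9]; rfl)
  have hpx : (p : G) * x0 = x0 * p :=
    congrArg (fun r : P => ((r : ↥X.NE) : G)) (mul_comm' (⟨p, hp⟩ : P) ⟨xN, hP (mem_zpowers _)⟩)
  obtain ⟨e0, he0⟩ := X.D.lift (tr 7) (tr_sign 7)
  have hfix : ∀ d : G, d ∈ X.EG 1 → d * x0 = x0 * d → d ≠ 1 →
      d = X.z ∨ d = e0 ∨ d = X.z * e0 := by
    intro d hd hdx hd1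
    obtain ⟨d', hd', rfl⟩ := hd
    obtain ⟨v, hv⟩ := memT.1 hd'
    have key : ∀ v, tr v * l3 = l3 * tr v → v = 0 ∨ v = 7 := by decide +kernel
    have hc : tr v * l3 = l3 * tr v := by
      rw [hv, ← hx0, ← map_mul, ← map_mul]
      exact congrArg _ (Subtype.ext hdx)
    rcases key v hc with rfl | rfl
    · rw [tr_zero] at hv
      rcases X.cases_one hv.symm with h | h
      · exact absurd h hd1
      · exact Or.inl h
    · rcases X.D.eq_or (hv.symm.trans he0.symm) with h | h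
      · exact Or.inr (Or.inl (congrArg Subtype.val h))
      · exact Or.inr (Or.inr ((congrArg Subtype.val h).trans (X.Dz_mul _)))
  have hmove : ∀ q : ↥X.NE, (q : G) * x0 = x0 * q → (q : G) ∉ X.C →
      (q : G) * X.z * (q : G)⁻¹ = e0 ∨ (q : G) * X.z * (q : G)⁻¹ = X.z * e0 := by
    intro q hqx hqC
    have h2 := invol_conj X.hz (q : G)
    refine (hfix _ ((mem_normalizer_iff.1 q.2 _).1 (X.z_mem_EG 1)) ?_ (invol_iff.1 h2).2).resolve_left
      fun h => hqC (X.mem_C.2 (mul_inv_eq_iff_eq_mul.1 h))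
    exact ((show Commute (q : G) x0 from hqx).mul_left (show Commute X.z x0 from (X.mem_C.1 x0.2).symm) |>.mul_left
      (show Commute (q : G) x0 from hqx).inv_left).eq
  have h1 := hmove p hpx hpC
  have h2 : (p : G)⁻¹ * X.z * p = e0 ∨ (p : G)⁻¹ * X.z * p = X.z * e0 := by
    have := hmove p⁻¹ (show Commute (p : G) x0 from hpx).inv_left.eq
      (fun h => hpC (by simpa using inv_mem h))
    simpa using this
  obtain ⟨sσ, hσ1, hσ2⟩ := pσ_facts
  obtain ⟨s, hs⟩ := X.D.lift pσ sσ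
  have hsx : s * x0 * s⁻¹ = X.a * X.b := by
    refine X.D.eq_of_odd (r := 3) (by decide) (by rw [conj_pow, hx03, mul_one, mul_inv_cancel]) ?_ ?_
    · rw [(show Commute X.a X.b from X.comm_abc.1).mul_pow, X.a_cube, X.b_cube, one_mul]
    · rw [map_mul, map_mul, map_inv, hs, hx0, map_mul, X.π_a9, X.π_b, hσ1]
  have hsz : (s : G) * X.z * (s : G)⁻¹ = X.z := by rw [X.mem_C.1 s.2, mul_inv_cancel_right]
  have hsz' : (s : G)⁻¹ * X.z * s = X.z := by rw [mul_assoc, ← X.mem_C.1 s.2, inv_mul_cancel_left]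
  have hse : (s : G) * e0 * (s : G)⁻¹ = X.e ∨ (s : G) * e0 * (s : G)⁻¹ = X.z * X.e := by
    rcases X.D.eq_or (c := s * e0 * s⁻¹) (d := X.e) (by rw [map_mul, map_mul, map_inv, hs, he0, X.π_e, hσ2]) with h | h
    · exact Or.inl (congrArg Subtype.val h)
    · exact Or.inr ((congrArg Subtype.val h).trans (X.Dz_mul _))
  have hsze : (s : G) * (X.z * e0) * (s : G)⁻¹ = X.e ∨ (s : G) * (X.z * e0) * (s : G)⁻¹ = X.z * X.e := by
    rw [show (s : G) * (X.z * e0) * (s : G)⁻¹ = ((s : G) * X.z * (s : G)⁻¹) * ((s : G) * e0 * (s : G)⁻¹) by group, hsz]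
    rcases hse with h | h <;> rw [h]
    · exact Or.inr rfl
    · exact Or.inl (by rw [← mul_assoc, X.zz', one_mul])
  have tr' : ∀ m : G, (m = e0 ∨ m = X.z * e0) →
      (s : G) * m * (s : G)⁻¹ = X.e ∨ (s : G) * m * (s : G)⁻¹ = X.z * X.e := by
    rintro m (rfl | rfl)
    · exact hse
    · exact hsze
  refine ⟨(s : G) * p * (s : G)⁻¹, by rw [conj_pow, hp9, mul_one, mul_inv_cancel], ?_, ?_, ?_⟩
  · rw [← hsx]
    exact conj_comm (s : G) hpx
  · rw [show (s : G) * p * (s : G)⁻¹ * X.z * ((s : G) * p * (s : G)⁻¹)⁻¹ =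
      (s : G) * (p * ((s : G)⁻¹ * X.z * s) * (p : G)⁻¹) * (s : G)⁻¹ by group, hsz']
    exact tr' _ h1
  · rw [show ((s : G) * p * (s : G)⁻¹)⁻¹ * X.z * ((s : G) * p * (s : G)⁻¹) =
      (s : G) * ((p : G)⁻¹ * ((s : G)⁻¹ * X.z * s) * p) * (s : G)⁻¹ by group, hsz']
    exact tr' _ h2

include hO h3 in
/-- The involution exchanging the triples is not a scalar on the plane. -/
theorem exists_eigen : (∃ ι, X.IsI ι ∧ ι ≠ 1 ∧ (X.e : G) * ι * X.e = ι) ∧
    ∃ ι, X.IsI ι ∧ ι ≠ 1 ∧ (X.e : G) * ι * X.e = ι⁻¹ := by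
  obtain ⟨ι0, hι0, hι01⟩ := X.exists_I_ne hO h3
  obtain ⟨he, -, -, -, hI⟩ := X.isD_e
  set p : ↥X.C := X.gG * X.e * X.gG⁻¹ * X.e with hp
  have hpp : p * p = X.D.z := X.D.dt _ (by
    rw [hp, map_mul, map_mul, map_mul, map_inv, X.π_gG, X.π_e, pC_facts.2.2.2.2.2]
    exact ⟨0, 1, 3, 4, by decide, rfl⟩)
  have gI : ∀ κ, X.IsI κ → X.IsI ((X.gG : G)⁻¹ * κ * X.gG) := fun κ hκ => by
    have := hκ.conj X X.gG⁻¹ fun r hr => by
      obtain ⟨gb, gc⟩ := X.gG_inv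
      simp only [Set.mem_insert_iff, Set.mem_singleton_iff] at hr
      rw [inv_inv]
      rcases hr with rfl | rfl | rfl
      · refine ⟨X.a, by simp, Or.inl ?_⟩
        rw [X.D.commute_three X.a_cube (d := X.gG) (by rw [X.π_gG, X.π_a9]; exact pG_facts.2.1), mul_inv_cancel_right]
      · exact ⟨X.b, by simp, Or.inr gb⟩
      · exact ⟨X.c, by simp, Or.inr gc⟩
    rwa [Subgroup.coe_inv, inv_inv] at this
  have bad : ¬ ((∀ ι, X.IsI ι → (X.e : G) * ι * X.e = ι) ∨ ∀ ι, X.IsI ι → (X.e : G) * ι * X.e = ι⁻¹) := by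
    intro hb
    have hfix : ∀ κ, X.IsI κ → (p : G) * κ * (p : G)⁻¹ = κ := fun κ hκ => by
      have h1 : (p : G) * κ * (p : G)⁻¹ =
          (X.gG : G) * (X.e * ((X.gG : G)⁻¹ * (X.e * κ * X.e) * X.gG) * X.e) * (X.gG : G)⁻¹ := by
        rw [hp]; simp only [Subgroup.coe_mul, Subgroup.coe_inv, mul_inv_rev, inv_inv, X.e_inv]; group
      rw [h1]
      rcases hb with h | h
      · rw [h κ hκ, h _ (gI κ hκ)]; group
      · rw [h κ hκ, h _ (gI _ hκ.mul_inv)]; group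
    have hz : X.z * ι0 * X.z⁻¹ = ι0 := by
      rw [← X.Dz, ← hpp, Subgroup.coe_mul,
        show (p : G) * p * ι0 * ((p : G) * p)⁻¹ = p * ((p : G) * ι0 * (p : G)⁻¹) * (p : G)⁻¹ by group,
        hfix ι0 hι0, hfix ι0 hι0]
    rw [hι0.2.2.2.1] at hz
    refine hι01 ?_
    have h := hι0.2.2.2.2
    rwa [pow_succ, pow_two, mul_eq_one_iff_eq_inv.2 hz.symm, one_mul] at h
  simp only [not_or, not_forall, exists_prop] at bad
  obtain ⟨⟨κ, hκ, h1⟩, ⟨μ, hμ, h2⟩⟩ := bad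
  have ee' : ∀ r : G, (X.e : G) * (X.e * r * X.e) * X.e = r := fun r => by
    rw [show (X.e : G) * ((X.e : G) * r * X.e) * X.e = ((X.e : G) * X.e) * r * ((X.e : G) * X.e) by group, he,
      one_mul, mul_one]
  have dd : ∀ u r : G, (X.e : G) * (u * r) * X.e = (X.e * u * X.e) * (X.e * r * X.e) := fun u r => by
    conv_lhs => rw [← mul_one u, ← he]
    group
  constructor
  · refine ⟨μ * (X.e * μ * X.e), hμ.mul X hO h3 (hI μ hμ), fun h => h2 ?_, ?_⟩
    · rw [← eq_inv_of_mul_eq_one_right h]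
    · rw [dd, ee', hμ.commute X hO h3 (hI μ hμ)]
  · refine ⟨κ * ((X.e : G) * κ * X.e)⁻¹, hκ.mul X hO h3 (hI κ hκ).mul_inv, fun h => h1 ?_, ?_⟩
    · rw [← mul_inv_eq_one.1 h]
    · rw [dd, show (X.e : G) * ((X.e : G) * κ * X.e)⁻¹ * X.e = κ⁻¹ by
        rw [mul_inv_rev, mul_inv_rev, X.e_inv,
          show (X.e : G) * ((X.e : G) * (κ⁻¹ * (X.e : G))) * X.e = ((X.e : G) * X.e) * κ⁻¹ * ((X.e : G) * X.e) by group,
          he, one_mul, mul_one]]
      rw [mul_inv_rev, inv_inv]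

include hO h3 in
/-- A commuting involution pair: the fixed parts centralise a conjugate of a base element. -/
theorem not_case : False := by
  classical
  haveI : Fact (Nat.Prime 3) := ⟨Nat.prime_three⟩
  set x : G := ((X.a * X.b : ↥X.C) : G) with hx
  obtain ⟨y, hy9, hyx, hy1, hy2⟩ := X.exists_y
  set d₁ := y * X.z * y⁻¹ with hd₁
  set d₂ := y⁻¹ * X.z * y with hd₂
  have zi := invol_inv X.hz
  have hne : d₁ ≠ d₂ := by
    intro h
    have h2 : y * y * X.z = X.z * (y * y) := by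
      calc y * y * X.z = y * (y * X.z * y⁻¹) * y := by group
        _ = y * (y⁻¹ * X.z * y) * y := by rw [← hd₁, h, hd₂]
        _ = X.z * (y * y) := by group
    have h8 : Commute ((y * y) ^ 4) X.z := (show Commute (y * y) X.z from h2).pow_left 4
    have hy10 : y = (y * y) ^ 5 := by
      rw [← pow_two, ← pow_mul, show 2 * 5 = 9 + 1 from rfl, pow_succ, hy9, one_mul]
    have hyz : y * X.z = X.z * y := by
      rw [hy10]; exact ((show Commute (y * y) X.z from h2).pow_left 5).eq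
    have hd : d₁ = X.z := by rw [hd₁, hyz, mul_inv_cancel_right]
    rcases hy1 with e | e
    · have : X.D.π X.e = 1 := by
        rw [show X.e = X.D.z from Subtype.ext (by rw [X.Dz]; exact e.symm.trans hd), X.D.π_z]
      rw [X.π_e] at this
      exact absurd this (by decide +kernel)
    · have h5 : (X.e : G) = 1 := by
        have := e.symm.trans hd
        exact mul_eq_left.1 this
      have : X.D.π X.e = 1 := by rw [show X.e = 1 from Subtype.ext h5, map_one]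
      rw [X.π_e] at this
      exact absurd this (by decide +kernel)
  have hpair : (d₁ = X.e ∧ d₂ = X.z * X.e) ∨ (d₁ = X.z * X.e ∧ d₂ = X.e) := by
    rcases hy1 with e1 | e1 <;> rcases hy2 with e2 | e2
    · exact absurd (e1.trans e2.symm) hne
    · exact Or.inl ⟨e1, e2⟩
    · exact Or.inr ⟨e1, e2⟩
    · exact absurd (e1.trans e2.symm) hne
  have hD : X.IsD d₁ ∧ X.IsD d₂ := by
    rcases hpair with ⟨e1, e2⟩ | ⟨e1, e2⟩ <;> rw [e1, e2]
    · exact ⟨X.isD_e, X.isD_ze⟩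
    · exact ⟨X.isD_ze, X.isD_e⟩
  obtain ⟨hD1, hD2⟩ := hD
  have hzd : X.z * d₁ = d₂ := by
    rcases hpair with ⟨e1, e2⟩ | ⟨e1, e2⟩ <;> rw [e1, e2]
    rw [← mul_assoc, X.zz', one_mul]
  have hd12 : y * d₁ * y⁻¹ = d₂ := by
    have h1 : y * d₂ * y⁻¹ = X.z := by rw [hd₂]; group
    have h2 : d₁ = X.z * d₂ := by rw [← hzd, ← mul_assoc, X.zz', one_mul]
    have hzd1 : d₁ * X.z = X.z * d₁ := X.mem_C.1 hD1.mem
    rw [h2, show y * (X.z * d₂) * y⁻¹ = (y * X.z * y⁻¹) * (y * d₂ * y⁻¹) by group, h1, ← hd₁, hzd1, hzd]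
  have hopp : ∀ ι, X.IsI ι → (d₁ * ι * d₁ = ι ↔ d₂ * ι * d₂ = ι⁻¹) := by
    intro ι hι
    have e : d₂ * ι * d₂ = (d₁ * ι * d₁)⁻¹ := by
      rw [← hzd]
      conv_lhs => arg 2; rw [← X.mem_C.1 hD1.mem]
      rw [show X.z * d₁ * ι * (d₁ * X.z) = X.z * (d₁ * ι * d₁) * X.z⁻¹ by rw [zi]; group]
      exact (hD1.conj_I ι hι).2.2.2.1
    rw [e, inv_inj]
  have heig : (∃ ι, X.IsI ι ∧ ι ≠ 1 ∧ d₁ * ι * d₁ = ι) ∧ ∃ ι, X.IsI ι ∧ ι ≠ 1 ∧ d₂ * ι * d₂ = ι := by
    obtain ⟨⟨κ, hκ, hκ1, hκe⟩, μ, hμ, hμ1, hμe⟩ := X.exists_eigen hO h3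
    rcases hpair with ⟨e1, e2⟩ | ⟨e1, e2⟩
    · refine ⟨⟨κ, hκ, hκ1, e1 ▸ hκe⟩, μ, hμ, hμ1, ?_⟩
      by_contra hne2
      have h1 : d₁ * μ * d₁ = μ⁻¹ := e1 ▸ hμe
      rw [← hzd] at hne2
      refine hne2 ?_
      conv_lhs => arg 2; rw [← X.mem_C.1 hD1.mem]
      rw [show X.z * d₁ * μ * (d₁ * X.z) = X.z * (d₁ * μ * d₁) * X.z⁻¹ by rw [zi]; group, h1,
        hμ.mul_inv.2.2.2.1, inv_inv]
    · refine ⟨⟨μ, hμ, hμ1, ?_⟩, κ, hκ, hκ1, e2 ▸ hκe⟩
      have h1 : d₂ * μ * d₂ = μ⁻¹ := e2 ▸ hμe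
      exact (hopp μ hμ).2 h1
  obtain ⟨⟨i₁, hi₁, hi₁1, hi₁d⟩, i₂, hi₂, hi₂1, hi₂d⟩ := heig
  have comm_of : ∀ {d r : G}, d * d = 1 → d * r * d = r → r * d = d * r := fun {d r} hd h => by
    calc r * d = (d * r * d) * d := by rw [h]
      _ = d * r * (d * d) := by group
      _ = d * r := by rw [hd, mul_one]
  have xI : ∀ ι, X.IsI ι → ι * x = x * ι := fun ι hι => by
    rw [hx, Subgroup.coe_mul]
    exact ((show Commute ι (X.a : G) from hι.1).mul_right hι.2.1).eq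
  have hxM : X.IsM x := by
    refine ⟨rfl, fun ι hι => (xI ι hι).symm, ?_⟩
    rw [hx, Subgroup.coe_mul]
    have hab : (X.a : G) * X.b = X.b * X.a := congrArg (fun r : ↥X.C => (r : G)) X.comm_abc.1
    rw [show (X.a : G) * X.b * X.a * ((X.a : G) * X.b)⁻¹ * (X.a : G)⁻¹ =
      X.a * (X.b * X.a) * (X.b : G)⁻¹ * ((X.a : G)⁻¹ * (X.a : G)⁻¹) by group, ← hab]
    convert X.isI_one using 1
    group
  -- the fixed parts are conjugates of the base
  have hUM : ∀ d i : G, X.IsD d → X.IsI i → i ≠ 1 → d * i * d = i →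
      (∃ ι, X.IsI ι ∧ ι ≠ 1 ∧ d * ι * d = ι⁻¹) → ∀ u : G, u * X.z * u⁻¹ = d → u * x = x * u →
      ∀ g : G, g * x = x * g → g * d = d * g → g ^ 9 = 1 → X.IsM g := by
    intro d i hd hi hi1 hid hι u hu hux g hgx hgd hg9
    obtain ⟨ι, hι, hι1, hιd⟩ := hι
    obtain ⟨h, hhM, hhd, hhe⟩ := X.exists_M_fixed hO h3 hd hι hιd
    let H : Subgroup G :=
      { carrier := {g | X.IsM g ∧ g * d = d * g}
        one_mem' := ⟨⟨by group, fun κ _ => by group, by convert X.isI_one using 1; group⟩, by group⟩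
        mul_mem' := fun {p r} hp hr => ⟨(hp.1.mul X hO h3 hr.1).1, ((show Commute p d from hp.2).mul_left hr.2).eq⟩
        inv_mem' := fun {p} hp => ⟨(hp.1.inv X).1, (show Commute p d from hp.2).inv_left.eq⟩ }
    have hH9 : ∀ p ∈ H, p ^ 9 = 1 := fun p hp => hp.1.pow_nine X hO h3
    have hmap : ∀ p : H, ∃ v, u⁻¹ * (p : G) * u = X.bel v := fun p => by
      refine X.exists_bel_of_pair (X.mem_C.2 ?_) ?_ ?_
      · calc u⁻¹ * (p : G) * u * X.z = u⁻¹ * ((p : G) * (u * X.z * u⁻¹)) * u := by group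
          _ = u⁻¹ * ((u * X.z * u⁻¹) * (p : G)) * u := by rw [hu, p.2.2]
          _ = X.z * (u⁻¹ * (p : G) * u) := by group
      · have e := conj_pow (a := u⁻¹) (b := (p : G)) (i := 9)
        rw [inv_inv] at e
        rw [e, hH9 p p.2, mul_one, inv_mul_cancel]
      · calc u⁻¹ * (p : G) * u * x = u⁻¹ * (p : G) * (x * u) := by rw [mul_assoc _ u x, hux]
          _ = u⁻¹ * (x * (p : G)) * u := by rw [← mul_assoc (u⁻¹ * (p : G)), mul_assoc u⁻¹ (p : G) x, p.2.1.1]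
          _ = x * (u⁻¹ * (p : G) * u) := by
              rw [← mul_assoc u⁻¹ x, (show Commute u x from hux).inv_left.eq]; group
    choose fv hfv using hmap
    have hfinj : Function.Injective fv := fun p r e => Subtype.ext (by
      have e' : u⁻¹ * (p : G) * u = u⁻¹ * (r : G) * u := by rw [hfv, hfv, e]
      exact mul_left_cancel (mul_right_cancel e'))
    have hH27 : Nat.card H ≤ 27 := (Nat.card_le_card_of_injective fv hfinj).trans
      (by simp [Nat.card_eq_fintype_card])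
    have hiM : X.IsM i := by
      refine ⟨xI i hi, fun κ hκ => hi.commute X hO h3 hκ, ?_⟩
      rw [hi.1, mul_inv_cancel_right, mul_inv_cancel]
      exact X.isI_one
    have hiH : i ∈ H := ⟨hiM, comm_of hd.sq hid⟩
    have hxH : x ∈ H := ⟨hxM, comm_of hd.sq (hd.conj_bel X)⟩
    have hhH : h ∈ H := ⟨hhM, hhd⟩
    set H0 := H ⊓ centralizer ({(X.a : G)} : Set G)
    have hxa : x * X.a = X.a * x := by
      rw [hx, Subgroup.coe_mul, mul_assoc,
        show (X.b : G) * X.a = X.a * X.b from congrArg (fun r : ↥X.C => (r : G)) X.comm_abc.1.symm, ← mul_assoc]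
    have hlt : H0 < H := lt_of_le_of_ne inf_le_left fun e => hι1 (by
      have h1 : h ∈ H0 := e ▸ hhH
      rw [← hhe, mem_centralizer_singleton_iff.1 h1.2, mul_inv_cancel_right, mul_inv_cancel])
    have h9 : 9 ≤ Nat.card H0 := by
      have hmem : ∀ v : Fin 3 × Fin 3, x ^ (v.1 : ℕ) * i ^ (v.2 : ℕ) ∈ H0 := fun v =>
        mul_mem (pow_mem (mem_inf.2 ⟨hxH, mem_centralizer_singleton_iff.2 hxa⟩) _)
          (pow_mem (mem_inf.2 ⟨hiH, mem_centralizer_singleton_iff.2 hi.1⟩) _)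
      have hinj : Function.Injective fun v => (⟨_, hmem v⟩ : H0) := by
        intro v w e
        have e' : x ^ (v.1 : ℕ) * i ^ (v.2 : ℕ) = x ^ (w.1 : ℕ) * i ^ (w.2 : ℕ) := congrArg Subtype.val e
        have hzi : ∀ k : ℕ, X.z * i ^ k * X.z⁻¹ = (i ^ k)⁻¹ := fun k => by rw [← conj_pow, hi.2.2.2.1, inv_pow]
        have hzx : ∀ k : ℕ, X.z * x ^ k * X.z⁻¹ = x ^ k := fun k => by
          rw [← conj_pow, hx, ← X.mem_C.1 (X.a * X.b).2, mul_inv_cancel_right]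
        have e2 := congrArg (fun g => X.z * g * X.z⁻¹) e'
        rw [show X.z * (x ^ (v.1 : ℕ) * i ^ (v.2 : ℕ)) * X.z⁻¹ =
          (X.z * x ^ (v.1 : ℕ) * X.z⁻¹) * (X.z * i ^ (v.2 : ℕ) * X.z⁻¹) by group,
          show X.z * (x ^ (w.1 : ℕ) * i ^ (w.2 : ℕ)) * X.z⁻¹ =
          (X.z * x ^ (w.1 : ℕ) * X.z⁻¹) * (X.z * i ^ (w.2 : ℕ) * X.z⁻¹) by group, hzx, hzx, hzi, hzi] at e2
        have e3 : (i ^ (v.2 : ℕ)) * (i ^ (v.2 : ℕ)) = (i ^ (w.2 : ℕ)) * (i ^ (w.2 : ℕ)) := by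
          have hA : (x ^ (w.1 : ℕ))⁻¹ * x ^ (v.1 : ℕ) = i ^ (w.2 : ℕ) * (i ^ (v.2 : ℕ))⁻¹ := by
            calc (x ^ (w.1 : ℕ))⁻¹ * x ^ (v.1 : ℕ)
                = (x ^ (w.1 : ℕ))⁻¹ * (x ^ (v.1 : ℕ) * i ^ (v.2 : ℕ)) * (i ^ (v.2 : ℕ))⁻¹ := by group
              _ = _ := by rw [e']; group
          have hB : (x ^ (w.1 : ℕ))⁻¹ * x ^ (v.1 : ℕ) = (i ^ (w.2 : ℕ))⁻¹ * i ^ (v.2 : ℕ) := by
            calc (x ^ (w.1 : ℕ))⁻¹ * x ^ (v.1 : ℕ)
                = (x ^ (w.1 : ℕ))⁻¹ * (x ^ (v.1 : ℕ) * (i ^ (v.2 : ℕ))⁻¹) * i ^ (v.2 : ℕ) := by group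
              _ = _ := by rw [e2]; group
          have hAB := hA.symm.trans hB
          rw [eq_inv_mul_iff_mul_eq, ← mul_assoc, mul_inv_eq_iff_eq_mul] at hAB
          exact hAB.symm
        have hi3 : i ^ 3 = 1 := hi.2.2.2.2
        have e4 : i ^ (v.2 : ℕ) = i ^ (w.2 : ℕ) := by
          have := congrArg (fun g => g ^ 2) e3
          simp only [← pow_add, ← pow_mul] at this
          rw [show ((v.2 : ℕ) + v.2) * 2 = v.2 + 3 * v.2 by omega, pow_add, pow_mul, hi3, one_pow, mul_one,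
            show ((w.2 : ℕ) + w.2) * 2 = w.2 + 3 * w.2 by omega, pow_add, pow_mul, hi3, one_pow, mul_one] at this
          exact this
        have hio : orderOf i = 3 := orderOf_eq_prime hi3 hi1
        have hv2 : (v.2 : ℕ) = w.2 := pow_injOn_Iio_orderOf (by simp [hio]) (by simp [hio]) e4
        rw [hv2, mul_left_inj] at e'
        have hx3 : (X.a * X.b) ^ 3 = 1 := by
          rw [(show Commute X.a X.b from X.comm_abc.1).mul_pow, X.a_cube, X.b_cube, one_mul]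
        have hxo : orderOf (X.a * X.b) = 3 := orderOf_eq_prime hx3 fun h1 => by
          have := congrArg X.D.π h1
          rw [map_mul, X.π_a9, X.π_b, map_one] at this
          revert this; decide +kernel
        have hv1 : (v.1 : ℕ) = w.1 := by
          refine pow_injOn_Iio_orderOf (x := X.a * X.b) (by simp [hxo]) (by simp [hxo]) (Subtype.ext ?_)
          simpa [hx] using e'
        exact Prod.ext (Fin.ext hv1) (Fin.ext hv2)
      have := Nat.card_le_card_of_injective _ hinj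
      simpa [Nat.card_eq_fintype_card] using this
    have hHp : IsPGroup 3 H := fun p => ⟨2, Subtype.ext (hH9 p p.2)⟩
    obtain ⟨k, hk⟩ := hHp.exists_card_eq
    have hgt : Nat.card H0 < Nat.card H := by
      refine lt_of_le_of_ne (Nat.le_of_dvd Nat.card_pos (card_dvd_of_le inf_le_left)) fun e => hlt.ne ?_
      exact eq_of_le_of_card_ge inf_le_left e.ge
    have hHc : Nat.card H = 27 := by
      rw [hk] at hH27 hgt ⊢
      have : k ≤ 3 := by
        by_contra hk3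
        have := Nat.pow_le_pow_right (show 0 < 3 by norm_num) (show 4 ≤ k by omega)
        omega
      interval_cases k <;> omega
    haveI : Fintype H := Fintype.ofFinite H
    have hsurj : Function.Surjective fv := ((Fintype.bijective_iff_injective_and_card fv).2
      ⟨hfinj, by rw [← Nat.card_eq_fintype_card, hHc]; simp⟩).2
    obtain ⟨v, hv⟩ : ∃ v, u⁻¹ * g * u = X.bel v := by
      refine X.exists_bel_of_pair (X.mem_C.2 ?_) ?_ ?_
      · calc u⁻¹ * g * u * X.z = u⁻¹ * (g * (u * X.z * u⁻¹)) * u := by group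
          _ = u⁻¹ * ((u * X.z * u⁻¹) * g) * u := by rw [hu, hgd]
          _ = X.z * (u⁻¹ * g * u) := by group
      · have e := conj_pow (a := u⁻¹) (b := g) (i := 9)
        rw [inv_inv] at e
        rw [e, hg9, mul_one, inv_mul_cancel]
      · calc u⁻¹ * g * u * x = u⁻¹ * g * (x * u) := by rw [mul_assoc _ u x, hux]
          _ = u⁻¹ * (x * g) * u := by rw [← mul_assoc (u⁻¹ * g), mul_assoc u⁻¹ g x, hgx]
          _ = x * (u⁻¹ * g * u) := by rw [← mul_assoc u⁻¹ x, (show Commute u x from hux).inv_left.eq]; group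
    obtain ⟨p, hp⟩ := hsurj v
    have e := hfv p
    rw [hp, ← hv] at e
    rw [← mul_left_cancel (mul_right_cancel e)]
    exact p.2.1
  have hinv1 : ∃ ι, X.IsI ι ∧ ι ≠ 1 ∧ d₁ * ι * d₁ = ι⁻¹ := by
    refine ⟨i₂, hi₂, hi₂1, ?_⟩
    rw [show d₁ = X.z * d₂ by rw [← hzd, ← mul_assoc, X.zz', one_mul]]
    conv_lhs => arg 2; rw [← X.mem_C.1 hD2.mem]
    rw [show X.z * d₂ * i₂ * (d₂ * X.z) = X.z * (d₂ * i₂ * d₂) * X.z⁻¹ by rw [zi]; group, hi₂d]
    exact hi₂.2.2.2.1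
  have hU1 := hUM d₁ i₁ hD1 hi₁ hi₁1 hi₁d hinv1 y rfl hyx
  have hU2 := hUM d₂ i₂ hD2 hi₂ hi₂1 hi₂d ⟨i₁, hi₁, hi₁1, (hopp i₁ hi₁).1 hi₁d⟩ y⁻¹ (by rw [inv_inv])
    ((show Commute y x from hyx).inv_left).eq
  -- the distinguished element of the base
  set j := y⁻¹ * i₁ * y with hj
  have cyx : Commute y x := hyx
  have cix : Commute i₁ x := xI i₁ hi₁
  obtain ⟨v, hv⟩ : ∃ v, j = X.bel v := by
    refine X.exists_bel_of_pair (X.mem_C.2 ?_) ?_ ?_
    · calc j * X.z = y⁻¹ * (i₁ * (y * X.z * y⁻¹)) * y := by rw [hj]; group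
        _ = y⁻¹ * ((y * X.z * y⁻¹) * i₁) * y := by rw [← hd₁, comm_of hD1.sq hi₁d]
        _ = X.z * j := by rw [hj]; group
    · have e := conj_pow (a := y⁻¹) (b := i₁) (i := 9)
      rw [inv_inv] at e
      rw [hj, e, show i₁ ^ 9 = 1 by rw [show 9 = 3 * 3 from rfl, pow_mul, hi₁.2.2.2.2, one_pow], mul_one,
        inv_mul_cancel]
    · exact ((cyx.inv_left.mul_left cix).mul_left cyx).eq
  have hj1 : j ≠ 1 := fun h => hi₁1 (by
    rw [show i₁ = y * j * y⁻¹ by rw [hj]; group, h]; group)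
  have hjd : d₁ * j * d₁ = j⁻¹ := by
    have h := (hopp i₁ hi₁).1 hi₁d
    rw [show d₁ = y⁻¹ * d₂ * y by rw [← hd12]; group, hj,
      show y⁻¹ * d₂ * y * (y⁻¹ * i₁ * y) * (y⁻¹ * d₂ * y) = y⁻¹ * (d₂ * i₁ * d₂) * y by group, h]
    group
  -- it commutes with the fixed parts
  have hjU : ∀ g : G, g * x = x * g → g ^ 9 = 1 → (g * d₁ = d₁ * g ∨ g * d₂ = d₂ * g) → g * j = j * g := by
    intro g hgx hg9 hgd
    set g' := y * g * y⁻¹ with hg'
    have hg'x : g' * x = x * g' := ((cyx.mul_left (show Commute g x from hgx)).mul_left cyx.inv_left).eq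
    have hg'9 : g' ^ 9 = 1 := by rw [hg', conj_pow, hg9, mul_one, mul_inv_cancel]
    have hcomm : g' * i₁ = i₁ * g' := by
      rcases hgd with h | h
      · have hd : g' * d₂ = d₂ * g' := by rw [← hd12, hg']; exact conj_comm y h
        exact (hU2 g' hg'x hd hg'9).2.1 i₁ hi₁
      · have hd : g' * X.z = X.z * g' := by
          have h1 : y * d₂ * y⁻¹ = X.z := by rw [hd₂]; group
          rw [← h1, hg']; exact conj_comm y h
        obtain ⟨v, hv⟩ := X.exists_bel_of_pair (X.mem_C.2 hd) hg'9 hg'x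
        rw [hv]; exact (hi₁.comm_bel X v).symm
    calc g * j = y⁻¹ * (g' * i₁) * y := by rw [hg', hj]; group
      _ = y⁻¹ * (i₁ * g') * y := by rw [hcomm]
      _ = j * g := by rw [hg', hj]; group
  have hIj : ∀ ι, X.IsI ι → ι * j = j * ι := fun ι hι => by rw [hv]; exact hι.comm_bel X v
  -- hence with all elements acting trivially modulo the plane
  have hMj : ∀ g, X.IsM g → g * j = j * g := by
    intro g hg
    set κ := g * X.a * g⁻¹ * (X.a : G)⁻¹ with hκ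
    have hκI : X.IsI κ := hg.2.2
    have key : ∀ d, X.IsD d → (d = d₁ ∨ d = d₂) → ∀ μ, X.IsI μ → d * μ * d = μ⁻¹ →
        ∃ p, X.IsM p ∧ p * j = j * p ∧ p * X.a * p⁻¹ * (X.a : G)⁻¹ = μ := by
      intro d hd hd' μ hμ hμd
      obtain ⟨p, hp, hpd, hpe⟩ := X.exists_M_fixed hO h3 hd hμ hμd
      refine ⟨p, hp, hjU p hp.1 (hp.pow_nine X hO h3) ?_, hpe⟩
      rcases hd' with rfl | rfl
      · exact Or.inl hpd
      · exact Or.inr hpd
    -- split the image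
    set μ₁ := κ * (d₁ * κ * d₁)⁻¹ with hμ₁
    set μ₂ := κ * (d₁ * κ * d₁) with hμ₂
    have hdκ := hD1.conj_I κ hκI
    have dinv : d₁⁻¹ = d₁ := inv_eq_of_mul_eq_one_right hD1.sq
    have dd : ∀ u r : G, d₁ * (u * r) * d₁ = (d₁ * u * d₁) * (d₁ * r * d₁) := fun u r => by
      conv_lhs => rw [← mul_one u, ← hD1.sq]
      group
    have ee' : ∀ r : G, d₁ * (d₁ * r * d₁) * d₁ = r := fun r => by
      rw [show d₁ * (d₁ * r * d₁) * d₁ = (d₁ * d₁) * r * (d₁ * d₁) by group, hD1.sq, one_mul, mul_one]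
    have h1 : d₁ * μ₁ * d₁ = μ₁⁻¹ := by
      rw [hμ₁, dd, show d₁ * (d₁ * κ * d₁)⁻¹ * d₁ = κ⁻¹ from conj_inv_cancel _ _]
      exact (inv_mul_inv_swap κ (d₁ * κ * d₁)).symm
    have h2 : d₂ * μ₂ * d₂ = μ₂⁻¹ := by
      refine (hopp μ₂ (hκI.mul X hO h3 hdκ)).1 ?_
      rw [hμ₂, dd, ee', hκI.commute X hO h3 hdκ]
    obtain ⟨p, hp, hpj, hpe⟩ := key d₁ hD1 (Or.inl rfl) μ₁ (hκI.mul X hO h3 hdκ.mul_inv) h1
    obtain ⟨p', hp', hp'j, hp'e⟩ := key d₂ hD2 (Or.inr rfl) μ₂ (hκI.mul X hO h3 hdκ) h2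
    obtain ⟨hpp, hppe⟩ := hp.mul X hO h3 hp'
    -- `μ₂ μ₁ = κ²`, so the square has the same image as `g⁻¹`
    obtain ⟨hq, hqe⟩ := hg.mul X hO h3 hpp
    have hprod : μ₂ * μ₁ = κ * κ := by
      have hc : Commute κ (d₁ * κ * d₁) := hκI.commute X hO h3 hdκ
      rw [hμ₁, hμ₂, hc.eq, mul_assoc, ← mul_assoc κ κ]
      calc d₁ * κ * d₁ * (κ * κ * (d₁ * κ * d₁)⁻¹) = κ * κ * ((d₁ * κ * d₁) * (d₁ * κ * d₁)⁻¹) := by
            rw [← mul_assoc, (hc.symm.mul_right hc.symm).eq]; group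
        _ = κ * κ := by group
    rw [hppe, hpe, hp'e, hprod] at hqe
    have hκ3 : κ * κ * κ = 1 := by rw [← pow_two, ← pow_succ]; exact hκI.2.2.2.2
    rw [hκ3] at hqe
    have hqa : g * (p * p') * X.a = X.a * (g * (p * p')) := mul_inv_eq_iff_eq_mul.1 (mul_inv_eq_one.1 hqe)
    obtain ⟨ι, w, hι, hqv⟩ := hq.base X hO h3 hqa
    have hqj : Commute (g * (p * p')) j := by
      rw [hqv, hv]
      refine (show Commute ι (X.bel v : G) from hι.comm_bel X v).mul_left ?_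
      exact congrArg (fun r : ↥X.C => (r : G))
        (X.D.commute_odd (r := 3) (x := X.bel v) (d := X.bel w) (by decide) (X.bel_cube v) (by
          rw [X.π_bel, X.π_bel, syl_mul, syl_mul]
          refine congrArg syl ?_
          have key : ∀ p q r p' q' r' : Fin 3,
              sylMul (p, q, r, 0) (p', q', r', 0) = sylMul (p', q', r', 0) (p, q, r, 0) := by decide +kernel
          exact key _ _ _ _ _ _))
    have hppj : Commute (p * p') j := (show Commute p j from hpj).mul_left hp'j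
    have := hqj.mul_left hppj.inv_left
    rw [mul_inv_cancel_right] at this
    exact this.eq
  -- symmetry
  obtain ⟨q, hq⟩ := X.D.lift pC pC_facts.1
  have hqa : q * X.a * q⁻¹ = X.a⁻¹ := X.conj_inv_of_perm X.a_cube (by rw [hq, X.π_a9]; exact pC_facts.2.1)
  have hqb : q * X.b * q⁻¹ = X.b⁻¹ := X.conj_inv_of_perm X.b_cube (by rw [hq, X.π_b]; exact pC_facts.2.2.1)
  have hqc : q * X.c * q⁻¹ = X.c := by
    rw [X.D.commute_odd (r := 3) (by decide) X.c_cube (d := q) (by rw [hq, X.π_c]; exact pC_facts.2.2.2.1),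
      mul_inv_cancel_right]
  have qI' : ∀ ι, X.IsI ι → X.IsI ((q : G) * ι * (q : G)⁻¹) ∧ X.IsI ((q : G)⁻¹ * ι * q) := by
    have hqa' : q⁻¹ * X.a * q = X.a⁻¹ := by
      have e : X.a = (q * X.a * q⁻¹)⁻¹ := by rw [hqa, inv_inv]
      calc q⁻¹ * X.a * q = q⁻¹ * (q * X.a * q⁻¹)⁻¹ * q := by rw [← e]
        _ = X.a⁻¹ := by group
    have hqb' : q⁻¹ * X.b * q = X.b⁻¹ := by
      have e : X.b = (q * X.b * q⁻¹)⁻¹ := by rw [hqb, inv_inv]
      calc q⁻¹ * X.b * q = q⁻¹ * (q * X.b * q⁻¹)⁻¹ * q := by rw [← e]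
        _ = X.b⁻¹ := by group
    have hqc' : q⁻¹ * X.c * q = X.c := by
      conv_lhs => rw [← hqc]
      group
    intro ι hι
    refine ⟨hι.conj X q fun r hr => ?_, ?_⟩
    · simp only [Set.mem_insert_iff, Set.mem_singleton_iff] at hr
      rcases hr with rfl | rfl | rfl
      exacts [⟨X.a, by simp, Or.inr hqa'⟩, ⟨X.b, by simp, Or.inr hqb'⟩, ⟨X.c, by simp, Or.inl hqc'⟩]
    · have := hι.conj X q⁻¹ fun r hr => by
        simp only [Set.mem_insert_iff, Set.mem_singleton_iff] at hr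
        rw [inv_inv]
        rcases hr with rfl | rfl | rfl
        exacts [⟨X.a, by simp, Or.inr hqa⟩, ⟨X.b, by simp, Or.inr hqb⟩, ⟨X.c, by simp, Or.inl hqc⟩]
      rwa [Subgroup.coe_inv, inv_inv] at this
  have gqa : (q : G) * X.a * (q : G)⁻¹ = (X.a : G)⁻¹ := congrArg (fun r : ↥X.C => (r : G)) hqa
  have gqb : (q : G) * X.b * (q : G)⁻¹ = (X.b : G)⁻¹ := congrArg (fun r : ↥X.C => (r : G)) hqb
  have hqM : ∀ g, X.IsM g → X.IsM ((q : G)⁻¹ * g * q) := by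
    intro g hg
    obtain ⟨g1, g2, g3⟩ := hg
    have gqx : (q : G) * x * (q : G)⁻¹ = x⁻¹ := by
      rw [hx, Subgroup.coe_mul, show (q : G) * ((X.a : G) * X.b) * (q : G)⁻¹ =
        ((q : G) * X.a * (q : G)⁻¹) * ((q : G) * X.b * (q : G)⁻¹) by group, gqa, gqb, ← mul_inv_rev,
        show (X.b : G) * X.a = X.a * X.b from congrArg (fun r : ↥X.C => (r : G)) X.comm_abc.1.symm]
    have hc : ∀ r : G, g * ((q : G) * r * (q : G)⁻¹) = ((q : G) * r * (q : G)⁻¹) * g →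
        (q : G)⁻¹ * g * q * r = r * ((q : G)⁻¹ * g * q) := fun r h => by
      calc (q : G)⁻¹ * g * q * r = (q : G)⁻¹ * (g * ((q : G) * r * (q : G)⁻¹)) * q := by group
        _ = (q : G)⁻¹ * (((q : G) * r * (q : G)⁻¹) * g) * q := by rw [h]
        _ = r * ((q : G)⁻¹ * g * q) := by group
    refine ⟨hc x (by rw [gqx]; exact (show Commute g x from g1).inv_right.eq),
      fun ι hι => hc ι (g2 _ (qI' ι hι).1), ?_⟩
    have e : (q : G)⁻¹ * g * q * X.a * ((q : G)⁻¹ * g * q)⁻¹ * (X.a : G)⁻¹ =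
        (q : G)⁻¹ * (g * (X.a : G)⁻¹ * g⁻¹ * X.a) * q := by
      calc (q : G)⁻¹ * g * q * X.a * ((q : G)⁻¹ * g * q)⁻¹ * (X.a : G)⁻¹
          = (q : G)⁻¹ * (g * ((q : G) * X.a * (q : G)⁻¹) * g⁻¹ * ((q : G) * X.a * (q : G)⁻¹)⁻¹) * q := by group
        _ = _ := by rw [gqa, inv_inv]
    rw [e]
    refine (qI' _ ?_).2
    have hc2 : Commute (g * X.a * g⁻¹ * (X.a : G)⁻¹) (X.a : G) := g3.1
    have : g * (X.a : G)⁻¹ * g⁻¹ * X.a = (g * X.a * g⁻¹ * (X.a : G)⁻¹)⁻¹ := by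
      rw [show g * (X.a : G)⁻¹ * g⁻¹ * X.a =
        (X.a : G)⁻¹ * (g * X.a * g⁻¹ * (X.a : G)⁻¹)⁻¹ * X.a by group, ← (hc2.inv_inv).eq]
      group
    rw [this]
    exact g3.mul_inv
  set j' := (q : G) * j * (q : G)⁻¹ with hj'
  have hMj' : ∀ g, X.IsM g → g * j' = j' * g := fun g hg => by
    calc g * j' = (q : G) * ((q : G)⁻¹ * g * q * j) * (q : G)⁻¹ := by rw [hj']; group
      _ = (q : G) * (j * ((q : G)⁻¹ * g * q)) * (q : G)⁻¹ := by rw [hMj _ (hqM g hg)]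
      _ = j' * g := by rw [hj']; group
  -- shape of the element
  obtain ⟨p, r, s⟩ := v
  have hrp : (p : ℕ) = 0 ↔ (r : ℕ) = 0 := by
    have hd1π : X.D.π ⟨d₁, hD1.mem⟩ = pE := by
      rcases hpair with ⟨e1, -⟩ | ⟨e1, -⟩
      · rw [show (⟨d₁, hD1.mem⟩ : ↥X.C) = X.e from Subtype.ext e1, X.π_e]
      · rw [show (⟨d₁, hD1.mem⟩ : ↥X.C) = X.D.z * X.e from Subtype.ext (e1.trans (X.Dz_mul _).symm), map_mul,
          X.D.π_z, one_mul, X.π_e]
    have h : X.D.π ⟨d₁, hD1.mem⟩ * X.D.π (X.bel (p, r, s)) * X.D.π ⟨d₁, hD1.mem⟩ =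
        (X.D.π (X.bel (p, r, s)))⁻¹ := by
      rw [← map_mul, ← map_mul, ← map_inv]
      refine congrArg _ (Subtype.ext ?_)
      show d₁ * (X.bel (p, r, s) : G) * d₁ = (X.bel (p, r, s) : G)⁻¹
      rw [← hv]; exact hjd
    rw [hd1π, X.π_bel] at h
    have key : ∀ p r s : Fin 3, pE * syl (p, r, s, 0) * pE = (syl (p, r, s, 0))⁻¹ → ((p : ℕ) = 0 ↔ (r : ℕ) = 0) := by
      decide +kernel
    exact key p r s h
  have hjv : j = (X.a : G) ^ (p : ℕ) * (X.b : G) ^ (r : ℕ) * (X.c : G) ^ (s : ℕ) := by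
    rw [hv]; simp [bel]
  have cab : Commute (X.a : G) (X.b : G) := congrArg (fun u : ↥X.C => (u : G)) X.comm_abc.1
  have cac : Commute (X.a : G) (X.c : G) := congrArg (fun u : ↥X.C => (u : G)) X.comm_abc.2.1
  have cbc : Commute (X.b : G) (X.c : G) := congrArg (fun u : ↥X.C => (u : G)) X.comm_abc.2.2
  set P := (X.a : G) ^ (p : ℕ) * (X.b : G) ^ (r : ℕ) with hP
  set S := (X.c : G) ^ (s : ℕ) with hS
  have hPS : Commute P S := (cac.pow_pow _ _).mul_left (cbc.pow_pow _ _)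
  have hj'v : j' = P⁻¹ * S := by
    rw [hj', hjv, show (q : G) * (P * S) * (q : G)⁻¹ = ((q : G) * (X.a : G) ^ (p : ℕ) * (q : G)⁻¹) *
      ((q : G) * (X.b : G) ^ (r : ℕ) * (q : G)⁻¹) * ((q : G) * S * (q : G)⁻¹) by rw [hP]; group,
      ← conj_pow, ← conj_pow, gqa, gqb, inv_pow, inv_pow, hP, hS, ← conj_pow,
      show (q : G) * X.c * (q : G)⁻¹ = X.c from congrArg (fun u : ↥X.C => (u : G)) hqc, ← mul_inv_rev,
      (cab.pow_pow (p : ℕ) (r : ℕ)).eq]
  have hPP : ∀ g, X.IsM g → Commute g (P * P) := fun g hg => by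
    have h1 : Commute g (j * j'⁻¹) := (show Commute g j from hMj g hg).mul_right
      (show Commute g j' from hMj' g hg).inv_right
    rwa [hjv, hj'v, mul_inv_rev, inv_inv, show P * S * (S⁻¹ * P) = P * P by group] at h1
  have hSS : ∀ g, X.IsM g → Commute g (S * S) := fun g hg => by
    have h1 : Commute g (j' * j) := (show Commute g j' from hMj' g hg).mul_right
      (show Commute g j from hMj g hg)
    rwa [hjv, hj'v, hPS.eq, show P⁻¹ * S * (S * P) = P⁻¹ * (S * S) * P by group,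
      (hPS.mul_right hPS).inv_left.eq, inv_mul_cancel_right] at h1
  obtain ⟨ι0, hι0, hι01⟩ := X.exists_I_ne hO h3
  by_cases hp0 : (p : ℕ) = 0
  · have hr0 := hrp.1 hp0
    have hs0 : (s : ℕ) ≠ 0 := fun hs0 => hj1 (by rw [hjv, hP, hS, hp0, hr0, hs0]; simp)
    have hc : ∀ g, X.IsM g → Commute g (X.c : G) := fun g hg => by
      have hc3 : (X.c : G) ^ 3 = 1 := congrArg Subtype.val X.c_cube
      have h : Commute g ((S * S) ^ (if (s : ℕ) = 1 then 2 else 1)) := (hSS g hg).pow_right _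
      rw [hS, ← pow_add, ← pow_mul] at h
      rcases (show (s : ℕ) = 1 ∨ (s : ℕ) = 2 by omega) with h' | h' <;> simp only [h'] at h <;> norm_num at h <;>
        rw [pow_succ, hc3, one_mul] at h <;> exact h
    -- the odd core would centralise the product of the last two triples
    have tx : (X.t : G) * x * (X.t : G)⁻¹ = X.b * X.c := by
      rw [hx, Subgroup.coe_mul, show (X.t : G) * ((X.a : G) * X.b) * (X.t : G)⁻¹ =
        ((X.t : G) * X.a * (X.t : G)⁻¹) * ((X.t : G) * X.b * (X.t : G)⁻¹) by group]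
      rfl
    have hall : ∀ h ∈ X.O, h * ((X.b : G) * X.c) = (X.b : G) * X.c * h := by
      intro h hh
      obtain ⟨ι, hι, eι⟩ := X.core_b hO h3 hh
      obtain ⟨g, hg, ge⟩ := X.exists_M hO h3 (hι.conj_t X).2
      set g' := (X.t : G) * g * (X.t : G)⁻¹ with hg'
      have hga : g' * X.a = X.a * g' := by
        rw [show (X.a : G) = (X.t : G) * X.c * (X.t : G)⁻¹ from congrArg (fun u : ↥X.C => (u : G)) X.t_c.symm, hg']
        exact conj_comm _ (hc g hg).eq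
      have hgbc : g' * ((X.b : G) * X.c) = (X.b : G) * X.c * g' := by
        rw [← tx, hg']; exact conj_comm _ hg.1
      have hgb : g' * X.b * g'⁻¹ = X.b * ι := by
        rw [show (X.b : G) = (X.t : G) * X.a * (X.t : G)⁻¹ from rfl, hg',
          show (X.t : G) * g * (X.t : G)⁻¹ * ((X.t : G) * X.a * (X.t : G)⁻¹) * ((X.t : G) * g * (X.t : G)⁻¹)⁻¹ =
          (X.t : G) * (g * X.a * g⁻¹ * (X.a : G)⁻¹) * (X.a : G) * (X.t : G)⁻¹ by group, ge,
          show (X.t : G) * ((X.t : G)⁻¹ * ι * X.t) * X.a * (X.t : G)⁻¹ = ι * ((X.t : G) * X.a * (X.t : G)⁻¹) by group]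
        exact hι.2.1
      set k := h⁻¹ * g' with hk
      have hka : k * X.a = X.a * k :=
        ((show Commute h (X.a : G) from X.mem_Ca.1 (X.O_le hh)).inv_left.mul_left hga).eq
      have hkb : k * X.b = X.b * k := by
        have h1 : h * X.b * h⁻¹ = g' * X.b * g'⁻¹ := eι.trans hgb.symm
        calc k * X.b = h⁻¹ * (g' * X.b * g'⁻¹) * g' := by rw [hk]; group
          _ = h⁻¹ * (h * X.b * h⁻¹) * g' := by rw [h1]
          _ = X.b * k := by rw [hk]; group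
      have hkc := X.centAB_c hO h3 hka hkb
      have hkbc : Commute k ((X.b : G) * X.c) := (show Commute k (X.b : G) from hkb).mul_right hkc
      have h2 : Commute h ((X.b : G) * X.c) := by
        rw [show h = g' * k⁻¹ by rw [hk]; group]
        exact (show Commute g' _ from hgbc).mul_left hkbc.inv_left
      exact h2.eq
    have hu : X.Fix (X.c * X.b) := fun i hi => by
      rw [map_mul, Perm.mul_apply, X.fix_bc.1 i hi, X.fix_bc.2 i hi]
    obtain ⟨h, hh, α, hα, e⟩ := (X.core_comm hO h3 hu (Or.inr (Or.inr (Or.inl rfl)))).2 ι0 hι0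
    rw [Subgroup.coe_mul, ← cbc.eq, hall h hh, mul_inv_cancel_right, mul_assoc, left_eq_mul] at e
    exact hι01 (hι0.eq_one_of_A X (by rw [eq_inv_of_mul_eq_one_left e]; exact inv_mem hα))
  · obtain ⟨g, hg, ge⟩ := X.exists_M hO h3 hι0
    have hr0 : (r : ℕ) ≠ 0 := fun h => hp0 (hrp.2 h)
    refine hι01 ?_
    have hpr : (p : ℕ) ≠ (r : ℕ) := by
      intro hpr
      have h : (X.D.π (X.bel (p, r, s))) = syl (p, r, s, 0) := X.π_bel _
      have hd1π : X.D.π ⟨d₁, hD1.mem⟩ = pE := by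
        rcases hpair with ⟨e1, -⟩ | ⟨e1, -⟩
        · rw [show (⟨d₁, hD1.mem⟩ : ↥X.C) = X.e from Subtype.ext e1, X.π_e]
        · rw [show (⟨d₁, hD1.mem⟩ : ↥X.C) = X.D.z * X.e from Subtype.ext (e1.trans (X.Dz_mul _).symm), map_mul,
            X.D.π_z, one_mul, X.π_e]
      have h' : X.D.π ⟨d₁, hD1.mem⟩ * X.D.π (X.bel (p, r, s)) * X.D.π ⟨d₁, hD1.mem⟩ =
          (X.D.π (X.bel (p, r, s)))⁻¹ := by
        rw [← map_mul, ← map_mul, ← map_inv]
        refine congrArg _ (Subtype.ext ?_)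
        show d₁ * (X.bel (p, r, s) : G) * d₁ = (X.bel (p, r, s) : G)⁻¹
        rw [← hv]; exact hjd
      rw [hd1π, h] at h'
      have key : ∀ p r s : Fin 3, pE * syl (p, r, s, 0) * pE = (syl (p, r, s, 0))⁻¹ → (p : ℕ) = r → (p : ℕ) = 0 := by
        decide +kernel
      exact hp0 (key p r s h' hpr)
    -- it commutes with the first triple
    have hga : Commute g (X.a : G) := by
      have ha3 : (X.a : G) ^ 3 = 1 := X.a_pow_three
      have hb3 : (X.b : G) ^ 3 = 1 := congrArg Subtype.val X.b_cube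
      have h1 : Commute g (P * P) := hPP g hg
      have hgx : Commute g ((X.a : G) * X.b) := hg.1
      rw [hP, (cab.symm.pow_pow (r : ℕ) (p : ℕ)).mul_mul_mul_comm, ← pow_add, ← pow_add] at h1
      rcases (show (p : ℕ) = 1 ∧ (r : ℕ) = 2 ∨ (p : ℕ) = 2 ∧ (r : ℕ) = 1 by omega) with ⟨hp', hr'⟩ | ⟨hp', hr'⟩
      · rw [hp', hr', show (2 + 2) = 3 + 1 from rfl, pow_succ (X.b : G), hb3, one_mul] at h1
        have h2 := h1.mul_right hgx.inv_right
        rw [mul_inv_rev, show (X.a : G) ^ (1 + 1) * X.b * ((X.b : G)⁻¹ * (X.a : G)⁻¹) = X.a by group] at h2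
        exact h2
      · rw [hp', hr', show (2 + 2) = 3 + 1 from rfl, pow_succ (X.a : G), ha3, one_mul] at h1
        have h2 := (hgx.mul_right hgx).mul_right h1.inv_right
        rw [show (X.a : G) * X.b * ((X.a : G) * X.b) = (X.a * X.a) * (X.b * X.b) from cab.symm.mul_mul_mul_comm ..,
          mul_inv_rev, show (X.a : G) * X.a * ((X.b : G) * X.b) * (((X.b : G) ^ (1 + 1))⁻¹ * (X.a : G)⁻¹) = X.a by group]
          at h2
        exact h2
    rw [← ge, hga.eq, mul_inv_cancel_right, mul_inv_cancel]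

end Core

end Ctx

end CfsgLib.Invol.AltDoubleCover
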