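import Cfsg.Agent.Lib.Invol.AltDoubleCover.Regular

/-!
# Permutations of nine points around three disjoint 3-cycles
-/

set_option autoImplicit false
set_option maxRecDepth 100000

namespace CfsgLib.Invol.AltDoubleCover

open Equiv Subgroup

/-- An element inverting the last two triples. -/
def pG : Perm (Fin 9) := swap 3 4 * swap 6 7
/-- An element inverting the first two triples. -/
def pC : Perm (Fin 9) := swap 0 1 * swap 3 4
/-- An involution exchanging the first two triples. -/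
def pE : Perm (Fin 9) := swap 0 3 * swap 1 4 * (swap 2 5 * swap 6 7)
/-- It carries the linear element of order three to the pair of triples. -/
def pσ : Perm (Fin 9) := swap 0 6 * swap 6 3 * swap 3 5 * swap 5 4 * swap 4 2 * swap 2 1

theorem triple_facts : cB = cT * cA * cT⁻¹ ∧ cC = cT * cB * cT⁻¹ ∧ cA = cT * cC * cT⁻¹ ∧ cT ^ 3 = 1 ∧
    Perm.sign cT = 1 :=
  ⟨by decide +kernel, by decide +kernel, by decide +kernel, by decide +kernel, by decide +kernel⟩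

theorem pG_facts : Perm.sign pG = 1 ∧ pG * cA = cA * pG ∧ pG * cB * pG⁻¹ = cB⁻¹ ∧ pG * cC * pG⁻¹ = cC⁻¹ ∧
    pG ≠ 1 ∧ (∀ j : Fin 9, (j : ℕ) < 3 → pG j = j) ∧ ([3, 4, 6, 7] : List (Fin 9)).Nodup :=
  ⟨by decide +kernel, by decide +kernel, by decide +kernel, by decide +kernel, by decide +kernel, by decide +kernel,
    by decide +kernel⟩

theorem pC_facts : Perm.sign pC = 1 ∧ pC * cA * pC⁻¹ = cA⁻¹ ∧ pC * cB * pC⁻¹ = cB⁻¹ ∧ pC * cC = cC * pC ∧
    pC * pE = pE * pC ∧ pG * pE * pG⁻¹ * pE = pC :=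
  ⟨by decide +kernel, by decide +kernel, by decide +kernel, by decide +kernel, by decide +kernel, by decide +kernel⟩

theorem pE_facts : Perm.sign pE = 1 ∧ pE * pE = 1 ∧ pE.support.card = 8 ∧ pE * cA * pE⁻¹ = cB ∧
    pE * cB * pE⁻¹ = cA ∧ pE * cC * pE⁻¹ = cC⁻¹ :=
  ⟨by decide +kernel, by decide +kernel, by decide +kernel, by decide +kernel, by decide +kernel, by decide +kernel⟩

theorem agree_eq {μ ρ : Perm (Fin 9)} (k : Fin 9) (h : ∀ i, i ≠ k → μ i = ρ i) : μ = ρ := by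
  by_contra hne
  set g := μ⁻¹ * ρ with hg'
  have hg : g ≠ 1 := fun e => hne (inv_mul_eq_one.1 e)
  have hsub : g.support ⊆ {k} := fun i hi => Finset.mem_singleton.2 (by_contra fun hik =>
    Perm.mem_support.1 hi (by rw [hg', Perm.mul_apply, ← h i hik, Perm.inv_def, Equiv.symm_apply_apply]))
  have h1 := Finset.card_le_card hsub
  rw [Finset.card_singleton] at h1
  exact absurd (Perm.one_lt_card_support_of_ne_one hg) (by omega)

/-- An even permutation centralising two of the triples lies in their base. -/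
theorem base_cent {ν : Perm (Fin 9)} (hs : Perm.sign ν = 1) (hA : ν * cA = cA * ν) (hB : ν * cB = cB * ν) :
    ∃ v : Fin 3 × Fin 3 × Fin 3, ν = syl (v.1, v.2.1, v.2.2, 0) := by
  have mv : ∀ (σ : Perm (Fin 9)), ν * σ = σ * ν → ∀ i, σ i ≠ i → σ (ν i) ≠ ν i := fun σ h i hi e => hi (by
    have h' := congrArg (fun g : Perm (Fin 9) => g i) h
    simp only [Perm.mul_apply] at h'
    exact ν.injective (h'.trans e))
  have mA : ∀ i : Fin 9, cA i ≠ i ↔ (i : ℕ) < 3 := by decide +kernel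
  have mB : ∀ i : Fin 9, cB i ≠ i ↔ 3 ≤ (i : ℕ) ∧ (i : ℕ) < 6 := by decide +kernel
  have h0 : (ν 0 : ℕ) < 3 := (mA _).1 (mv _ hA 0 ((mA _).2 (by decide)))
  have h3 := (mB _).1 (mv _ hB 3 ((mB _).2 (by decide)))
  have k0 : ∀ p : Fin 9, (p : ℕ) < 3 → ∃ i : Fin 3, (cA ^ (i : ℕ)) 0 = p := by decide +kernel
  have k3 : ∀ p : Fin 9, 3 ≤ (p : ℕ) ∧ (p : ℕ) < 6 → ∃ i : Fin 3, (cB ^ (i : ℕ)) 3 = p := by decide +kernel
  obtain ⟨i, hi⟩ := k0 _ h0
  obtain ⟨j, hj⟩ := k3 _ h3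
  have cA' : ∀ k, cA (ν k) = ν (cA k) := fun k => (congrArg (fun g : Perm (Fin 9) => g k) hA).symm
  have cB' : ∀ k, cB (ν k) = ν (cB k) := fun k => (congrArg (fun g : Perm (Fin 9) => g k) hB).symm
  have sA : ∀ i : Fin 3, ∀ k : Fin 9, cA ((cA ^ (i : ℕ)) k) = (cA ^ (i : ℕ)) (cA k) := by decide +kernel
  have sB : ∀ i : Fin 3, ∀ k : Fin 9, cB ((cB ^ (i : ℕ)) k) = (cB ^ (i : ℕ)) (cB k) := by decide +kernel
  have hv1 : ν (cA 0) = (cA ^ (i : ℕ)) (cA 0) := by rw [← cA', ← hi, sA]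
  have hv2 : ν (cA (cA 0)) = (cA ^ (i : ℕ)) (cA (cA 0)) := by rw [← cA', hv1, sA]
  have hw1 : ν (cB 3) = (cB ^ (j : ℕ)) (cB 3) := by rw [← cB', ← hj, sB]
  have hw2 : ν (cB (cB 3)) = (cB ^ (j : ℕ)) (cB (cB 3)) := by rw [← cB', hw1, sB]
  have hge : ∀ k : Fin 9, 6 ≤ (k : ℕ) → 6 ≤ (ν k : ℕ) := fun k hk => by
    by_contra hlt
    by_cases h : (ν k : ℕ) < 3
    · have := (mA (ν k)).2 h
      rw [cA'] at this
      exact this (congrArg ν (show cA k = k from by_contra fun hne => by have := (mA k).1 hne; omega))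
    · have := (mB (ν k)).2 ⟨by omega, by omega⟩
      rw [cB'] at this
      exact this (congrArg ν (show cB k = k from by_contra fun hne => by have := (mB k).1 hne; omega))
  have key : ∀ p q : Fin 9, 6 ≤ (p : ℕ) → 6 ≤ (q : ℕ) → p ≠ q →
      (∃ k : Fin 3, (cC ^ (k : ℕ)) 6 = p ∧ (cC ^ (k : ℕ)) 7 = q) ∨
      ∃ k : Fin 3, (swap (6 : Fin 9) 7 * cC ^ (k : ℕ)) 6 = p ∧ (swap (6 : Fin 9) 7 * cC ^ (k : ℕ)) 7 = q := by decide +kernel
  have hcase : ∀ ρ : Perm (Fin 9), (∀ l : Fin 9, (l : ℕ) < 6 → ρ l = l) →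
      ρ 6 = ν 6 → ρ 7 = ν 7 → ν = cA ^ (i : ℕ) * cB ^ (j : ℕ) * ρ := by
    intro ρ hρ h6 h7
    refine agree_eq 8 fun l hl => ?_
    have e1 : ∀ l : Fin 9, 3 ≤ (l : ℕ) → (cA ^ (i : ℕ)) l = l := fun l hl =>
      Perm.pow_apply_eq_self_of_apply_eq_self (by_contra fun h => by have := (mA l).1 h; omega) _
    have e2 : ∀ l : Fin 9, ¬(3 ≤ (l : ℕ) ∧ (l : ℕ) < 6) → (cB ^ (j : ℕ)) l = l := fun l hl =>
      Perm.pow_apply_eq_self_of_apply_eq_self (by_contra fun h => hl ((mB l).1 h)) _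
    rw [Perm.mul_apply, Perm.mul_apply]
    have cases9 : ∀ l : Fin 9, l = 0 ∨ l = cA 0 ∨ l = cA (cA 0) ∨ l = 3 ∨ l = cB 3 ∨ l = cB (cB 3) ∨ l = 6 ∨
        l = 7 ∨ l = 8 := by decide +kernel
    have n1 : (cA 0 : ℕ) < 3 ∧ (cA (cA 0) : ℕ) < 3 ∧ (3 ≤ (cB 3 : ℕ) ∧ (cB 3 : ℕ) < 6) ∧
        (3 ≤ (cB (cB 3) : ℕ) ∧ (cB (cB 3) : ℕ) < 6) := by decide +kernel
    obtain ⟨a1, a2, ⟨b1, b1'⟩, ⟨b2, b2'⟩⟩ := n1
    have memB : ∀ l : Fin 9, 3 ≤ (l : ℕ) → (l : ℕ) < 6 → 3 ≤ ((cB ^ (j : ℕ)) l : ℕ) := fun l h h' => by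
      have k : ∀ j : Fin 3, ∀ l : Fin 9, 3 ≤ (l : ℕ) → (l : ℕ) < 6 → 3 ≤ ((cB ^ (j : ℕ)) l : ℕ) := by
        decide +kernel
      exact k j l h h'
    rcases cases9 l with rfl | rfl | rfl | rfl | rfl | rfl | rfl | rfl | rfl
    · rw [hρ _ (by decide), e2 _ (by decide), hi]
    · rw [hρ _ (by omega), e2 _ (by omega), hv1]
    · rw [hρ _ (by omega), e2 _ (by omega), hv2]
    · rw [hρ _ (by decide), e1 _ (memB _ (by decide) (by decide)), hj]
    · rw [hρ _ b1', e1 _ (memB _ b1 b1'), hw1]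
    · rw [hρ _ b2', e1 _ (memB _ b2 b2'), hw2]
    · have := hge 6 (by decide)
      rw [h6, e2 _ (by omega), e1 _ (by omega)]
    · have := hge 7 (by decide)
      rw [h7, e2 _ (by omega), e1 _ (by omega)]
    · exact absurd rfl hl
  rcases key (ν 6) (ν 7) (hge 6 (by decide)) (hge 7 (by decide)) (ν.injective.ne (by decide)) with
    ⟨k, q1, q2⟩ | ⟨k, q1, q2⟩
  · have := hcase _ (fun l hl => by
      have kk : ∀ k : Fin 3, ∀ l : Fin 9, (l : ℕ) < 6 → (cC ^ (k : ℕ)) l = l := by decide +kernel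
      exact kk k l hl) q1 q2
    refine ⟨(i, j, k), ?_⟩
    rw [this, syl]; simp
  · exfalso
    have := hcase _ (fun l hl => by
      have kk : ∀ k : Fin 3, ∀ l : Fin 9, (l : ℕ) < 6 → (swap (6 : Fin 9) 7 * cC ^ (k : ℕ)) l = l := by decide +kernel
      exact kk k l hl) q1 q2
    rw [this] at hs
    have kk : ∀ i j k : Fin 3, Perm.sign (cA ^ (i : ℕ) * cB ^ (j : ℕ) * (swap (6 : Fin 9) 7 * cC ^ (k : ℕ))) = -1 := by
      decide +kernel
    rw [kk] at hs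
    exact absurd hs (by decide)

/-- A 3-element centralising the product of two triples centralises both. -/
theorem pair_cent {ν : Perm (Fin 9)} (h9 : ν ^ 9 = 1) (hc : ν * (cA * cB) = cA * cB * ν) :
    ν * cA = cA * ν ∧ ν * cB = cB * ν := by
  have m6 : ∀ i : Fin 9, (cA * cB) i ≠ i ↔ (i : ℕ) < 6 := by decide +kernel
  have h6 : ∀ i : Fin 9, (ν i : ℕ) < 6 ↔ (i : ℕ) < 6 := fun i => by
    rw [← m6, ← m6, show (cA * cB) (ν i) = ν ((cA * cB) i) from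
      (congrArg (fun g : Perm (Fin 9) => g i) hc).symm]
    exact ν.injective.ne_iff
  have orb : ∀ i j : Fin 9, (i : ℕ) < 6 → (j : ℕ) < 6 → ((i : ℕ) < 3 ↔ (j : ℕ) < 3) →
      ∃ k : Fin 3, ((cA * cB) ^ (k : ℕ)) i = j := by decide +kernel
  have side : ∀ k : Fin 3, ∀ i : Fin 9, ((((cA * cB) ^ (k : ℕ)) i : ℕ) < 3 ↔ (i : ℕ) < 3) := by decide +kernel
  have hpow : ∀ (k : ℕ) (i : Fin 9), ν (((cA * cB) ^ k) i) = ((cA * cB) ^ k) (ν i) := fun k i =>
    congrArg (fun g : Perm (Fin 9) => g i) ((show Commute ν (cA * cB) from hc).pow_right k).eq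
  have hsame : ∀ i j : Fin 9, (i : ℕ) < 6 → (j : ℕ) < 6 →
      (((ν i : ℕ) < 3 ↔ (ν j : ℕ) < 3) ↔ ((i : ℕ) < 3 ↔ (j : ℕ) < 3)) := fun i j hi hj => by
    constructor
    · intro h
      obtain ⟨k, hk⟩ := orb _ _ ((h6 i).2 hi) ((h6 j).2 hj) h
      rw [← hpow] at hk
      rw [← ν.injective hk, side]
    · intro h
      obtain ⟨k, hk⟩ := orb i j hi hj h
      rw [← hk, hpow, side]
  have h0 : (ν 0 : ℕ) < 3 := by
    by_contra hne
    have hflip : ∀ i : Fin 9, (i : ℕ) < 6 → ((ν i : ℕ) < 3 ↔ ¬(i : ℕ) < 3) := fun i hi => by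
      have := hsame 0 i (by decide) hi
      simp only [Fin.val_zero, Nat.ofNat_pos, true_iff] at this
      tauto
    have hit : ∀ k : ℕ, (((ν ^ k) 0 : Fin 9) : ℕ) < 6 ∧ ((((ν ^ k) 0 : Fin 9) : ℕ) < 3 ↔ Even k) := by
      intro k
      induction k with
      | zero => simp
      | succ k ih =>
        rw [pow_succ', Perm.mul_apply]
        refine ⟨(h6 _).2 ih.1, ?_⟩
        rw [hflip _ ih.1, ih.2, Nat.even_add_one]
    have := (hit 9).2
    rw [h9] at this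
    simp at this
    exact absurd this (by decide)
  have hkeep : ∀ i : Fin 9, (ν i : ℕ) < 3 ↔ (i : ℕ) < 3 := fun i => by
    by_cases hi : (i : ℕ) < 6
    · have := hsame 0 i (by decide) hi
      simp only [Fin.val_zero, Nat.ofNat_pos, true_iff] at this
      tauto
    · have := h6 i
      omega
  have hA : ν * cA = cA * ν := Equiv.ext fun i => by
    rw [Perm.mul_apply, Perm.mul_apply]
    have lo : ∀ i : Fin 9, (i : ℕ) < 3 → cA i = (cA * cB) i := by decide +kernel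
    have hi' : ∀ i : Fin 9, ¬(i : ℕ) < 3 → cA i = i := by decide +kernel
    by_cases hi : (i : ℕ) < 3
    · rw [lo i hi, lo _ ((hkeep i).2 hi)]
      exact congrArg (fun g : Perm (Fin 9) => g i) hc
    · rw [hi' i hi, hi' _ fun h => hi ((hkeep i).1 h)]
  refine ⟨hA, ?_⟩
  calc ν * cB = ν * (cA⁻¹ * (cA * cB)) := by group
    _ = (ν * cA⁻¹) * (cA * cB) := by group
    _ = cA⁻¹ * (ν * (cA * cB)) := by rw [(show Commute ν cA from hA).inv_right.eq, mul_assoc]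
    _ = cB * ν := by rw [hc]; group

theorem pσ_facts : Perm.sign pσ = 1 ∧ pσ * l3 * pσ⁻¹ = cA * cB ∧ pσ * tr 7 * pσ⁻¹ = pE :=
  ⟨by decide +kernel, by decide +kernel, by decide +kernel⟩

end CfsgLib.Invol.AltDoubleCover
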