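import Mathlib

/-!
# Permutation facts in degree nine and ten: a Sylow 3-subgroup and involutions inverting 3-subgroups
-/

set_option autoImplicit false
set_option maxRecDepth 100000

namespace CfsgLib.Invol.AltDoubleCover

open Equiv Subgroup

section Emb

variable {n : ℕ}

/-- A permutation of nine points as a permutation of `n ≥ 9` points. -/
def emb (h : 9 ≤ n) : Perm (Fin 9) →* Perm (Fin n) where
  toFun σ :=
    { toFun := fun x => if hx : (x : ℕ) < 9 then Fin.castLE h (σ ⟨x, hx⟩) else x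
      invFun := fun x => if hx : (x : ℕ) < 9 then Fin.castLE h (σ.symm ⟨x, hx⟩) else x
      left_inv := fun x => by
        dsimp only
        by_cases hx : (x : ℕ) < 9
        · rw [dif_pos hx, dif_pos (by simp)]
          refine Fin.ext ?_
          simp
        · rw [dif_neg hx, dif_neg hx]
      right_inv := fun x => by
        dsimp only
        by_cases hx : (x : ℕ) < 9
        · rw [dif_pos hx, dif_pos (by simp)]
          refine Fin.ext ?_
          simp
        · rw [dif_neg hx, dif_neg hx] }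
  map_one' := by
    ext x
    by_cases hx : (x : ℕ) < 9 <;> simp [hx]
  map_mul' σ τ := by
    ext x
    by_cases hx : (x : ℕ) < 9 <;> simp [hx]

theorem emb_apply_lt (h : 9 ≤ n) (σ : Perm (Fin 9)) (i : Fin 9) : emb h σ (Fin.castLE h i) = Fin.castLE h (σ i) := by
  simp [emb]

theorem emb_apply_ge (h : 9 ≤ n) (σ : Perm (Fin 9)) {x : Fin n} (hx : 9 ≤ (x : ℕ)) : emb h σ x = x := by
  simp [emb, show ¬(x : ℕ) < 9 by omega]

theorem emb_injective (h : 9 ≤ n) : Function.Injective (emb h) := fun σ τ e => Perm.ext fun i =>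
  Fin.castLE_injective h (by rw [← emb_apply_lt h σ i, e, emb_apply_lt])

theorem emb_swap (h : 9 ≤ n) (i j : Fin 9) : emb h (swap i j) = swap (Fin.castLE h i) (Fin.castLE h j) := by
  ext x
  by_cases hx : (x : ℕ) < 9
  · obtain ⟨y, rfl⟩ : ∃ y : Fin 9, x = Fin.castLE h y := ⟨⟨x, hx⟩, Fin.ext rfl⟩
    rw [emb_apply_lt, (Fin.castLE_injective h).swap_apply]
  · rw [emb_apply_ge h _ (by omega), swap_apply_of_ne_of_ne]
    · exact fun e => hx (by rw [e]; simp)
    · exact fun e => hx (by rw [e]; simp)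

theorem sign_emb (h : 9 ≤ n) (σ : Perm (Fin 9)) : Perm.sign (emb h σ) = Perm.sign σ := by
  induction σ using Perm.swap_induction_on with
  | one => rw [map_one, map_one, map_one]
  | swap_mul f x y hxy ih =>
    rw [map_mul, map_mul, map_mul, ih, emb_swap, Perm.sign_swap hxy,
      Perm.sign_swap ((Fin.castLE_injective h).ne hxy)]

theorem card_support_emb (h : 9 ≤ n) (σ : Perm (Fin 9)) : (emb h σ).support.card = σ.support.card := by
  rw [← Finset.card_map ⟨Fin.castLE h, Fin.castLE_injective h⟩]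
  congr 1
  ext x
  simp only [Perm.mem_support, Finset.mem_map, Function.Embedding.coeFn_mk]
  constructor
  · intro hx
    have hlt : (x : ℕ) < 9 := by
      by_contra hh; exact hx (emb_apply_ge h σ (by omega))
    refine ⟨⟨x, hlt⟩, fun e => hx ?_, Fin.ext rfl⟩
    obtain ⟨y, rfl⟩ : ∃ y : Fin 9, x = Fin.castLE h y := ⟨⟨x, hlt⟩, Fin.ext rfl⟩
    rw [emb_apply_lt]; exact congrArg _ e
  · rintro ⟨y, hy, rfl⟩ e
    rw [emb_apply_lt] at e
    exact hy (Fin.castLE_injective h e)

end Emb

/-- The first triple. -/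
def cA : Perm (Fin 9) := swap 0 1 * swap 1 2
/-- The second triple. -/
def cB : Perm (Fin 9) := swap 3 4 * swap 4 5
/-- The third triple. -/
def cC : Perm (Fin 9) := swap 6 7 * swap 7 8
/-- The cycle on the triples. -/
def cT : Perm (Fin 9) := swap 0 3 * swap 3 6 * (swap 1 4 * swap 4 7) * (swap 2 5 * swap 5 8)
/-- An involution inverting the first triple. -/
def pW : Perm (Fin 9) := swap 0 1 * swap 3 4 * (swap 5 6 * swap 7 8)
/-- A double transposition away from the first triple. -/
def pS : Perm (Fin 9) := swap 3 5 * swap 4 6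

/-- The elements of a Sylow 3-subgroup. -/
def syl (v : Fin 3 × Fin 3 × Fin 3 × Fin 3) : Perm (Fin 9) :=
  cA ^ (v.1 : ℕ) * cB ^ (v.2.1 : ℕ) * cC ^ (v.2.2.1 : ℕ) * cT ^ (v.2.2.2 : ℕ)

/-- Their multiplication. -/
def sylMul (v w : Fin 3 × Fin 3 × Fin 3 × Fin 3) : Fin 3 × Fin 3 × Fin 3 × Fin 3 :=
  if v.2.2.2 = 0 then (v.1 + w.1, v.2.1 + w.2.1, v.2.2.1 + w.2.2.1, v.2.2.2 + w.2.2.2)
  else if v.2.2.2 = 1 then (v.1 + w.2.2.1, v.2.1 + w.1, v.2.2.1 + w.2.1, v.2.2.2 + w.2.2.2)
  else (v.1 + w.2.1, v.2.1 + w.2.2.1, v.2.2.1 + w.1, v.2.2.2 + w.2.2.2)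

/-- The elements as functions. -/
def sylFun (v : Fin 3 × Fin 3 × Fin 3 × Fin 3) (x : Fin 9) : Fin 9 :=
  let b := ((x : ℕ) / 3 + v.2.2.2) % 3
  let e : ℕ := if b = 0 then v.1 else if b = 1 then v.2.1 else v.2.2.1
  ⟨3 * b + ((x : ℕ) % 3 + e) % 3, by omega⟩

theorem syl_apply : ∀ v x, syl v x = sylFun v x := by decide +kernel

theorem sylFun_mul : ∀ v w x, sylFun v (sylFun w x) = sylFun (sylMul v w) x := by decide +kernel

theorem syl_mul (v w : Fin 3 × Fin 3 × Fin 3 × Fin 3) : syl v * syl w = syl (sylMul v w) := Perm.ext fun x => by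
  rw [Perm.mul_apply, syl_apply, syl_apply, syl_apply, sylFun_mul]

/-- Recover an element from its values on one point of each triple. -/
def sylDecode (p q r : Fin 9) : Fin 3 × Fin 3 × Fin 3 × Fin 3 :=
  let d : ℕ := (p : ℕ) / 3
  let e := [(p : ℕ) % 3, (q : ℕ) % 3, (r : ℕ) % 3]
  (⟨e.getD ((3 - d) % 3) 0 % 3, Nat.mod_lt _ (by omega)⟩, ⟨e.getD ((4 - d) % 3) 0 % 3, Nat.mod_lt _ (by omega)⟩,
    ⟨e.getD ((5 - d) % 3) 0 % 3, Nat.mod_lt _ (by omega)⟩, ⟨d % 3, Nat.mod_lt _ (by omega)⟩)

theorem sylDecode_spec : ∀ v, sylDecode (sylFun v 0) (sylFun v 3) (sylFun v 6) = v := by decide +kernel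

theorem syl_injective : Function.Injective syl := fun v w e => by
  rw [← sylDecode_spec v, ← sylDecode_spec w, ← syl_apply, ← syl_apply, ← syl_apply, e, syl_apply, syl_apply, syl_apply]

/-- An inverse. -/
theorem sylMul_inv : ∀ v, ∃ u, sylMul v u = (0, 0, 0, 0) := by decide +kernel

theorem syl_one : syl (0, 0, 0, 0) = 1 := by decide +kernel

theorem syl_sign : ∀ v, Perm.sign (syl v) = 1 := by decide +kernel

/-- The commuting elements: outside the base there are at most nine. -/
theorem syl_comm_count : ∀ v : Fin 3 × Fin 3 × Fin 3 × Fin 3, v.2.2.2 ≠ 0 →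
    (Finset.univ.filter fun w => sylMul v w = sylMul w v).card ≤ 9 := by decide +kernel

/-- The number of moved points. -/
def moved (v : Fin 3 × Fin 3 × Fin 3 × Fin 3) : ℕ := (List.finRange 9).countP fun x => sylFun v x != x

theorem moved_eq : ∀ v, (syl v).support.card = moved v := by decide +kernel

theorem no_six_bool : ∀ v : Fin 3 × Fin 3 × Fin 3 × Fin 3, ((List.finRange 3).all fun a => (List.finRange 3).all fun b =>
    (List.finRange 3).all fun c => (List.finRange 3).all fun d =>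
      !(sylMul v (a, b, c, d) == sylMul (a, b, c, d) v && moved v == 6 && moved (a, b, c, d) == 6 &&
        moved (sylMul v (a, b, c, d)) == 6 && moved (sylMul v (sylMul (a, b, c, d) (a, b, c, d))) == 6)) = true := by
  decide +kernel

/-- No subgroup of order nine has all its elements of order three moving six points. -/
theorem syl_no_six (v w : Fin 3 × Fin 3 × Fin 3 × Fin 3) (h : sylMul v w = sylMul w v)
    (h1 : (syl v).support.card = 6) (h2 : (syl w).support.card = 6) (h3 : (syl (sylMul v w)).support.card = 6)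
    (h4 : (syl (sylMul v (sylMul w w))).support.card = 6) : False := by
  obtain ⟨a, b, c, d⟩ := w
  rw [moved_eq] at h1 h2 h3 h4
  have := no_six_bool v
  simp only [List.all_eq_true, List.mem_finRange, true_implies] at this
  have h5 := this a b c d
  simp [h1, h2, h3, h4, h] at h5
  exact h5 (h ▸ h3)

/-- The support of a nontrivial element is 3, 6 or 9. -/
theorem moved_cases : ∀ v, v = (0, 0, 0, 0) ∨ moved v = 3 ∨ moved v = 6 ∨ moved v = 9 := by decide +kernel

theorem syl_support (v : Fin 3 × Fin 3 × Fin 3 × Fin 3) : syl v = 1 ∨ (syl v).support.card = 3 ∨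
    (syl v).support.card = 6 ∨ (syl v).support.card = 9 := by
  rw [moved_eq]
  exact (moved_cases v).imp_left fun h => by rw [h]; exact syl_one

section Subgroups

variable {n : ℕ}

/-- The Sylow subgroup. -/
def sylGrp (h : 9 ≤ n) : Subgroup (Perm (Fin n)) where
  carrier := Set.range fun v => emb h (syl v)
  one_mem' := ⟨_, (congrArg (emb h) syl_one).trans (map_one _)⟩
  mul_mem' := by
    rintro _ _ ⟨v, rfl⟩ ⟨w, rfl⟩
    exact ⟨sylMul v w, by simp only [← map_mul, syl_mul]⟩
  inv_mem' := by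
    rintro _ ⟨v, rfl⟩
    obtain ⟨u, hu⟩ := sylMul_inv v
    refine ⟨u, (inv_eq_of_mul_eq_one_right ?_).symm⟩
    rw [← map_mul, syl_mul, hu, syl_one, map_one]

theorem mem_sylGrp {h : 9 ≤ n} {x : Perm (Fin n)} : x ∈ sylGrp h ↔ ∃ v, emb h (syl v) = x := Iff.rfl

theorem card_sylGrp (h : 9 ≤ n) : Nat.card (sylGrp h) = 81 := by
  have e : Nat.card (sylGrp h) = Nat.card (Fin 3 × Fin 3 × Fin 3 × Fin 3) := by
    refine (Nat.card_congr (Equiv.ofBijective (fun v => (⟨emb h (syl v), v, rfl⟩ : sylGrp h)) ⟨?_, ?_⟩)).symm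
    · intro v w e
      exact syl_injective (emb_injective h (congrArg Subtype.val e))
    · rintro ⟨x, v, rfl⟩; exact ⟨v, rfl⟩
  rw [e, Nat.card_eq_fintype_card]; rfl

/-- Every 3-subgroup has a conjugate inside. -/
theorem exists_conj_into (h : 9 ≤ n) (h10 : n ≤ 10) (W : Subgroup (Perm (Fin n))) (hW : IsPGroup 3 W) :
    ∃ g : Perm (Fin n), ∀ x ∈ W, g * x * g⁻¹ ∈ sylGrp h := by
  haveI : Fact (Nat.Prime 3) := ⟨Nat.prime_three⟩
  have hfac : (Nat.card (Perm (Fin n))).factorization 3 = 4 := by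
    rw [Nat.card_perm, Nat.card_fin]
    interval_cases n
    · rw [show Nat.factorial 9 = 3 ^ 4 * 4480 by rfl, Nat.factorization_mul (by norm_num) (by norm_num),
        Finsupp.add_apply, Nat.Prime.factorization_pow Nat.prime_three, Finsupp.single_eq_same,
        Nat.factorization_eq_zero_of_not_dvd (by norm_num)]
    · rw [show Nat.factorial 10 = 3 ^ 4 * 44800 by rfl, Nat.factorization_mul (by norm_num) (by norm_num),
        Finsupp.add_apply, Nat.Prime.factorization_pow Nat.prime_three, Finsupp.single_eq_same,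
        Nat.factorization_eq_zero_of_not_dvd (by norm_num)]
  let S : Sylow 3 (Perm (Fin n)) := Sylow.ofCard (sylGrp h) (by rw [card_sylGrp, hfac]; norm_num)
  obtain ⟨T, hT⟩ := hW.exists_le_sylow
  obtain ⟨g, hg⟩ := MulAction.exists_smul_eq (Perm (Fin n)) T S
  have hg' : (T : Subgroup (Perm (Fin n))).map (MulAut.conj g).toMonoidHom = sylGrp h := congrArg Sylow.toSubgroup hg
  exact ⟨g, fun x hx => hg' ▸ ⟨x, hT hx, rfl⟩⟩

/-- An abelian subgroup of order at least 27 of the Sylow subgroup is the base. -/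
theorem abelian_large (h : 9 ≤ n) (W : Subgroup (Perm (Fin n))) (hW : W ≤ sylGrp h)
    (hab : ∀ x ∈ W, ∀ y ∈ W, x * y = y * x) (hc : 10 ≤ Nat.card W) :
    ∀ x ∈ W, ∃ a b c : Fin 3, x = emb h (syl (a, b, c, 0)) := by
  classical
  intro x hx
  obtain ⟨⟨a, b, c, d⟩, rfl⟩ := hW hx
  by_cases hd : d = 0
  · exact ⟨a, b, c, hd ▸ rfl⟩
  exfalso
  have hcnt := syl_comm_count (a, b, c, d) hd
  have hchoose : ∀ y : W, ∃ w, emb h (syl w) = (y : Perm (Fin n)) := fun y => hW y.2
  choose f hf using hchoose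
  have key : ∀ v w, syl v = syl w → v = w := fun v w e => syl_injective e
  have : Nat.card W ≤ (Finset.univ.filter fun w => sylMul (a, b, c, d) w = sylMul w (a, b, c, d)).card := by
    rw [← Fintype.card_coe, ← Nat.card_eq_fintype_card]
    refine Nat.card_le_card_of_injective (fun y => (⟨f y, Finset.mem_filter.2 ⟨Finset.mem_univ _, key _ _ ?_⟩⟩ :
      {w // w ∈ Finset.univ.filter fun w => sylMul (a, b, c, d) w = sylMul w (a, b, c, d)})) ?_
    · refine emb_injective h ?_
      rw [← syl_mul, ← syl_mul, map_mul, map_mul, hf, hab _ hx _ y.2]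
    · intro y y' e
      exact Subtype.ext (by rw [← hf y, ← hf y', show f y = f y' from congrArg Subtype.val e])
  omega

end Subgroups

/-- A point is fixed by an involution commuting with `τ` if it is sent into its own orbit of length three. -/
theorem fixed_of_orbit {α : Type*} {σ τ : Perm α} (hσ : σ * σ = 1) (hc : σ * τ = τ * σ) {x : α}
    (h3 : τ (τ (τ x)) = x) (h : σ x = x ∨ σ x = τ x ∨ σ x = τ (τ x)) : σ x = x := by
  have hc' : ∀ y, σ (τ y) = τ (σ y) := fun y => by
    rw [← Perm.mul_apply, hc, Perm.mul_apply]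
  have hs : σ (σ x) = x := by rw [← Perm.mul_apply, hσ]; rfl
  rcases h with h | h | h
  · exact h
  · rw [h, hc', h] at hs; rw [h]
    calc τ x = τ (τ (τ x)) := by rw [hs]
      _ = x := h3
  · have hs' := hs
    rw [h, hc', hc', h] at hs
    have h1 : τ x = x := by
      calc τ x = τ (τ (τ (τ x))) := by rw [h3]
        _ = x := hs
    rw [h, h1, h1]

/-- An involution inverting a 3-cycle on its three points fixes one of them. -/
theorem fixed_of_inverted {α : Type*} [DecidableEq α] {σ : Perm α} {x y w : α} (hσ : σ * σ = 1) (hxy : x ≠ y)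
    (hxw : x ≠ w) (hyw : y ≠ w) (hc : σ * (swap x y * swap y w) * σ⁻¹ = (swap x y * swap y w)⁻¹) :
    σ x = x ∨ σ y = y ∨ σ w = w := by
  set τ := swap x y * swap y w with hτ
  have hτinv : ∀ v, v ≠ x → v ≠ y → v ≠ w → τ⁻¹ v = v := fun v v1 v2 v3 => by
    refine Perm.inv_eq_iff_eq.2 ?_
    rw [hτ, Perm.mul_apply, swap_apply_of_ne_of_ne v2 v3, swap_apply_of_ne_of_ne v1 v2]
  have hset : ∀ u, u = x ∨ u = y ∨ u = w → σ u = x ∨ σ u = y ∨ σ u = w := by
    intro u hu
    by_contra hcon
    simp only [not_or] at hcon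
    have h1 := congrArg (fun g : Perm α => g (σ u)) hc
    simp only [Perm.mul_apply] at h1
    rw [hτinv _ hcon.1 hcon.2.1 hcon.2.2, Perm.inv_def, Equiv.symm_apply_apply] at h1
    have h2 := σ.injective h1
    rcases hu with rfl | rfl | rfl <;>
      simp [hτ, swap_apply_of_ne_of_ne, hxy, hxw, hyw, hxy.symm, hxw.symm, hyw.symm] at h2
  have hs : ∀ u, σ (σ u) = u := fun u => by rw [← Perm.mul_apply, hσ]; rfl
  rcases hset x (Or.inl rfl) with h | h | h
  · exact Or.inl h
  · refine Or.inr (Or.inr ?_)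
    rcases hset w (Or.inr (Or.inr rfl)) with h' | h' | h'
    · exact absurd (by rw [← hs w, h', h]) hyw.symm
    · exact absurd (σ.injective (h'.trans h.symm)) hxw.symm
    · exact h'
  · refine Or.inr (Or.inl ?_)
    rcases hset y (Or.inr (Or.inl rfl)) with h' | h' | h'
    · exact absurd (by rw [← hs y, h', h]) hyw
    · exact h'
    · exact absurd (σ.injective (h'.trans h.symm)) hxy.symm

/-- A commutative 3-group of permutations inverted by an involution moving eight points has order at most nine. -/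
theorem inverted_card_le {n : ℕ} (h : 9 ≤ n) (h10 : n ≤ 10) (W : Subgroup (Perm (Fin n))) (hW : IsPGroup 3 W)
    (hab : ∀ x ∈ W, ∀ y ∈ W, x * y = y * x) (σ : Perm (Fin n)) (hσ : σ * σ = 1) (h8 : σ.support.card = 8)
    (hinv : ∀ x ∈ W, σ * x * σ⁻¹ = x⁻¹) : Nat.card W ≤ 9 := by
  classical
  by_contra hlt
  obtain ⟨g, hg⟩ := exists_conj_into h h10 W hW
  let W' := W.map (MulAut.conj g).toMonoidHom
  have hW' : W' ≤ sylGrp h := by rintro _ ⟨x, hx, rfl⟩; exact hg x hx
  have hab' : ∀ x ∈ W', ∀ y ∈ W', x * y = y * x := by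
    rintro _ ⟨x, hx, rfl⟩ _ ⟨y, hy, rfl⟩
    rw [← map_mul, ← map_mul, hab x hx y hy]
  have hcard : Nat.card W' = Nat.card W :=
    (Nat.card_congr (W.equivMapOfInjective _ (MulAut.conj g).injective).toEquiv).symm
  have hbase := abelian_large h W' hW' hab' (by omega)
  have h27 : 27 ≤ Nat.card W' := by
    obtain ⟨k, hk⟩ := hW.exists_card_eq
    rw [hcard, hk]
    rw [hk] at hlt
    have : 3 ≤ k := by
      by_contra hk3
      have := Nat.pow_le_pow_right (show 0 < 3 by norm_num) (show k ≤ 2 by omega)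
      omega
    calc 27 = 3 ^ 3 := by norm_num
      _ ≤ 3 ^ k := Nat.pow_le_pow_right (by norm_num) this
  choose fa fb fc hf using fun x : W' => hbase (x : Perm (Fin n)) x.2
  have hinj : Function.Injective fun x : W' => (fa x, fb x, fc x) := fun x y e => by
    simp only [Prod.mk.injEq] at e
    exact Subtype.ext (by rw [hf x, hf y, e.1, e.2.1, e.2.2])
  have hbij : Function.Surjective fun x : W' => (fa x, fb x, fc x) :=
    ((Fintype.bijective_iff_injective_and_card _).2 ⟨hinj, le_antisymm (Fintype.card_le_of_injective _ hinj) (by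
      rw [← Nat.card_eq_fintype_card, ← Nat.card_eq_fintype_card (α := W'),
        show Nat.card (Fin 3 × Fin 3 × Fin 3) = 27 by simp [Nat.card_eq_fintype_card]]
      exact h27)⟩).2
  set σ' := g * σ * g⁻¹ with hσ'
  have hσσ : σ' * σ' = 1 := by
    rw [hσ', show g * σ * g⁻¹ * (g * σ * g⁻¹) = g * (σ * σ) * g⁻¹ by group, hσ, mul_one, mul_inv_cancel]
  have key : ∀ v : Fin 3 × Fin 3 × Fin 3, ∀ c : Perm (Fin 9), syl (v.1, v.2.1, v.2.2, 0) = c →
      σ' * emb h c * σ'⁻¹ = (emb h c)⁻¹ := by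
    intro v c hc
    obtain ⟨⟨_, x, hx, rfl⟩, hxv⟩ := hbij v
    have e : emb h c = g * x * g⁻¹ := by
      rw [← hc, ← hxv]; exact (hf _).symm
    rw [e, hσ', show g * σ * g⁻¹ * (g * x * g⁻¹) * (g * σ * g⁻¹)⁻¹ = g * (σ * x * σ⁻¹) * g⁻¹ by group, hinv x hx]
    group
  have hfix : ∀ (i j k : Fin 9) (v : Fin 3 × Fin 3 × Fin 3), i ≠ j → i ≠ k → j ≠ k →
      syl (v.1, v.2.1, v.2.2, 0) = swap i j * swap j k →
      ∃ l, (l = i ∨ l = j ∨ l = k) ∧ σ' (Fin.castLE h l) = Fin.castLE h l := by
    intro i j k v ij ik jk hv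
    have e := key v _ hv
    rw [map_mul, emb_swap, emb_swap] at e
    have inj := Fin.castLE_injective h
    rcases fixed_of_inverted hσσ (inj.ne ij) (inj.ne ik) (inj.ne jk) e with h' | h' | h'
    · exact ⟨i, Or.inl rfl, h'⟩
    · exact ⟨j, Or.inr (Or.inl rfl), h'⟩
    · exact ⟨k, Or.inr (Or.inr rfl), h'⟩
  obtain ⟨l0, hl0, f0⟩ := hfix 0 1 2 (1, 0, 0) (by decide) (by decide) (by decide) (by decide +kernel)
  obtain ⟨l1, hl1, f1⟩ := hfix 3 4 5 (0, 1, 0) (by decide) (by decide) (by decide) (by decide +kernel)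
  obtain ⟨l2, hl2, f2⟩ := hfix 6 7 8 (0, 0, 1) (by decide) (by decide) (by decide) (by decide +kernel)
  have hsub : σ'.support ⊆ ({Fin.castLE h l0, Fin.castLE h l1, Fin.castLE h l2} : Finset (Fin n))ᶜ := by
    intro y hy
    rw [Perm.mem_support] at hy
    simp only [Finset.mem_compl, Finset.mem_insert, Finset.mem_singleton, not_or]
    exact ⟨fun e => hy (by rw [e]; exact f0), fun e => hy (by rw [e]; exact f1), fun e => hy (by rw [e]; exact f2)⟩
  have h01 : l0 ≠ l1 := by rcases hl0 with rfl | rfl | rfl <;> rcases hl1 with rfl | rfl | rfl <;> decide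
  have h02 : l0 ≠ l2 := by rcases hl0 with rfl | rfl | rfl <;> rcases hl2 with rfl | rfl | rfl <;> decide
  have h12 : l1 ≠ l2 := by rcases hl1 with rfl | rfl | rfl <;> rcases hl2 with rfl | rfl | rfl <;> decide
  have hle := Finset.card_le_card hsub
  have inj := Fin.castLE_injective h
  rw [Finset.card_compl, Fintype.card_fin, Finset.card_eq_three.2 ⟨_, _, _, inj.ne h01, inj.ne h02, inj.ne h12, rfl⟩,
    hσ', Perm.card_support_conj, h8] at hle
  omega

end CfsgLib.Invol.AltDoubleCover
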