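import Cfsg.Agent.Lib.Invol.AltDoubleCover.Dichotomy
import Cfsg.Agent.Lib.Invol.AltDoubleCover.Fpf
import Cfsg.Agent.Lib.Invol.AltDoubleCover.NinePerms

/-!
# Degree nine with odd core of order `3 ^ 5`: the common plane of three commuting lifted 3-cycles

Its elements inverted by the central involution centralise the odd core.
-/

set_option autoImplicit false
set_option maxRecDepth 100000

noncomputable section

namespace CfsgLib.Invol.AltDoubleCover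

open Equiv Subgroup

/-- Conjugates of commuting elements. -/
theorem conj_comm {H : Type*} [Group H] (g : H) {p r : H} (h : p * r = r * p) :
    g * p * g⁻¹ * (g * r * g⁻¹) = g * r * g⁻¹ * (g * p * g⁻¹) := by
  rw [show g * p * g⁻¹ * (g * r * g⁻¹) = g * (p * r) * g⁻¹ by group, h]; group

namespace Ctx

variable {G : Type*} [Group G] (X : Ctx G 9)

theorem ι_nine (σ : Perm (Fin 9)) : X.ι σ = σ := Equiv.ext fun i => emb_apply_lt X.h9 σ i

theorem π_a9 : X.D.π X.a = cA := X.π_a.trans (X.ι_nine _)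

/-- The cyclic shift of the triples. -/
def t : ↥X.C := (X.D.exists_lift_odd triple_facts.2.2.2.2 (r := 3) (by decide) triple_facts.2.2.2.1).choose

theorem t_spec : X.D.π X.t = cT ∧ X.t ^ 3 = 1 :=
  (X.D.exists_lift_odd triple_facts.2.2.2.2 (r := 3) (by decide) triple_facts.2.2.2.1).choose_spec

/-- The second triple. -/
def b : ↥X.C := X.t * X.a * X.t⁻¹
/-- The third triple. -/
def c : ↥X.C := X.t * X.b * X.t⁻¹

theorem π_b : X.D.π X.b = cB := by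
  rw [b, map_mul, map_mul, map_inv, X.t_spec.1, X.π_a9, ← triple_facts.1]

theorem π_c : X.D.π X.c = cC := by
  rw [c, map_mul, map_mul, map_inv, X.t_spec.1, X.π_b, ← triple_facts.2.1]

theorem b_cube : X.b ^ 3 = 1 := by rw [b, conj_pow, X.a_cube, mul_one, mul_inv_cancel]

theorem c_cube : X.c ^ 3 = 1 := by rw [c, conj_pow, X.b_cube, mul_one, mul_inv_cancel]

theorem t_c : X.t * X.c * X.t⁻¹ = X.a := by
  have ht : X.t * (X.t * X.t) = 1 := by rw [← pow_two, ← pow_succ']; exact X.t_spec.2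
  rw [c, b, show X.t * (X.t * (X.t * X.a * X.t⁻¹) * X.t⁻¹) * X.t⁻¹ =
    (X.t * (X.t * X.t)) * X.a * (X.t * (X.t * X.t))⁻¹ by group, ht, one_mul, inv_one, mul_one]

theorem comm_abc : X.a * X.b = X.b * X.a ∧ X.a * X.c = X.c * X.a ∧ X.b * X.c = X.c * X.b := by
  refine ⟨X.D.commute_odd (r := 3) (by decide) X.b_cube ?_, X.D.commute_odd (r := 3) (by decide) X.c_cube ?_,
    X.D.commute_odd (r := 3) (by decide) X.c_cube ?_⟩ <;>
    simp only [X.π_a9, X.π_b, X.π_c] <;> decide +kernel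

theorem fix_bc : X.Fix X.b ∧ X.Fix X.c := by
  refine ⟨fun i hi => ?_, fun i hi => ?_⟩
  · have k : ∀ j : Fin 9, (j : ℕ) < 3 → cB j = j := by decide +kernel
    rw [X.π_b, k i hi]
  · have k : ∀ j : Fin 9, (j : ℕ) < 3 → cC j = j := by decide +kernel
    rw [X.π_c, k i hi]

/-- An element of order four inverting the last two triples. -/
def gG : ↥X.C := (X.D.lift pG pG_facts.1).choose

theorem π_gG : X.D.π X.gG = pG := (X.D.lift pG pG_facts.1).choose_spec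

theorem gG_sq : X.gG * X.gG = X.D.z := X.D.dt _ (by
  rw [X.π_gG]; exact ⟨_, _, _, _, pG_facts.2.2.2.2.2.2, rfl⟩)

theorem gG_fix : X.Fix X.gG := fun i hi => by rw [X.π_gG]; exact pG_facts.2.2.2.2.2.1 i hi

theorem conj_inv_of_perm {g u : ↥X.C} (hu : u ^ 3 = 1) (h : X.D.π g * X.D.π u * (X.D.π g)⁻¹ = (X.D.π u)⁻¹) :
    g * u * g⁻¹ = u⁻¹ :=
  X.D.eq_of_odd (r := 3) (by decide) (by rw [conj_pow, hu, mul_one, mul_inv_cancel]) (by rw [inv_pow, hu, inv_one])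
    (by rw [map_mul, map_mul, map_inv, map_inv, h])

theorem gG_inv : X.gG * X.b * X.gG⁻¹ = X.b⁻¹ ∧ X.gG * X.c * X.gG⁻¹ = X.c⁻¹ := by
  refine ⟨X.conj_inv_of_perm X.b_cube ?_, X.conj_inv_of_perm X.c_cube ?_⟩
  · rw [X.π_gG, X.π_b]; exact pG_facts.2.2.1
  · rw [X.π_gG, X.π_c]; exact pG_facts.2.2.2.1

/-- An involution exchanging the first two triples. -/
def e : ↥X.C := (X.D.lift pE pE_facts.1).choose

theorem π_e : X.D.π X.e = pE := (X.D.lift pE pE_facts.1).choose_spec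

theorem e_sq : X.e * X.e = 1 := by
  rw [X.D.sq_invol 2 X.e (by rw [X.π_e]; exact pE_facts.2.1) (by rw [X.π_e, pE_facts.2.2.1]), pow_two, X.D.zz]

theorem e_conj : X.e * X.a * X.e⁻¹ = X.b ∧ X.e * X.b * X.e⁻¹ = X.a ∧ X.e * X.c * X.e⁻¹ = X.c⁻¹ := by
  refine ⟨X.D.eq_of_odd (r := 3) (by decide) (by rw [conj_pow, X.a_cube, mul_one, mul_inv_cancel]) X.b_cube ?_,
    X.D.eq_of_odd (r := 3) (by decide) (by rw [conj_pow, X.b_cube, mul_one, mul_inv_cancel]) X.a_cube ?_,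
    X.conj_inv_of_perm X.c_cube ?_⟩
  · rw [map_mul, map_mul, map_inv, X.π_e, X.π_a9, X.π_b]; exact pE_facts.2.2.2.1
  · rw [map_mul, map_mul, map_inv, X.π_e, X.π_a9, X.π_b]; exact pE_facts.2.2.2.2.1
  · rw [X.π_e, X.π_c]; exact pE_facts.2.2.2.2.2

/-- Elements centralising the three triples and inverted by the central involution. -/
def IsI (x : G) : Prop :=
  x * X.a = X.a * x ∧ x * X.b = X.b * x ∧ x * X.c = X.c * x ∧ X.z * x * X.z⁻¹ = x⁻¹ ∧ x ^ 3 = 1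

theorem IsI.mem_Ca {x : G} (hx : X.IsI x) : x ∈ X.Ca := X.mem_Ca.2 hx.1

theorem IsI.mul_inv {x : G} (hx : X.IsI x) : X.IsI x⁻¹ := by
  obtain ⟨h1, h2, h3, h4, h5⟩ := hx
  exact ⟨(show Commute x _ from h1).inv_left.eq, (show Commute x _ from h2).inv_left.eq,
    (show Commute x _ from h3).inv_left.eq, by rw [show X.z * x⁻¹ * X.z⁻¹ = (X.z * x * X.z⁻¹)⁻¹ by group, h4], by rw [inv_pow, h5, inv_one]⟩

/-- Conjugation by an element of the centralizer permuting the triples up to inverses. -/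
theorem IsI.conj {x : G} (hx : X.IsI x) (g : ↥X.C)
    (h : ∀ r ∈ ({X.a, X.b, X.c} : Set ↥X.C), ∃ r' ∈ ({X.a, X.b, X.c} : Set ↥X.C),
      g⁻¹ * r * g = r' ∨ g⁻¹ * r * g = r'⁻¹) : X.IsI ((g : G) * x * (g : G)⁻¹) := by
  obtain ⟨h1, h2, h3, h4, h5⟩ := hx
  have key : ∀ r ∈ ({X.a, X.b, X.c} : Set ↥X.C), (g : G) * x * (g : G)⁻¹ * r = r * ((g : G) * x * (g : G)⁻¹) := by
    intro r hr
    obtain ⟨r', hr', e⟩ := h r hr
    have hc : x * ((g⁻¹ * r * g : ↥X.C) : G) = ((g⁻¹ * r * g : ↥X.C) : G) * x := by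
      have h' : x * (r' : G) = r' * x := by
        simp only [Set.mem_insert_iff, Set.mem_singleton_iff] at hr'
        rcases hr' with rfl | rfl | rfl <;> assumption
      rcases e with e | e <;> rw [e]
      · exact h'
      · exact (show Commute x (r' : G) from h').inv_right.eq
    simp only [Subgroup.coe_mul, Subgroup.coe_inv] at hc
    calc (g : G) * x * (g : G)⁻¹ * r = g * (x * ((g : G)⁻¹ * r * g)) * (g : G)⁻¹ := by group
      _ = g * ((g : G)⁻¹ * r * g * x) * (g : G)⁻¹ := by rw [hc]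
      _ = r * ((g : G) * x * (g : G)⁻¹) := by group
  refine ⟨key _ (by simp), key _ (by simp), key _ (by simp), ?_, by rw [conj_pow, h5, mul_one, mul_inv_cancel]⟩
  have hg : (g : G) * X.z = X.z * g := X.mem_C.1 g.2
  calc X.z * ((g : G) * x * (g : G)⁻¹) * X.z⁻¹ = (X.z * g) * x * (X.z * (g : G))⁻¹ := by group
    _ = ((g : G) * X.z) * x * ((g : G) * X.z)⁻¹ := by rw [hg]
    _ = (g : G) * (X.z * x * X.z⁻¹) * (g : G)⁻¹ := by group
    _ = _ := by rw [h4]; group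

theorem IsI.conj_t {x : G} (hx : X.IsI x) :
    X.IsI ((X.t : G) * x * (X.t : G)⁻¹) ∧ X.IsI ((X.t : G)⁻¹ * x * X.t) := by
  refine ⟨hx.conj X X.t ?_, ?_⟩
  · intro r hr
    simp only [Set.mem_insert_iff, Set.mem_singleton_iff] at hr
    rcases hr with rfl | rfl | rfl
    · exact ⟨X.c, by simp, Or.inl (by rw [← X.t_c]; group)⟩
    · exact ⟨X.a, by simp, Or.inl (by rw [b]; group)⟩
    · exact ⟨X.b, by simp, Or.inl (by rw [c]; group)⟩
  · have := hx.conj X X.t⁻¹ (fun r hr => by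
      simp only [Set.mem_insert_iff, Set.mem_singleton_iff] at hr
      rw [inv_inv]
      rcases hr with rfl | rfl | rfl
      · exact ⟨X.b, by simp, Or.inl rfl⟩
      · exact ⟨X.c, by simp, Or.inl rfl⟩
      · exact ⟨X.a, by simp, Or.inl X.t_c⟩)
    rwa [Subgroup.coe_inv, inv_inv] at this

theorem IsI.conj_e {x : G} (hx : X.IsI x) : X.IsI ((X.e : G) * x * (X.e : G)⁻¹) := by
  refine hx.conj X X.e ?_
  have he : X.e⁻¹ = X.e := inv_eq_of_mul_eq_one_right X.e_sq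
  obtain ⟨ea, eb, ec⟩ := X.e_conj
  rw [he] at ea eb ec
  intro r hr
  simp only [Set.mem_insert_iff, Set.mem_singleton_iff] at hr
  rw [he]
  rcases hr with rfl | rfl | rfl
  · exact ⟨X.b, by simp, Or.inl ea⟩
  · exact ⟨X.a, by simp, Or.inl eb⟩
  · exact ⟨X.c, by simp, Or.inr ec⟩

variable [Finite G]

section Core

variable (hO : Nat.card X.O = 243) (h3 : ∀ v ∈ X.V, v ^ 3 = 1)

/-- The action on the quotient of the odd core. -/
def act (u : ↥X.C) (hu : X.Fix u) : MulAut ↥X.V := MulAut.conjNormal (X.qF u hu)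

theorem act_coe (u : ↥X.C) (hu : X.Fix u) (v : ↥X.V) :
    ((X.act u hu v : ↥X.V) : X.Q) = X.qF u hu * v * (X.qF u hu)⁻¹ := rfl

theorem qF_mul {u u' : ↥X.C} (hu : X.Fix u) (hu' : X.Fix u') (h : X.Fix (u * u')) :
    X.qF (u * u') h = X.qF u hu * X.qF u' hu' := by
  rw [qF, qF, qF, ← map_mul]; rfl

theorem qF_inv {u : ↥X.C} (hu : X.Fix u) (h : X.Fix u⁻¹) : X.qF u⁻¹ h = (X.qF u hu)⁻¹ := by
  rw [qF, qF, ← map_inv]; rfl

include hO in
theorem card_V : Nat.card X.V = 81 := by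
  have := X.card_O
  omega

include hO in
/-- An automorphism squaring to inversion has invariant subgroups of square order. -/
theorem parity {g : ↥X.C} (hg : X.Fix g) (hgg : g * g = X.D.z) (S : Subgroup ↥X.V)
    (hS : ∀ v ∈ S, X.act g hg v ∈ S) : Nat.card S ≠ 3 ∧ Nat.card S ≠ 27 := by
  classical
  set γ := X.act g hg
  have hγγ : ∀ v, γ (γ v) = v⁻¹ := fun v => Subtype.ext (by
    rw [act_coe, act_coe, Subgroup.coe_inv, ← X.V_inv v.2]
    have : X.q X.zM = X.qF g hg * X.qF g hg := by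
      rw [qF, ← map_mul]
      refine congrArg _ (Subtype.ext ?_)
      show X.z = (g : G) * g
      rw [← Subgroup.coe_mul, hgg, X.Dz]
    rw [this]; group)
  have hodd : ∀ v : ↥X.V, v * v = 1 → v = 1 := fun v hv => by
    have h : orderOf v ∣ 2 := orderOf_dvd_of_pow_eq_one (by rw [pow_two, hv])
    have h' : orderOf v ∣ 81 := X.card_V hO ▸ orderOf_dvd_natCard v
    exact orderOf_eq_one_iff.1 (Nat.eq_one_of_dvd_coprimes (by norm_num : Nat.Coprime 2 81) h h')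
  have cm : ∀ u v : ↥X.V, u * v = v * u := fun u v => Subtype.ext (X.V_comm u.2 v.2)
  constructor
  · intro h
    haveI : Fintype S := Fintype.ofFinite S
    have hF : Fintype.card S = 3 := by rw [← Nat.card_eq_fintype_card, h]
    obtain ⟨v, -, hv⟩ := Finset.exists_mem_notMem_of_card_lt_card
      (show ({1} : Finset S).card < (Finset.univ : Finset S).card by
        rw [Finset.card_univ, hF, Finset.card_singleton]; norm_num)
    rw [Finset.mem_singleton] at hv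
    have hv1 : (v : ↥X.V) ≠ 1 := fun e => hv (Subtype.ext e)
    have hne : (v : ↥X.V) ≠ (v : ↥X.V)⁻¹ := fun e => hv1 (hodd _ (mul_eq_one_iff_eq_inv.2 e))
    have hcard : ({1, v, v⁻¹} : Finset S).card = 3 := Finset.card_eq_three.2
      ⟨1, v, v⁻¹, fun e => hv e.symm, fun e => hv (inv_eq_one.1 e.symm), fun e => hne (congrArg Subtype.val e), rfl⟩
    have hmem : (⟨γ v, hS _ v.2⟩ : S) ∈ ({1, v, v⁻¹} : Finset S) := by
      rw [Finset.eq_univ_of_card _ (hcard.trans hF.symm)]; exact Finset.mem_univ _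
    simp only [Finset.mem_insert, Finset.mem_singleton] at hmem
    rcases hmem with e | e | e <;> have e' : γ (v : ↥X.V) = _ := congrArg Subtype.val e
    · exact hv1 (γ.injective (e'.trans (map_one γ).symm))
    · exact hne (by conv_rhs => rw [← hγγ, e', e'])
    · refine hne ?_
      conv_rhs => rw [← hγγ, e', Subgroup.coe_inv, map_inv, e', Subgroup.coe_inv, inv_inv]
  · intro h
    have hidx : S.index = 3 := by
      have := S.card_mul_index
      rw [h, X.card_V hO] at this; omega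
    haveI : S.Normal := ⟨fun v hv u => by rw [cm u v, mul_inv_cancel_right]; exact hv⟩
    haveI : Fact (Nat.Prime 3) := ⟨Nat.prime_three⟩
    obtain ⟨v, hv⟩ : ∃ v : ↥X.V, v ∉ S := by
      by_contra hall; push Not at hall
      rw [show S = ⊤ from eq_top_iff.2 fun v _ => hall v, index_top] at hidx; omega
    have hq : (QuotientGroup.mk v : ↥X.V ⧸ S) ≠ 1 := fun e => hv ((QuotientGroup.eq_one_iff v).1 e)
    have hgen : zpowers (QuotientGroup.mk v : ↥X.V ⧸ S) = ⊤ := zpowers_eq_top_of_prime_card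
      (by rw [← index_eq_card, hidx]) hq
    obtain ⟨i, hi⟩ := mem_zpowers_iff.1 (hgen ▸ mem_top (QuotientGroup.mk (γ v) : ↥X.V ⧸ S))
    rw [← QuotientGroup.mk_zpow, QuotientGroup.eq] at hi
    have h1 := hS _ hi
    rw [map_mul, map_inv, map_zpow, hγγ] at h1
    have h2 : ((v ^ i)⁻¹ * γ v) ^ i * ((γ v ^ i)⁻¹ * v⁻¹) ∈ S := mul_mem (zpow_mem hi i) h1
    rw [(show Commute ((v ^ i)⁻¹) (γ v) from cm _ _).mul_zpow, inv_zpow, ← zpow_mul, mul_assoc,
      mul_inv_cancel_left, ← mul_inv_rev, inv_mem_iff, ← zpow_one_add] at h2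
    have h3' : v ^ (3 : ℤ) ∈ S := by
      rw [show (3 : ℤ) = ((3 : ℕ) : ℤ) from rfl, zpow_natCast, ← hidx]
      exact pow_index_mem S v
    have hcop : ∀ j : ℤ, (1 + j * j) % 3 ≠ 0 := fun j => by
      have : j % 3 = 0 ∨ j % 3 = 1 ∨ j % 3 = 2 := by omega
      rw [Int.add_emod, Int.mul_emod]
      rcases this with e | e | e <;> rw [e] <;> decide
    have h4 : v ^ ((1 + i * i) % 3) ∈ S := by
      rw [Int.emod_def, sub_eq_add_neg, zpow_add, zpow_neg]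
      exact mul_mem h2 (inv_mem (by rw [zpow_mul]; exact zpow_mem h3' _))
    have : (1 + i * i) % 3 = 1 ∨ (1 + i * i) % 3 = 2 := by have := hcop i; omega
    rcases this with e | e <;> rw [e] at h4
    · exact hv (by simpa using h4)
    · refine hv ?_
      have := mul_mem h3' (inv_mem h4)
      rwa [← zpow_neg, ← zpow_add, show (3 : ℤ) + -2 = 1 by norm_num, zpow_one] at this

include hO h3 in
/-- The fixed plane of an inverted element of order three, which is also the image of its commutator map. -/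
theorem plane {u g : ↥X.C} (hu : X.Fix u) (hπ : X.D.π u ≠ 1) (hu3 : u ^ 3 = 1) (hg : X.Fix g)
    (hgg : g * g = X.D.z) (hinv : g * u * g⁻¹ = u⁻¹) :
    Nat.card (fixS (X.act u hu)) = 9 ∧
      (∀ v : ↥X.V, X.act u hu v * v⁻¹ ∈ fixS (X.act u hu)) ∧
      (∀ l ∈ fixS (X.act u hu), ∃ v : ↥X.V, X.act u hu v * v⁻¹ = l) ∧
      ∀ e ∈ fixS (X.act u hu), X.act g hg e ∈ fixS (X.act u hu) := by
  classical
  haveI : Fact (Nat.Prime 3) := ⟨Nat.prime_three⟩
  set φ := X.act u hu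
  set γ := X.act g hg
  set L := fixS φ
  have cm : ∀ x y : ↥X.V, x * y = y * x := fun x y => Subtype.ext (X.V_comm x.2 y.2)
  have hq3 : X.qF u hu ^ 3 = 1 := X.qF_pow hu hu3
  have hφ : φ ^ 3 = 1 := by
    show X.act u hu ^ 3 = 1
    rw [act, ← map_pow, hq3, map_one]
  have hcomm : ∀ v, φ (γ v) = γ (φ⁻¹ v) := fun v => by
    have e : X.qF u hu * X.qF g hg = X.qF g hg * (X.qF u hu)⁻¹ := by
      have : g * u⁻¹ = u * g := by
        rw [show u⁻¹ = g * u * g⁻¹ from hinv.symm] at *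
        have h' : g * (g * u * g⁻¹) * g⁻¹ = u := by
          rw [show g * (g * u * g⁻¹) * g⁻¹ = (g * g) * u * (g * g)⁻¹ by group, hgg, ← X.D.zc, mul_inv_cancel_right]
        calc g * (g * u * g⁻¹) = (g * (g * u * g⁻¹) * g⁻¹) * g := by group
          _ = u * g := by rw [h']
      rw [qF, qF, ← map_inv, ← map_mul, ← map_mul]
      exact congrArg _ (Subtype.ext (congrArg (fun y : ↥X.C => (y : G)) this).symm)
    show X.act u hu (X.act g hg v) = X.act g hg ((X.act u hu)⁻¹ v)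
    rw [act, act, ← map_inv, ← MulAut.mul_apply, ← MulAut.mul_apply, ← map_mul, ← map_mul, e]
  have hLinv : ∀ e ∈ L, γ e ∈ L := fun e he => by
    rw [mem_fixS, hcomm]
    congr 1
    conv_lhs => rw [← mem_fixS.1 he]
    rw [← MulAut.mul_apply, inv_mul_cancel, MulAut.one_apply]
  have hP : IsPGroup 3 ↥X.V := IsPGroup.of_card (n := 4) (by rw [X.card_V hO]; rfl)
  have hcases : ∀ S : Subgroup ↥X.V, (∀ v ∈ S, γ v ∈ S) → Nat.card S = 1 ∨ Nat.card S = 9 ∨ Nat.card S = 81 := by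
    intro S hS
    obtain ⟨p1, p2⟩ := X.parity hO hg hgg S hS
    obtain ⟨k, hk, hkc⟩ := (Nat.dvd_prime_pow Nat.prime_three).1
      (show Nat.card S ∣ 3 ^ 4 by have := S.card_subgroup_dvd_card; rwa [X.card_V hO] at this)
    rw [hkc] at p1 p2 ⊢
    interval_cases k <;> simp_all
  have hL : Nat.card L = 9 := by
    rcases hcases L hLinv with h | h | h
    · exfalso
      have := fix_modEq_top (p := 3) (m := 1) φ (by rw [pow_one, hφ])
      rw [X.card_V hO, h] at this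
      exact absurd this (by decide)
    · exact h
    · exfalso
      have htop : L = ⊤ := L.eq_top_of_card_eq (h.trans (X.card_V hO).symm)
      have hle : X.Vp 3 ≤ centralizer ({X.qF u hu} : Set X.Q) := fun v hv => by
        rw [mem_centralizer_singleton_iff]
        have h1 : φ ⟨v, hv.1⟩ = ⟨v, hv.1⟩ := mem_fixS.1 (by rw [show fixS φ = ⊤ from htop]; exact mem_top _)
        exact (mul_inv_eq_iff_eq_mul.1 (congrArg Subtype.val h1)).symm
      have hall := X.Vp_trivial (e := 3) (by decide) hu hπ hle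
      have hbot : X.V = ⊥ := (eq_bot_iff_forall _).2 fun v hv => hall v ⟨hv, h3 v hv⟩
      have := X.card_V hO
      rw [hbot, card_bot] at this
      omega
  let δ : ↥X.V →* ↥X.V :=
    { toFun := fun v => φ v * v⁻¹
      map_one' := by simp
      map_mul' := fun v w => by
        rw [map_mul, mul_inv_rev, mul_assoc, ← mul_assoc (φ w), cm (φ w * w⁻¹), ← mul_assoc] }
  have hker : δ.ker = L := by
    ext v
    rw [MonoidHom.mem_ker, mem_fixS]
    exact mul_inv_eq_one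
  have hR : Nat.card δ.range = 9 := by
    have := δ.ker.card_mul_index
    rw [Subgroup.index_ker, hker, hL, X.card_V hO] at this
    omega
  have hRφ : ∀ e ∈ δ.range, φ e ∈ δ.range := by
    rintro _ ⟨v, rfl⟩
    exact ⟨φ v, by show φ (φ v) * (φ v)⁻¹ = φ (φ v * v⁻¹); rw [map_mul, map_inv]⟩
  have hRγ : ∀ e ∈ δ.range, γ e ∈ δ.range := by
    rintro _ ⟨v, rfl⟩
    refine ⟨(φ⁻¹ (γ v))⁻¹ * 1, ?_⟩
    have hφi : ∀ w, φ⁻¹ (φ w) = w := fun w => φ.symm_apply_apply w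
    have hφi' : ∀ w, φ (φ⁻¹ w) = w := fun w => φ.apply_symm_apply w
    have e : γ (φ v) = φ⁻¹ (γ v) := by
      have h := hcomm (φ v)
      rw [hφi] at h
      rw [← h, hφi]
    show φ ((φ⁻¹ (γ v))⁻¹ * 1) * ((φ⁻¹ (γ v))⁻¹ * 1)⁻¹ = γ (φ v * v⁻¹)
    rw [mul_one, map_inv, inv_inv, map_mul, map_inv, e, hφi', cm]
  have hmeet : δ.range ⊓ L = δ.range := by
    refine eq_of_le_of_card_ge inf_le_left ?_
    rw [hR]
    have hm := fix_modEq (p := 3) (m := 1) φ (by rw [pow_one, hφ]) δ.range hRφ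
    rw [hR] at hm
    rcases hcases (δ.range ⊓ L) (fun v hv => ⟨hRγ v hv.1, hLinv v hv.2⟩) with h | h | h
    · rw [h] at hm; exact absurd hm (by decide)
    · omega
    · omega
  have hRL : δ.range = L := eq_of_le_of_card_ge (inf_eq_left.1 hmeet) (by omega)
  exact ⟨hL, fun v => hRL ▸ ⟨v, rfl⟩, fun l hl => by rw [← hRL] at hl; exact hl, hLinv⟩

/-- The plane. -/
def L : Subgroup ↥X.V := fixS (X.act X.b X.fix_bc.1)

theorem π_b_ne : X.D.π X.b ≠ 1 ∧ X.D.π X.c ≠ 1 := by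
  rw [X.π_b, X.π_c]; exact ⟨by decide +kernel, by decide +kernel⟩

include hO h3 in
theorem plane_eq {u : ↥X.C} (hu : X.Fix u) (hu' : u = X.b ∨ u = X.c ∨ u = X.c * X.b ∨ u = X.c * X.b⁻¹) :
    fixS (X.act u hu) = X.L ∧
      (∀ v : ↥X.V, X.act u hu v * v⁻¹ ∈ X.L) ∧ ∀ l ∈ X.L, ∃ v : ↥X.V, X.act u hu v * v⁻¹ = l := by
  classical
  haveI : Fact (Nat.Prime 3) := ⟨Nat.prime_three⟩
  obtain ⟨hab, hac, hbc⟩ := X.comm_abc
  obtain ⟨gb, gc⟩ := X.gG_inv
  obtain ⟨hb9, hb1, hb2, hbg⟩ := X.plane hO h3 X.fix_bc.1 X.π_b_ne.1 X.b_cube X.gG_fix X.gG_sq gb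
  obtain ⟨hc9, -, -, hcg⟩ := X.plane hO h3 X.fix_bc.2 X.π_b_ne.2 X.c_cube X.gG_fix X.gG_sq gc
  have hcL : fixS (X.act X.c X.fix_bc.2) = X.L := by
    have hcb : ∀ v ∈ X.L, X.act X.c X.fix_bc.2 v ∈ X.L := fun v hv => by
      rw [L, mem_fixS]
      have hv' : X.act X.b X.fix_bc.1 v = v := mem_fixS.1 hv
      have e : X.qF X.b X.fix_bc.1 * X.qF X.c X.fix_bc.2 = X.qF X.c X.fix_bc.2 * X.qF X.b X.fix_bc.1 := by
        rw [qF, qF, ← map_mul, ← map_mul]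
        exact congrArg _ (Subtype.ext (congrArg (fun y : ↥X.C => (y : G)) hbc))
      conv_rhs => rw [← hv']
      show X.act X.b _ (X.act X.c _ v) = X.act X.c _ (X.act X.b _ v)
      rw [act, act, ← MulAut.mul_apply, ← MulAut.mul_apply, ← map_mul, ← map_mul, e]
    have hm := fix_modEq (p := 3) (m := 1) (X.act X.c X.fix_bc.2)
      (by rw [pow_one, act, ← map_pow, X.qF_pow _ X.c_cube, map_one]) X.L hcb
    have hinf : Nat.card ↥(X.L ⊓ fixS (X.act X.c X.fix_bc.2)) = 9 := by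
      obtain ⟨p1, -⟩ := X.parity hO X.gG_fix X.gG_sq (X.L ⊓ fixS (X.act X.c X.fix_bc.2))
        (fun v hv => ⟨hbg v hv.1, hcg v hv.2⟩)
      have hd := card_dvd_of_le (show X.L ⊓ fixS (X.act X.c X.fix_bc.2) ≤ X.L from inf_le_left)
      rw [L, hb9] at hd hm
      have := Nat.le_of_dvd (by norm_num) hd
      unfold Nat.ModEq at hm
      rw [L] at p1 ⊢
      obtain ⟨k, hk, hkc⟩ := (Nat.dvd_prime_pow Nat.prime_three).1 (show _ ∣ 3 ^ 2 from hd)
      rw [hkc] at hm p1 ⊢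
      interval_cases k <;> simp_all
    have e1 := eq_of_le_of_card_ge (show X.L ⊓ fixS (X.act X.c X.fix_bc.2) ≤ X.L from inf_le_left)
      (by rw [hinf, L, hb9])
    exact (eq_of_le_of_card_ge (inf_eq_left.1 e1) (by rw [L, hb9, hc9])).symm
  have hπne : X.D.π u ≠ 1 := by
    rcases hu' with rfl | rfl | rfl | rfl <;>
      simp only [map_mul, map_inv, X.π_b, X.π_c] <;> decide +kernel
  have hu3 : u ^ 3 = 1 := by
    have cb : Commute X.c X.b := hbc.symm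
    rcases hu' with rfl | rfl | rfl | rfl
    · exact X.b_cube
    · exact X.c_cube
    · rw [cb.mul_pow, X.b_cube, X.c_cube, one_mul]
    · rw [cb.inv_right.mul_pow, inv_pow, X.b_cube, X.c_cube, inv_one, one_mul]
  have hinv : X.gG * u * X.gG⁻¹ = u⁻¹ := by
    rcases hu' with rfl | rfl | rfl | rfl
    · exact gb
    · exact gc
    · rw [show X.gG * (X.c * X.b) * X.gG⁻¹ = (X.gG * X.c * X.gG⁻¹) * (X.gG * X.b * X.gG⁻¹) by group, gb, gc,
        ← mul_inv_rev, hbc]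
    · rw [show X.gG * (X.c * X.b⁻¹) * X.gG⁻¹ = (X.gG * X.c * X.gG⁻¹) * (X.gG * X.b * X.gG⁻¹)⁻¹ by group, gb, gc,
        inv_inv, mul_inv_rev, inv_inv]
      exact ((show Commute X.b X.c from hbc).inv_right).eq.symm
  obtain ⟨h9, h1, h2, -⟩ := X.plane hO h3 hu hπne hu3 X.gG_fix X.gG_sq hinv
  have hle : X.L ≤ fixS (X.act u hu) := by
    intro v hv
    have hb' : X.act X.b X.fix_bc.1 v = v := mem_fixS.1 hv
    have hc' : X.act X.c X.fix_bc.2 v = v := mem_fixS.1 (hcL ▸ hv)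
    have hb'' : (X.act X.b X.fix_bc.1)⁻¹ v = v := by
      conv_lhs => rw [← hb']
      rw [← MulAut.mul_apply, inv_mul_cancel, MulAut.one_apply]
    rw [mem_fixS]
    rcases hu' with rfl | rfl | rfl | rfl
    · exact hb'
    · exact hc'
    · rw [act, X.qF_mul X.fix_bc.2 X.fix_bc.1, map_mul, MulAut.mul_apply]
      rw [act] at hb' hc'
      rw [hb', hc']
    · have hbi : X.Fix X.b⁻¹ := fun i hi => by
        rw [map_inv, Perm.inv_eq_iff_eq]; exact (X.fix_bc.1 i hi).symm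
      rw [act, X.qF_mul X.fix_bc.2 hbi, X.qF_inv X.fix_bc.1, map_mul, map_inv, MulAut.mul_apply]
      rw [act] at hb'' hc'
      rw [hb'', hc']
  have he := eq_of_le_of_card_ge hle (by rw [h9, L, hb9])
  rw [← he] at h1 h2
  exact ⟨he.symm, h1, h2⟩

theorem exists_inv_lift {v : X.Q} (hv : v ∈ X.V) :
    ∃ x : ↥X.M, (x : G) ∈ X.O ∧ X.z * x * X.z⁻¹ = (x : G)⁻¹ ∧ X.q x = v := by
  obtain ⟨x, hx, rfl⟩ := X.mem_V.1 hv
  have h := X.V_inv hv
  rw [← map_inv, ← map_inv, ← map_mul, ← map_mul, eq_comm, q_eq] at h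
  change (x : G)⁻¹⁻¹ * (X.z * x * X.z⁻¹) ∈ X.A at h
  rw [inv_inv] at h
  set α := (x : G) * (X.z * x * X.z⁻¹) with hα
  have hzα := X.A_comm h X.z_mem_Ca
  have hxα := X.A_comm h (X.O_le hx)
  refine ⟨x * ⟨α, X.O_le_M (X.A_le_O h)⟩, mul_mem hx (X.A_le_O h), ?_, ?_⟩
  · show X.z * ((x : G) * α) * X.z⁻¹ = ((x : G) * α)⁻¹
    have e1 : X.z * (x : G) * X.z⁻¹ = (x : G)⁻¹ * α := by rw [hα]; group
    rw [show X.z * ((x : G) * α) * X.z⁻¹ = (X.z * x * X.z⁻¹) * (X.z * α * X.z⁻¹) by group, e1, hzα,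
      mul_inv_cancel_right, mul_assoc, eq_inv_of_mul_eq_one_left (show α * α * α = 1 by
        rw [← pow_two, ← pow_succ]; exact X.A_cube h), ← mul_inv_rev, hxα]
  · rw [map_mul, (X.q_eq_one (x := ⟨α, X.O_le_M (X.A_le_O h)⟩)).2 h, mul_one]

theorem fixed_inverted {α : G} (hα : α ∈ X.A) (h : X.z * α * X.z⁻¹ = α⁻¹) : α = 1 := by
  refine X.A_sq hα (mul_eq_one_iff_eq_inv.2 ?_)
  rwa [X.A_comm hα X.z_mem_Ca, mul_inv_cancel_right] at h

theorem comm_A {h x : G} (hh : h ∈ X.O) (hx : x ∈ X.O) : h * x * h⁻¹ * x⁻¹ ∈ X.A := by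
  refine (X.q_eq_one (x := ⟨h, X.O_le_M hh⟩ * ⟨x, X.O_le_M hx⟩ * ⟨h, X.O_le_M hh⟩⁻¹ * ⟨x, X.O_le_M hx⟩⁻¹)).1 ?_
  rw [map_mul, map_mul, map_mul, map_inv, map_inv,
    X.V_comm (X.mem_V.2 ⟨⟨h, X.O_le_M hh⟩, hh, rfl⟩) (X.mem_V.2 ⟨⟨x, X.O_le_M hx⟩, hx, rfl⟩)]
  group

theorem IsI.eq_one_of_A {x : G} (hx : X.IsI x) (hA : x ∈ X.A) : x = 1 := X.fixed_inverted hA hx.2.2.2.1

include h3 in
theorem inv_cube {x : G} (hx : x ∈ X.O) (hz : X.z * x * X.z⁻¹ = x⁻¹) : x ^ 3 = 1 := by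
  have hA : x ^ 3 ∈ X.A := by
    have h := h3 _ (X.mem_V.2 ⟨⟨x, X.O_le_M hx⟩, hx, rfl⟩)
    rw [← map_pow] at h
    exact X.q_eq_one.1 h
  exact X.fixed_inverted hA (by rw [← conj_pow, hz, inv_pow])

/-- An inverted element of the odd core commuting modulo the lifted 3-cycle commutes. -/
theorem comm_of_fixed {u : ↥X.C} (hu : X.Fix u) {x : G} (hx : x ∈ X.O) (hz : X.z * x * X.z⁻¹ = x⁻¹)
    (h : X.qF u hu * X.q ⟨x, X.O_le_M hx⟩ * (X.qF u hu)⁻¹ = X.q ⟨x, X.O_le_M hx⟩) : x * u = u * x := by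
  rw [qF, ← map_inv, ← map_mul, ← map_mul, eq_comm, q_eq] at h
  change x⁻¹ * ((u : G) * x * (u : G)⁻¹) ∈ X.A at h
  set α := x⁻¹ * ((u : G) * x * (u : G)⁻¹) with hα
  have huz : (u : G) * X.z = X.z * u := X.mem_C.1 u.2
  have h1 : X.z * α * X.z⁻¹ = α⁻¹ := by
    have e1 : X.z * x⁻¹ * X.z⁻¹ = x := by
      rw [show X.z * x⁻¹ * X.z⁻¹ = (X.z * x * X.z⁻¹)⁻¹ by group, hz, inv_inv]
    have hb : X.z * ((u : G) * x * (u : G)⁻¹) * X.z⁻¹ = (u : G) * x⁻¹ * (u : G)⁻¹ := by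
      rw [show X.z * ((u : G) * x * (u : G)⁻¹) * X.z⁻¹ = (X.z * u) * x * (X.z * (u : G))⁻¹ by group, ← huz,
        show (u : G) * X.z * x * ((u : G) * X.z)⁻¹ = u * (X.z * x * X.z⁻¹) * (u : G)⁻¹ by group, hz]
    have hxα := X.A_comm h (X.O_le hx)
    calc X.z * α * X.z⁻¹ = (X.z * x⁻¹ * X.z⁻¹) * (X.z * ((u : G) * x * (u : G)⁻¹) * X.z⁻¹) := by
          rw [hα]; group
      _ = x * ((u : G) * x⁻¹ * (u : G)⁻¹) := by rw [e1, hb]
      _ = x * (x * α)⁻¹ := by rw [hα]; group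
      _ = α⁻¹ := by rw [hxα]; group
  have h2 := X.fixed_inverted h h1
  rw [hα, inv_mul_eq_one] at h2
  exact eq_mul_inv_iff_mul_eq.1 h2

theorem IsI.mem_O {x : G} (hx : X.IsI x) : x ∈ X.O := by
  obtain ⟨o, ho, k, hk, -, e⟩ := X.Ca_decomp hx.mem_Ca
  have h2 : x * x ∈ X.O := by
    have e1 : x * X.z * x⁻¹ * X.z⁻¹ = o * (X.z * o⁻¹ * X.z⁻¹) := by
      rw [e, show o * k * X.z * (o * k)⁻¹ * X.z⁻¹ = o * (k * X.z * k⁻¹) * o⁻¹ * X.z⁻¹ by group,
        X.mem_C.1 hk, mul_inv_cancel_right]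
      group
    have e2 : x * X.z * x⁻¹ * X.z⁻¹ = x * x := by
      rw [show x * X.z * x⁻¹ * X.z⁻¹ = x * (X.z * x * X.z⁻¹)⁻¹ by group, hx.2.2.2.1, inv_inv]
    rw [← e2, e1]
    exact mul_mem ho (X.O_conj X.z_mem_Ca (inv_mem ho))
  have h4 : x = (x * x) ^ 2 := by
    rw [← pow_two, ← pow_mul, show 2 * 2 = 3 + 1 from rfl, pow_succ, hx.2.2.2.2, one_mul]
  rw [h4]; exact pow_mem h2 2

/-- The image in the quotient. -/
def qI {x : G} (hx : X.IsI x) : ↥X.V :=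
  ⟨X.q ⟨x, X.O_le_M hx.mem_O⟩, X.mem_V.2 ⟨_, hx.mem_O, rfl⟩⟩

theorem qI_mem {x : G} (hx : X.IsI x) : X.qI hx ∈ X.L := by
  rw [L, mem_fixS]
  refine Subtype.ext ?_
  rw [act_coe, qF]
  show X.q _ * X.q ⟨x, _⟩ * (X.q _)⁻¹ = X.q ⟨x, _⟩
  rw [← map_inv, ← map_mul, ← map_mul]
  refine congrArg _ (Subtype.ext ?_)
  show (X.b : G) * x * (X.b : G)⁻¹ = x
  rw [← hx.2.1, mul_inv_cancel_right]

include hO h3 in
/-- The lift in the inverted plane. -/
theorem exists_I {v : ↥X.V} (hv : v ∈ X.L) : ∃ (x : G) (hx : X.IsI x), X.qI hx = v := by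
  obtain ⟨x, hxO, hz, hq⟩ := X.exists_inv_lift v.2
  have hcL := (X.plane_eq hO h3 X.fix_bc.2 (Or.inr (Or.inl rfl))).1
  have key : ∀ (u : ↥X.C) (hu : X.Fix u), X.act u hu v = v → (x : G) * u = u * x := fun u hu h => by
    refine X.comm_of_fixed hu hxO hz ?_
    have := congrArg Subtype.val h
    rw [act_coe, ← hq] at this
    exact this
  have hx : X.IsI (x : G) := ⟨X.mem_Ca.1 (X.O_le hxO), key _ _ (mem_fixS.1 hv), key _ _ (mem_fixS.1 (hcL ▸ hv)), hz,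
    X.inv_cube h3 hxO hz⟩
  exact ⟨x, hx, Subtype.ext hq⟩

include hO h3 in
theorem IsI.commute {x y : G} (hx : X.IsI x) (hy : X.IsI y) : x * y = y * x := by
  obtain ⟨v, hv⟩ := (X.plane_eq hO h3 X.fix_bc.1 (Or.inl rfl)).2.2 _ (X.qI_mem hy)
  obtain ⟨h, hh, hq⟩ := X.mem_V.1 v.2
  have hv' := congrArg Subtype.val hv
  rw [Subgroup.coe_mul, act_coe, Subgroup.coe_inv, ← hq, qF, qI, ← map_inv, ← map_inv, ← map_mul, ← map_mul,
    ← map_mul, eq_comm, q_eq] at hv'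
  change y⁻¹ * ((X.b : G) * h * (X.b : G)⁻¹ * (h : G)⁻¹) ∈ X.A at hv'
  set α := y⁻¹ * ((X.b : G) * h * (X.b : G)⁻¹ * (h : G)⁻¹) with hα
  set β := (h : G) * x * (h : G)⁻¹ * x⁻¹ with hβ
  have hβA : β ∈ X.A := X.comm_A hh hx.mem_O
  have hbb := X.A_comm hβA (X.fix_mem_Ca X.fix_bc.1)
  have e1 : (X.b : G) * h * (X.b : G)⁻¹ = y * α * h := by rw [hα]; group
  have hxb : (X.b : G) * x * (X.b : G)⁻¹ = x := by rw [← hx.2.1, mul_inv_cancel_right]
  have e2 : y * α * h * x * (y * α * (h : G))⁻¹ * x⁻¹ = β := by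
    rw [← e1]
    conv_lhs => rw [← hxb]
    rw [show (X.b : G) * h * (X.b : G)⁻¹ * ((X.b : G) * x * (X.b : G)⁻¹) * ((X.b : G) * h * (X.b : G)⁻¹)⁻¹ *
        ((X.b : G) * x * (X.b : G)⁻¹)⁻¹ = (X.b : G) * β * (X.b : G)⁻¹ by rw [hβ]; group, hbb, mul_inv_cancel_right]
  have hxα := X.A_comm hv' hx.mem_Ca
  have hyβ := X.A_comm hβA hy.mem_Ca
  have hαβ := X.A_comm hβA (X.A_le_Ca hv')
  have e3 : y * α * h * x * (y * α * (h : G))⁻¹ * x⁻¹ = β * (y * x * y⁻¹ * x⁻¹) := by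
    rw [show y * α * h * x * (y * α * (h : G))⁻¹ * x⁻¹ = y * (α * β) * x * α⁻¹ * y⁻¹ * x⁻¹ by rw [hβ]; group, hαβ,
      show y * (β * α) * x * α⁻¹ * y⁻¹ * x⁻¹ = (y * β) * (α * x) * α⁻¹ * y⁻¹ * x⁻¹ by group, ← hxα, hyβ]
    group
  have h4 : y * x * y⁻¹ * x⁻¹ = 1 := mul_eq_left.1 (e3.symm.trans e2)
  rw [mul_inv_eq_one, mul_inv_eq_iff_eq_mul] at h4
  exact h4.symm

include hO h3 in
theorem IsI.mul {x y : G} (hx : X.IsI x) (hy : X.IsI y) : X.IsI (x * y) := by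
  have hc := hx.commute X hO h3 hy
  obtain ⟨x1, x2, x3, x4, x5⟩ := hx
  obtain ⟨y1, y2, y3, y4, y5⟩ := hy
  refine ⟨((show Commute x _ from x1).mul_left y1).eq, ((show Commute x _ from x2).mul_left y2).eq,
    ((show Commute x _ from x3).mul_left y3).eq, ?_, by rw [(show Commute x y from hc).mul_pow, x5, y5, one_mul]⟩
  rw [show X.z * (x * y) * X.z⁻¹ = (X.z * x * X.z⁻¹) * (X.z * y * X.z⁻¹) by group, x4, y4, ← mul_inv_rev, hc]

theorem isI_one : X.IsI 1 := ⟨by group, by group, by group, by group, one_pow _⟩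

include hO h3 in
/-- Commutators with the odd core lie in the plane, and fill it. -/
theorem core_comm {u : ↥X.C} (hu : X.Fix u) (hu' : u = X.b ∨ u = X.c ∨ u = X.c * X.b ∨ u = X.c * X.b⁻¹) :
    (∀ h ∈ X.O, ∃ ι α, X.IsI ι ∧ α ∈ X.A ∧ h * u * h⁻¹ = u * ι * α) ∧
      ∀ ι, X.IsI ι → ∃ h ∈ X.O, ∃ α ∈ X.A, h * u * h⁻¹ = u * ι * α := by
  obtain ⟨-, hmem, hsurj⟩ := X.plane_eq hO h3 hu hu'
  set φ := X.act u hu
  have key : ∀ (hM : ↥X.M) (hh : (hM : G) ∈ X.O) (ι : G) (hι : X.IsI ι)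
      (w : ↥X.V), (w : X.Q) = (X.qF u hu)⁻¹ * X.q hM * X.qF u hu → (φ w * w⁻¹)⁻¹ = X.qI hι →
      ∃ α ∈ X.A, (hM : G) * u * (hM : G)⁻¹ = u * ι * α := by
    intro hM hh ι hι w hw e
    have e' := congrArg Subtype.val e
    rw [Subgroup.coe_inv, Subgroup.coe_mul, act_coe, Subgroup.coe_inv, hw, qI, qF] at e'
    set U : ↥X.M := ⟨u, X.Ca_le_M (X.fix_mem_Ca hu)⟩
    simp only [← map_inv, ← map_mul] at e'
    rw [eq_comm, q_eq] at e'
    change ι⁻¹ * ((u : G) * ((u : G)⁻¹ * hM * u) * (u : G)⁻¹ * ((u : G)⁻¹ * hM * u)⁻¹)⁻¹ ∈ X.A at e'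
    refine ⟨_, e', ?_⟩
    group
  refine ⟨fun h hh => ?_, fun ι hι => ?_⟩
  · let w : ↥X.V := ⟨(X.qF u hu)⁻¹ * X.q ⟨h, X.O_le_M hh⟩ * X.qF u hu, by
      have := Subgroup.Normal.conj_mem (inferInstance : X.V.Normal) _
        (X.mem_V.2 ⟨⟨h, X.O_le_M hh⟩, hh, rfl⟩) (X.qF u hu)⁻¹
      rwa [inv_inv] at this⟩
    obtain ⟨ι, hι, e⟩ := X.exists_I hO h3 (inv_mem (hmem w))
    obtain ⟨α, hα, e'⟩ := key ⟨h, X.O_le_M hh⟩ hh ι hι w rfl e.symm
    exact ⟨ι, α, hι, hα, e'⟩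
  · obtain ⟨w, hw⟩ := hsurj _ (inv_mem (X.qI_mem hι))
    obtain ⟨v, hv, hvq⟩ := X.mem_V.1 (Subgroup.Normal.conj_mem (inferInstance : X.V.Normal) _ w.2 (X.qF u hu))
    obtain ⟨α, hα, e'⟩ := key v hv ι hι w (by rw [hvq]; group) (inv_eq_iff_eq_inv.2 hw)
    exact ⟨v, hv, α, hα, e'⟩

/-- An element of the centralizer conjugate to the lifted 3-cycle moves three points. -/
theorem fusion {y : ↥X.C} {g : G} (h : g * X.a * g⁻¹ = y) : (X.D.π y).support.card = 3 := by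
  classical
  set u := g⁻¹ * X.z * g with hu
  have huu : u * u = 1 := by
    rw [hu, show g⁻¹ * X.z * g * (g⁻¹ * X.z * g) = g⁻¹ * (X.z * X.z) * g by group, X.zz']; group
  have huCa : u ∈ X.Ca := X.mem_Ca.2 (by
    have hy : (y : G) * X.z = X.z * y := X.mem_C.1 y.2
    rw [show (X.a : G) = g⁻¹ * y * g by rw [← h]; group, hu,
      show g⁻¹ * X.z * g * (g⁻¹ * (y : G) * g) = g⁻¹ * (X.z * y) * g by group, ← hy]
    group)
  obtain ⟨o, hoCa, ho⟩ : ∃ o, o ∈ X.Ca ∧ o * X.z * o⁻¹ = u := by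
    set w := u * X.z with hw
    have zi : X.z⁻¹ = X.z := invol_inv X.hz
    have hwi : X.z * w * X.z⁻¹ = w⁻¹ := by
      rw [hw, mul_inv_rev, zi, inv_eq_of_mul_eq_one_right huu,
        show X.z * (u * X.z) * X.z = X.z * u * (X.z * X.z) by group, X.zz', mul_one]
    have hwCa : w ∈ X.Ca := mul_mem huCa X.z_mem_Ca
    rcases Nat.even_or_odd (orderOf w) with ⟨m, hm⟩ | ⟨m, hm⟩
    · have hpos := orderOf_pos w
      have hv1 : w ^ m ≠ 1 := fun e => by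
        have := Nat.le_of_dvd (by omega) (orderOf_dvd_of_pow_eq_one e)
        omega
      have hv2 : w ^ m * w ^ m = 1 := by rw [← pow_add, ← hm, pow_orderOf_eq_one]
      have hvC : w ^ m ∈ X.C := X.mem_C.2 (by
        have e1 : X.z * w ^ m * X.z⁻¹ = w ^ m := by
          rw [← conj_pow, hwi, inv_pow, inv_eq_of_mul_eq_one_right hv2]
        exact (mul_inv_eq_iff_eq_mul.1 e1).symm)
      have hz := X.invol_Ca hv2 hvC (pow_mem hwCa m) hv1
      have hcu : u * X.z = X.z * u := by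
        have hcw : X.z * w = w * X.z := by rw [← hz]; exact ((Commute.refl w).pow_left m).eq
        calc u * X.z = w := hw.symm
          _ = w * X.z * X.z := by rw [mul_assoc, X.zz', mul_one]
          _ = X.z * w * X.z := by rw [hcw]
          _ = X.z * u * (X.z * X.z) := by rw [hw]; group
          _ = X.z * u := by rw [X.zz', mul_one]
      refine ⟨1, one_mem _, ?_⟩
      rw [one_mul, inv_one, mul_one]
      refine (X.invol_Ca huu (X.mem_C.2 hcu) huCa ?_).symm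
      rw [hu]
      intro e
      exact (invol_iff.1 X.hz).2 (by rwa [mul_eq_one_iff_eq_inv, mul_eq_left] at e)
    · refine ⟨w ^ (m + 1), pow_mem hwCa _, ?_⟩
      have e1 : X.z * (w ^ (m + 1))⁻¹ = w ^ (m + 1) * X.z := by
        refine mul_inv_eq_iff_eq_mul.1 ?_
        rw [← inv_pow, ← conj_pow,
          show X.z * w⁻¹ * X.z⁻¹ = (X.z * w * X.z⁻¹)⁻¹ by group, hwi, inv_inv]
      rw [mul_assoc, e1, ← mul_assoc, ← pow_add, show m + 1 + (m + 1) = orderOf w + 1 by omega, pow_succ,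
        pow_orderOf_eq_one, one_mul, hw, mul_assoc, X.zz', mul_one]
  have hz' : g * o * X.z = X.z * (g * o) := by
    calc g * o * X.z = g * (o * X.z * o⁻¹) * o := by group
      _ = X.z * (g * o) := by rw [ho, hu]; group
  have e : g * o * (X.a : G) * (g * o)⁻¹ = y := by
    rw [show g * o * (X.a : G) * (g * o)⁻¹ = g * (o * X.a * o⁻¹) * g⁻¹ by group, X.mem_Ca.1 hoCa,
      mul_inv_cancel_right, h]
  have h2 := congrArg X.D.π (Subtype.ext e : (⟨g * o, X.mem_C.2 hz'⟩ : ↥X.C) * X.a * ⟨g * o, X.mem_C.2 hz'⟩⁻¹ = y)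
  rw [map_mul, map_mul, map_inv, X.π_a9] at h2
  rw [← h2, Perm.card_support_conj]
  decide +kernel

theorem mem_A_cases {α : G} (hα : α ∈ X.A) : ∃ i : Fin 3, α = (X.a : G) ^ (i : ℕ) := by
  obtain ⟨i, rfl⟩ := mem_zpowers_iff.1 hα
  refine ⟨⟨(i % 3).toNat, by omega⟩, ?_⟩
  show _ = (X.a : G) ^ ((i % 3).toNat)
  rw [← zpow_natCast, Int.toNat_of_nonneg (Int.emod_nonneg _ (by norm_num))]
  conv_lhs => rw [← Int.emod_add_mul_ediv i 3]
  rw [zpow_add, zpow_mul, show (X.a : G) ^ (3 : ℤ) = 1 from (zpow_natCast _ 3).trans X.a_pow_three, one_zpow, mul_one]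

include hO h3 in
/-- The commutators with the second triple have no component along the first. -/
theorem core_b {h : G} (hh : h ∈ X.O) : ∃ ι, X.IsI ι ∧ h * X.b * h⁻¹ = X.b * ι := by
  classical
  obtain ⟨ι, α, hι, hα, e⟩ := (X.core_comm hO h3 X.fix_bc.1 (Or.inl rfl)).1 h hh
  by_cases hα1 : α = 1
  · exact ⟨ι, hι, by rw [e, hα1, mul_one]⟩
  exfalso
  obtain ⟨i, rfl⟩ := X.mem_A_cases hα
  have hi0 : (i : ℕ) ≠ 0 := fun h0 => hα1 (by rw [h0, pow_zero])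
  -- transported to the first triple
  obtain ⟨u, hu, hu', huval⟩ : ∃ u : ↥X.C, X.Fix u ∧
      (u = X.b ∨ u = X.c ∨ u = X.c * X.b ∨ u = X.c * X.b⁻¹) ∧ u = X.c * X.b ^ (i : ℕ) := by
    have hbi : X.Fix X.b⁻¹ := fun j hj => by
      rw [map_inv, Perm.inv_eq_iff_eq]; exact (X.fix_bc.1 j hj).symm
    have fm : ∀ {p r : ↥X.C}, X.Fix p → X.Fix r → X.Fix (p * r) := fun hp hr j hj => by
      rw [map_mul, Perm.mul_apply, hr j hj, hp j hj]
    rcases (show (i : ℕ) = 1 ∨ (i : ℕ) = 2 by omega) with h1 | h2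
    · exact ⟨_, fm X.fix_bc.2 X.fix_bc.1, Or.inr (Or.inr (Or.inl rfl)), by rw [h1, pow_one]⟩
    · refine ⟨_, fm X.fix_bc.2 hbi, Or.inr (Or.inr (Or.inr rfl)), ?_⟩
      rw [h2, inv_eq_of_mul_eq_one_right (show X.b * X.b ^ 2 = 1 by rw [← pow_succ']; exact X.b_cube)]
  have htι := (hι.conj_t X).1
  obtain ⟨k, hk, β, hβ, ek⟩ := (X.core_comm hO h3 hu hu').2 _ htι.mul_inv
  set ι' := (X.t : G) * ι * (X.t : G)⁻¹ with hι'
  set γ := k * ι' * k⁻¹ * ι'⁻¹ with hγ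
  have hγA : γ ∈ X.A := X.comm_A hk htι.mem_O
  obtain ⟨j, hj⟩ := X.mem_A_cases (mul_mem hβ hγA)
  have e1 : k * ((u : G) * ι') * k⁻¹ = ((u * X.a ^ (j : ℕ) : ↥X.C) : G) := by
    rw [Subgroup.coe_mul, Subgroup.coe_pow, ← hj]
    have hβι : ι'⁻¹ * β = β * ι'⁻¹ := X.A_comm hβ (inv_mem htι.mem_Ca)
    have hγι : ι' * γ = γ * ι' := X.A_comm hγA htι.mem_Ca
    calc k * ((u : G) * ι') * k⁻¹ = (k * u * k⁻¹) * (k * ι' * k⁻¹) := by group
      _ = (u * ι'⁻¹ * β) * (γ * ι') := by rw [ek, show k * ι' * k⁻¹ = γ * ι' by rw [hγ]; group]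
      _ = u * (ι'⁻¹ * β) * (ι' * γ) := by rw [← hγι]; group
      _ = u * (β * γ) := by rw [hβι]; group
  have e2 : (X.t : G) * ((X.b : G) * ι * (X.a : G) ^ (i : ℕ)) * (X.t : G)⁻¹ = (u : G) * ι' := by
    have hιa : ι * (X.a : G) ^ (i : ℕ) = (X.a : G) ^ (i : ℕ) * ι :=
      ((show Commute ι (X.a : G) from hι.1).pow_right _).eq
    rw [show (X.b : G) * ι * (X.a : G) ^ (i : ℕ) = (X.b : G) * ((X.a : G) ^ (i : ℕ) * ι) by rw [mul_assoc, hιa],
      hι', huval, Subgroup.coe_mul, Subgroup.coe_pow,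
      show (X.t : G) * ((X.b : G) * ((X.a : G) ^ (i : ℕ) * ι)) * (X.t : G)⁻¹ = ((X.t : G) * X.b * (X.t : G)⁻¹) *
        ((X.t : G) * (X.a : G) ^ (i : ℕ) * (X.t : G)⁻¹) * ((X.t : G) * ι * (X.t : G)⁻¹) by group, ← conj_pow]
    rfl
  have hfus := X.fusion (y := u * X.a ^ (j : ℕ)) (g := k * X.t * h * X.t) (by
    rw [← e1, ← e2, ← e, b]
    simp only [Subgroup.coe_mul, Subgroup.coe_inv]
    group)
  rw [huval, map_mul, map_mul, map_pow, map_pow, X.π_a9, X.π_b, X.π_c] at hfus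
  have key : ∀ i j : Fin 3, (i : ℕ) ≠ 0 →
      (cC * cB ^ (i : ℕ) * cA ^ (j : ℕ)).support.card ≠ 3 := by decide +kernel
  exact key i j hi0 hfus

include hO h3 in
/-- The same for the third triple. -/
theorem core_c {h : G} (hh : h ∈ X.O) : ∃ ι, X.IsI ι ∧ h * X.c * h⁻¹ = X.c * ι := by
  set w' : ↥X.C := X.t * X.e * X.t⁻¹ with hw'
  obtain ⟨ea, eb, ec⟩ := X.e_conj
  have hwb : w' * X.b * w'⁻¹ = X.c := by
    rw [hw', c, show X.t * X.e * X.t⁻¹ * X.b * (X.t * X.e * X.t⁻¹)⁻¹ =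
      X.t * (X.e * (X.t⁻¹ * X.b * X.t) * X.e⁻¹) * X.t⁻¹ by group, show X.t⁻¹ * X.b * X.t = X.a by rw [b]; group, ea]
  have hwa : w' * X.a * w'⁻¹ = X.a⁻¹ := by
    rw [hw', show X.t * X.e * X.t⁻¹ * X.a * (X.t * X.e * X.t⁻¹)⁻¹ =
      X.t * (X.e * (X.t⁻¹ * X.a * X.t) * X.e⁻¹) * X.t⁻¹ by group,
      (by rw [← X.t_c]; group : X.t⁻¹ * X.a * X.t = X.c), ec, ← X.t_c]
    group
  have hwM : (w' : G) ∈ X.M := X.mem_M (Or.inr (congrArg (fun x : ↥X.C => (x : G)) hwa))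
  obtain ⟨ι, hι, e⟩ := X.core_b hO h3 (h := (w' : G)⁻¹ * h * w') (by
    have := X.O_conj_M (inv_mem hwM) hh
    rwa [inv_inv] at this)
  refine ⟨(w' : G) * ι * (w' : G)⁻¹, ?_, ?_⟩
  · rw [hw']
    have := (((hι.conj_t X).2).conj_e X).conj_t X |>.1
    convert this using 1
    simp only [Subgroup.coe_mul, Subgroup.coe_inv]
    group
  · have hwb' : (w' : G) * X.b * (w' : G)⁻¹ = X.c := congrArg (fun x : ↥X.C => (x : G)) hwb
    calc h * X.c * h⁻¹ = h * ((w' : G) * X.b * (w' : G)⁻¹) * h⁻¹ := by rw [hwb']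
      _ = (w' : G) * (((w' : G)⁻¹ * h * w') * X.b * ((w' : G)⁻¹ * h * w')⁻¹) * (w' : G)⁻¹ := by group
      _ = (w' : G) * ((X.b : G) * ι) * (w' : G)⁻¹ := by rw [e]
      _ = ((w' : G) * X.b * (w' : G)⁻¹) * ((w' : G) * ι * (w' : G)⁻¹) := by group
      _ = _ := by rw [hwb']

include hO h3 in
/-- The plane centralises the odd core. -/
theorem IsI.comm_O {x : G} (hx : X.IsI x) {h : G} (hh : h ∈ X.O) : h * x = x * h := by
  obtain ⟨k, hk, α, hα, ek⟩ := (X.core_comm hO h3 X.fix_bc.1 (Or.inl rfl)).2 x hx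
  obtain ⟨ι₂, hι₂, ek'⟩ := X.core_b hO h3 hk
  obtain ⟨ι₁, hι₁, eh⟩ := X.core_b hO h3 hh
  obtain ⟨ι₃, hι₃, e3⟩ := X.core_b hO h3 (mul_mem hh hk)
  have hx2 : x = ι₂ := by
    rw [ek', mul_assoc, mul_right_inj] at ek
    have hxi := hx.mul_inv
    have h1 : X.IsI (x⁻¹ * ι₂) := hxi.mul X hO h3 hι₂
    have h2 : x⁻¹ * ι₂ ∈ X.A := by rw [ek, inv_mul_cancel_left]; exact hα
    exact inv_mul_eq_one.1 (h1.eq_one_of_A X h2)
  subst hx2
  set β := h * x * h⁻¹ * x⁻¹ with hβ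
  have hβA : β ∈ X.A := X.comm_A hh hx.mem_O
  have e4 : (X.b : G) * ι₃ = X.b * (ι₁ * β * x) := by
    rw [← e3, show h * k * (X.b : G) * (h * k)⁻¹ = h * (k * X.b * k⁻¹) * h⁻¹ by group, ek',
      show h * ((X.b : G) * x) * h⁻¹ = (h * X.b * h⁻¹) * (h * x * h⁻¹) by group, eh,
      show h * x * h⁻¹ = β * x by rw [hβ]; group]
    group
  have e5 : β = ι₁⁻¹ * ι₃ * x⁻¹ := by
    rw [mul_left_cancel e4]; group
  have h5 : X.IsI β := e5 ▸ (hι₁.mul_inv.mul X hO h3 hι₃).mul X hO h3 hx.mul_inv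
  have h6 := h5.eq_one_of_A X hβA
  rw [hβ, mul_inv_eq_one, mul_inv_eq_iff_eq_mul] at h6
  exact h6

end Core

end Ctx

end CfsgLib.Invol.AltDoubleCover
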