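import Cfsg.Agent.Lib.Invol.AltDoubleCover.Local
import Mathlib.GroupTheory.FixedPointFree

/-!
# The odd core modulo the lifted 3-cycle

The central involution inverts it, and its primary parts are bounded by fixed points of a second involution.
-/

set_option autoImplicit false
set_option maxRecDepth 100000

noncomputable section

namespace CfsgLib.Invol.AltDoubleCover

open Equiv Subgroup

namespace Ctx

variable {G : Type*} [Group G] {n : ℕ} (X : Ctx G n)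

/-- The group of the lifted 3-cycle. -/
abbrev A : Subgroup G := zpowers (X.a : G)

/-- Its normalizer. -/
def M : Subgroup G := normalizer (X.A : Set G)

theorem mem_M {g : G} (h : g * X.a * g⁻¹ = X.a ∨ g * X.a * g⁻¹ = (X.a : G)⁻¹) : g ∈ X.M := by
  refine mem_normalizer_iff_map_conj_eq.2 ?_
  rw [MonoidHom.map_zpowers]
  show zpowers (g * X.a * g⁻¹) = X.A
  rcases h with h | h
  · rw [h]
  · rw [h, zpowers_inv]

theorem Ca_le_M : X.Ca ≤ X.M := fun g hg => X.mem_M (Or.inl (by rw [X.mem_Ca.1 hg, mul_inv_cancel_right]))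

theorem w_mem_M : (X.w : G) ∈ X.M := X.mem_M (Or.inr (by rw [X.w_inv, X.w_conj_a]))

theorem A_le_Ca : X.A ≤ X.Ca := zpowers_le.2 (X.mem_Ca.2 rfl)

theorem A_comm {α g : G} (hα : α ∈ X.A) (hg : g ∈ X.Ca) : g * α = α * g := by
  obtain ⟨i, rfl⟩ := mem_zpowers_iff.1 hα
  exact ((show Commute g (X.a : G) from X.mem_Ca.1 hg).zpow_right i).eq

theorem A_cube {α : G} (hα : α ∈ X.A) : α ^ 3 = 1 := by
  obtain ⟨i, rfl⟩ := mem_zpowers_iff.1 hα
  rw [← zpow_natCast, ← zpow_mul, mul_comm, zpow_mul, zpow_natCast, X.a_pow_three, one_zpow]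

theorem A_sq {α : G} (hα : α ∈ X.A) (h : α * α = 1) : α = 1 := by
  have h3 := X.A_cube hα
  rwa [pow_succ, pow_two, h, one_mul] at h3

theorem w_conj_A {α : G} (hα : α ∈ X.A) : (X.w : G) * α * X.w = α⁻¹ := by
  obtain ⟨i, rfl⟩ := mem_zpowers_iff.1 hα
  have h := (map_zpow (MulAut.conj (X.w : G)) (X.a : G) i)
  simp only [MulAut.conj_apply, X.w_inv, X.w_conj_a, inv_zpow] at h
  exact h

theorem A_inter_w {α : G} (hα : α ∈ X.A) (h : α * X.w = X.w * α) : α = 1 := by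
  refine X.A_sq hα ?_
  have h1 := X.w_conj_A hα
  rw [← h, mul_assoc, ← Subgroup.coe_mul, X.w_sq, Subgroup.coe_one, mul_one] at h1
  exact mul_eq_one_iff_eq_inv.2 h1

theorem w_comm_z : (X.w : G) * X.z = X.z * X.w := X.mem_C.1 X.w.2

theorem ww : (X.w : G) * X.w = 1 := congrArg Subtype.val X.w_sq

variable [Finite G]

theorem A_le_O : X.A ≤ X.O := zpowers_le.2 X.a_mem_O

theorem O_le_M : X.O ≤ X.M := X.O_le.trans X.Ca_le_M

theorem O_conj_M {g : G} (hg : g ∈ X.M) {y : G} (hy : y ∈ X.O) : g * y * g⁻¹ ∈ X.O := by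
  have hn : ∀ h ∈ X.M, ∀ x ∈ X.Ca, h * x * h⁻¹ ∈ X.Ca := by
    intro h hh x hx
    obtain ⟨i, hi⟩ := mem_zpowers_iff.1 ((mem_normalizer_iff''.1 hh (X.a : G)).1 (mem_zpowers _))
    refine X.mem_Ca.2 ?_
    have hc : x * (h⁻¹ * X.a * h) = h⁻¹ * X.a * h * x := X.A_comm (mem_zpowers_iff.2 ⟨i, hi⟩) hx
    calc h * x * h⁻¹ * X.a = h * (x * (h⁻¹ * X.a * h)) * h⁻¹ := by group
      _ = h * (h⁻¹ * X.a * h * x) * h⁻¹ := by rw [hc]
      _ = X.a * (h * x * h⁻¹) := by group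
  refine X.le_O (N := X.O.map (MulAut.conj g).toMonoidHom) ?_ ?_ ?_ ⟨y, hy, rfl⟩
  · rintro _ ⟨x, hx, rfl⟩; exact hn g hg x (X.O_le hx)
  · rw [← Nat.card_congr (X.O.equivMapOfInjective _ (MulAut.conj g).injective).toEquiv]; exact X.O_odd
  · rintro c hc _ ⟨x, hx, rfl⟩
    refine ⟨(g⁻¹ * c * g) * x * (g⁻¹ * c * g)⁻¹, X.O_conj ?_ hx, ?_⟩
    · have := hn g⁻¹ (inv_mem hg) c hc; rwa [inv_inv] at this
    · simp only [MulEquiv.coe_toMonoidHom, MulAut.conj_apply]; group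

instance A_normal : (X.A.subgroupOf X.M).Normal := ⟨fun v hv g => mem_subgroupOf.2 (by
  have := (mem_normalizer_iff.1 g.2 (v : G)).1 (mem_subgroupOf.1 hv)
  simpa using this)⟩

/-- The normalizer modulo the lifted 3-cycle. -/
abbrev Q := ↥X.M ⧸ X.A.subgroupOf X.M

/-- The projection. -/
def q : ↥X.M →* X.Q := QuotientGroup.mk' _

theorem q_eq_one {x : ↥X.M} : X.q x = 1 ↔ (x : G) ∈ X.A := (QuotientGroup.eq_one_iff x).trans mem_subgroupOf

theorem q_eq {x y : ↥X.M} : X.q x = X.q y ↔ (x : G)⁻¹ * y ∈ X.A := QuotientGroup.eq.trans mem_subgroupOf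

/-- The odd core modulo the lifted 3-cycle. -/
def V : Subgroup X.Q := (X.O.subgroupOf X.M).map X.q

theorem mem_V {v : X.Q} : v ∈ X.V ↔ ∃ x : ↥X.M, (x : G) ∈ X.O ∧ X.q x = v := Iff.rfl

instance V_normal : X.V.Normal := by
  haveI : (X.O.subgroupOf X.M).Normal := ⟨fun v hv g => mem_subgroupOf.2 (by
    simpa using X.O_conj_M g.2 (mem_subgroupOf.1 hv))⟩
  exact Subgroup.Normal.map inferInstance _ (QuotientGroup.mk'_surjective _)

/-- The central involution in the normalizer. -/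
def zM : ↥X.M := ⟨X.z, X.Ca_le_M X.z_mem_Ca⟩
/-- The involution inverting the lifted 3-cycle. -/
noncomputable def wM : ↥X.M := ⟨X.w, X.w_mem_M⟩
/-- The element exchanging the two other involutions. -/
noncomputable def sM : ↥X.M := ⟨X.s, X.Ca_le_M X.s_mem_Ca⟩

theorem zM_sq : X.zM * X.zM = 1 := Subtype.ext X.zz'

theorem wM_sq : X.wM * X.wM = 1 := Subtype.ext X.ww

theorem wM_zM : X.wM * X.zM = X.zM * X.wM := Subtype.ext X.w_comm_z

theorem sM_wM : X.sM * X.wM = X.zM * X.wM * X.sM := Subtype.ext (by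
  show (X.s : G) * X.w = X.z * X.w * X.s
  rw [← X.Dz_mul, ← X.s_conj_w]
  simp)

/-- The central involution fixes only the lifted 3-cycle modulo itself. -/
theorem fpf {v : X.Q} (hv : v ∈ X.V) (h : X.q X.zM * v = v * X.q X.zM) : v = 1 := by
  obtain ⟨x, hx, rfl⟩ := X.mem_V.1 hv
  rw [← map_mul, ← map_mul, q_eq] at h
  have hα := X.A_comm h X.z_mem_Ca
  set α := ((X.zM * x : ↥X.M) : G)⁻¹ * (x * X.zM : ↥X.M) with hα'
  have e : (x : G) * X.z = X.z * x * α := by rw [hα']; show _ = X.z * x * ((X.z * x)⁻¹ * (x * X.z)); group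
  have hxα := X.A_comm h (X.O_le hx)
  have h1 : α * α = 1 := by
    have e2 : (x : G) = X.z * (X.z * x * α) * α := by
      calc (x : G) = (x : G) * (X.z * X.z) := by rw [X.zz', mul_one]
        _ = (X.z * x * α) * X.z := by rw [← mul_assoc, e]
        _ = X.z * (x * X.z) * α := by rw [mul_assoc (X.z * (x : G)), ← hα]; group
        _ = _ := by rw [e]
    rw [show X.z * (X.z * (x : G) * α) * α = (X.z * X.z) * x * (α * α) by group, X.zz', one_mul] at e2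
    exact mul_eq_left.1 e2.symm
  have h0 := X.A_sq h h1
  rw [h0, mul_one] at e
  exact X.q_eq_one.2 (X.O_inter hx (X.mem_C.2 e))

theorem V_inv {v : X.Q} (hv : v ∈ X.V) : X.q X.zM * v * (X.q X.zM)⁻¹ = v⁻¹ := by
  let φ : ↥X.V ≃* ↥X.V := MulAut.conjNormal (X.q X.zM)
  have h1 : MonoidHom.FixedPointFree φ := fun u hu => Subtype.ext (X.fpf u.2 (by
    have := congrArg Subtype.val hu
    exact mul_inv_eq_iff_eq_mul.1 this))
  have h2 : Function.Involutive φ := fun u => Subtype.ext (by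
    show X.q X.zM * (X.q X.zM * u * (X.q X.zM)⁻¹) * (X.q X.zM)⁻¹ = u
    rw [show X.q X.zM * (X.q X.zM * (u : X.Q) * (X.q X.zM)⁻¹) * (X.q X.zM)⁻¹ =
      (X.q X.zM * X.q X.zM) * u * (X.q X.zM * X.q X.zM)⁻¹ by group, ← map_mul, X.zM_sq, map_one, one_mul, inv_one,
      mul_one])
  exact congrArg Subtype.val (congrFun (h1.coe_eq_inv_of_involutive h2) ⟨v, hv⟩)

theorem V_comm {u v : X.Q} (hu : u ∈ X.V) (hv : v ∈ X.V) : u * v = v * u := by
  have h := X.V_inv (mul_mem hu hv)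
  rw [show X.q X.zM * (u * v) * (X.q X.zM)⁻¹ = (X.q X.zM * u * (X.q X.zM)⁻¹) * (X.q X.zM * v * (X.q X.zM)⁻¹) by group,
    X.V_inv hu, X.V_inv hv, mul_inv_rev] at h
  simpa using congrArg Inv.inv h.symm

theorem card_O : Nat.card X.O = 3 * Nat.card X.V := by
  let f : ↥X.O →* X.Q := X.q.comp (Subgroup.inclusion X.O_le_M)
  have hr : f.range = X.V := by
    ext v; constructor
    · rintro ⟨x, rfl⟩; exact X.mem_V.2 ⟨_, x.2, rfl⟩
    · intro hv; obtain ⟨x, hx, rfl⟩ := X.mem_V.1 hv; exact ⟨⟨x, hx⟩, rfl⟩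
  have hk : f.ker = X.A.subgroupOf X.O := by
    ext x; rw [MonoidHom.mem_ker, mem_subgroupOf]; exact X.q_eq_one
  rw [← f.ker.card_mul_index, Subgroup.index_ker, hr, hk, Nat.card_congr (subgroupOfEquivOfLe X.A_le_O).toEquiv,
    X.card_A]

theorem O_eq_A (h : ∀ v ∈ X.V, v = 1) : X.O = X.A := le_antisymm (fun x hx => X.q_eq_one.1
  (h _ (X.mem_V.2 ⟨⟨x, X.O_le_M hx⟩, hx, rfl⟩))) X.A_le_O

/-- The elements killed by `e` in the quotient of the odd core. -/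
def Vp (e : ℕ) : Subgroup X.Q where
  carrier := {v | v ∈ X.V ∧ v ^ e = 1}
  one_mem' := ⟨one_mem _, one_pow _⟩
  mul_mem' := by
    rintro u v ⟨hu, hue⟩ ⟨hv, hve⟩
    exact ⟨mul_mem hu hv, by rw [Commute.mul_pow (X.V_comm hu hv), hue, hve, one_mul]⟩
  inv_mem' := by
    rintro u ⟨hu, hue⟩
    exact ⟨inv_mem hu, by rw [inv_pow, hue, inv_one]⟩

theorem mem_Vp {e : ℕ} {v : X.Q} : v ∈ X.Vp e ↔ v ∈ X.V ∧ v ^ e = 1 := Iff.rfl

instance Vp_normal (e : ℕ) : (X.Vp e).Normal := ⟨fun v hv g =>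
  ⟨Subgroup.Normal.conj_mem inferInstance v hv.1 g, by rw [conj_pow, hv.2, mul_one, mul_inv_cancel]⟩⟩

/-- An element of the odd core fixed by the second involution is inverted by the central one. -/
theorem inverted_of_w {x : G} (hx : x ∈ X.O) (hw : x * X.w = X.w * x) : X.z * x * X.z⁻¹ = x⁻¹ := by
  have h := X.V_inv (X.mem_V.2 ⟨⟨x, X.O_le_M hx⟩, hx, rfl⟩)
  rw [← map_inv, ← map_inv, ← map_mul, ← map_mul, q_eq] at h
  change (X.z * x * X.z⁻¹)⁻¹ * x⁻¹ ∈ X.A at h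
  have h1 := X.A_inter_w h ?_
  · exact inv_mul_eq_one.1 h1
  · have hzw : Commute (X.w : G) X.z := X.w_comm_z
    have hxw : Commute (X.w : G) x := hw.symm
    exact (((hzw.mul_right hxw).mul_right hzw.inv_right).inv_right.mul_right hxw.inv_right).symm.eq

/-- The elements killed by `e` of the odd core fixed by the second involution. -/
def W (e : ℕ) : Subgroup G where
  carrier := {x | x ∈ X.O ∧ x * X.w = X.w * x ∧ x ^ e = 1}
  one_mem' := ⟨one_mem _, by group, one_pow _⟩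
  mul_mem' := by
    rintro x y ⟨hx, hxw, hxe⟩ ⟨hy, hyw, hye⟩
    have hxyw : x * y * X.w = X.w * (x * y) := by rw [mul_assoc, hyw, ← mul_assoc, hxw, mul_assoc]
    refine ⟨mul_mem hx hy, hxyw, ?_⟩
    have hc : x * y = y * x := by
      have h := X.inverted_of_w (mul_mem hx hy) hxyw
      rw [show X.z * (x * y) * X.z⁻¹ = (X.z * x * X.z⁻¹) * (X.z * y * X.z⁻¹) by group, X.inverted_of_w hx hxw,
        X.inverted_of_w hy hyw, mul_inv_rev] at h
      simpa using congrArg Inv.inv h.symm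
    rw [Commute.mul_pow hc, hxe, hye, one_mul]
  inv_mem' := by
    rintro x ⟨hx, hxw, hxe⟩
    exact ⟨inv_mem hx, (show Commute x (X.w : G) from hxw).inv_left.eq, by rw [inv_pow, hxe, inv_one]⟩

/-- Transfer to the centralizer of the second involution. -/
theorem card_W (e : ℕ) : Nat.card (X.W e) ∣ n.factorial ∧
    (IsPGroup 3 (X.W e) → Nat.card (X.W e) ≤ 9) := by
  classical
  have hwne : (X.w : G) ≠ 1 := fun h => X.w_ne (by rw [show X.w = 1 from Subtype.ext h, map_one])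
  have hwz : X.z ≠ (X.w : G) := fun h => X.w_ne (by
    rw [show X.w = X.D.z from Subtype.ext (by rw [X.Dz, ← h]), X.D.π_z])
  obtain ⟨g, hg⟩ := X.exists_conj_z X.ww hwne X.w.2
  let Y := X.moveTo g (X.w : G) hg
  have hle : X.W e ≤ Y.C := fun x hx => Y.mem_C.2 hx.2.1
  let f : ↥(X.W e) →* Perm (Fin n) := Y.D.π.comp (Subgroup.inclusion hle)
  have hinj : Function.Injective f := by
    rw [injective_iff_map_eq_one]
    intro x hx
    exact Subtype.ext (Y.eq_one_of_odd X.O_odd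
      (congrArg Subtype.val (pow_card_eq_one' (G := X.O) (x := ⟨x, x.2.1⟩))) _ hx)
  have hcard : Nat.card (X.W e) = Nat.card f.range := Nat.card_congr (MonoidHom.ofInjective hinj).toEquiv
  refine ⟨?_, fun h3 => ?_⟩
  · have := f.range.card_subgroup_dvd_card
    rwa [Nat.card_perm, Nat.card_fin, ← hcard] at this
  · have hz : X.z ∈ Y.C := Y.mem_C.2 X.w_comm_z.symm
    set σ := Y.D.π ⟨X.z, hz⟩ with hσ'
    have hσ : σ * σ = 1 := by
      rw [hσ', ← map_mul, show (⟨X.z, hz⟩ : ↥Y.C) * ⟨X.z, hz⟩ = 1 from Subtype.ext X.zz', map_one]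
    have hne : σ ≠ 1 := fun h => by
      rcases Y.cases_one h with e1 | e1
      · exact (invol_iff.1 X.hz).2 e1
      · exact hwz e1
    obtain ⟨j, hj, hs⟩ := Y.D.invol_support (c := ⟨X.z, hz⟩) (Subtype.ext X.zz') hne
    have hn : σ.support.card ≤ n := (Finset.card_le_univ _).trans (by rw [Fintype.card_fin])
    rw [hcard]
    refine inverted_card_le X.h9 X.h10 f.range ((h3.of_equiv (MonoidHom.ofInjective hinj))) ?_ σ hσ
      (by have := X.h10; rw [← hσ'] at hs; omega) ?_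
    · rintro _ ⟨x, rfl⟩ _ ⟨y, rfl⟩
      rw [← map_mul, ← map_mul]
      refine congrArg f (Subtype.ext ?_)
      have hxy := mul_mem x.2 y.2
      have h := X.inverted_of_w hxy.1 hxy.2.1
      rw [show X.z * ((x : G) * y) * X.z⁻¹ = (X.z * (x : G) * X.z⁻¹) * (X.z * (y : G) * X.z⁻¹) by group,
        X.inverted_of_w x.2.1 x.2.2.1, X.inverted_of_w y.2.1 y.2.2.1, mul_inv_rev] at h
      simpa using congrArg Inv.inv h.symm
    · rintro _ ⟨x, rfl⟩
      rw [← map_inv f, hσ', ← map_inv]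
      show Y.D.π ⟨X.z, hz⟩ * Y.D.π _ * Y.D.π _ = Y.D.π _
      rw [← map_mul, ← map_mul]
      exact congrArg _ (Subtype.ext (X.inverted_of_w x.2.1 x.2.2.1))

/-- A lift fixed by the second involution. -/
theorem exists_W {e : ℕ} {v : X.Q} (hv : v ∈ X.Vp e) (hw : X.q X.wM * v * X.q X.wM = v) :
    ∃ x : ↥X.M, (x : G) ∈ X.W e ∧ X.q x = v := by
  obtain ⟨⟨x, hxM, rfl⟩, hve⟩ := X.mem_Vp.1 hv
  have hxO : (x : G) ∈ X.O := hxM
  rw [← map_mul, ← map_mul, eq_comm, q_eq] at hw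
  change (x : G)⁻¹ * ((X.w : G) * x * X.w) ∈ X.A at hw
  set α := (x : G)⁻¹ * ((X.w : G) * x * X.w) with hα
  have hαi : α⁻¹ ∈ X.A := inv_mem hw
  refine ⟨x * ⟨α⁻¹, X.O_le_M (X.A_le_O hαi)⟩, ?_, ?_⟩
  · have hO : (x : G) * α⁻¹ ∈ X.O := mul_mem hxO (X.A_le_O hαi)
    have hc : (x : G) * α⁻¹ * X.w = X.w * ((x : G) * α⁻¹) := by
      have e1 : (X.w : G) * ((x : G) * α⁻¹) * X.w = (x : G) * α⁻¹ := by
        calc (X.w : G) * ((x : G) * α⁻¹) * X.w
            = ((X.w : G) * x * X.w) * ((X.w : G) * α⁻¹ * X.w) := by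
              conv_lhs => rw [← mul_one (x : G), ← X.ww]
              group
          _ = (x : G) * α * α := by rw [X.w_conj_A hαi, inv_inv, hα]; group
          _ = (x : G) * α⁻¹ := by
              rw [mul_assoc, show α * α = α⁻¹ from eq_inv_of_mul_eq_one_left (by
                rw [← pow_three']; exact X.A_cube hw)]
      calc (x : G) * α⁻¹ * X.w = (X.w : G) * ((x : G) * α⁻¹) * (X.w * X.w) := by
            rw [← mul_assoc _ (X.w : G) (X.w : G), e1]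
        _ = _ := by rw [X.ww, mul_one]
    refine ⟨hO, hc, X.A_inter_w ?_ ((show Commute ((x : G) * α⁻¹) (X.w : G) from hc).pow_left e).eq⟩
    have h1 : X.q ((x * ⟨α⁻¹, X.O_le_M (X.A_le_O hαi)⟩) ^ e) = 1 := by
      rw [map_pow, map_mul, (X.q_eq_one (x := ⟨α⁻¹, X.O_le_M (X.A_le_O hαi)⟩)).2 hαi, mul_one, hve]
    exact X.q_eq_one.1 h1
  · rw [map_mul, (X.q_eq_one (x := ⟨α⁻¹, X.O_le_M (X.A_le_O hαi)⟩)).2 hαi, mul_one]

/-- The bound on the quotient. -/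
theorem card_Vp {e : ℕ} (he : Odd e) : Nat.card (X.Vp e) ≤ Nat.card (X.W e) * Nat.card (X.W e) := by
  set ω := X.q X.wM with hω
  set ζ := X.q X.zM with hζ
  set τ := X.q X.sM with hτ
  have hωω : ω * ω = 1 := by rw [hω, ← map_mul, X.wM_sq, map_one]
  have hωi : ω⁻¹ = ω := inv_eq_of_mul_eq_one_right hωω
  have hζi : ζ⁻¹ = ζ := inv_eq_of_mul_eq_one_right (by rw [hζ, ← map_mul, X.zM_sq, map_one])
  have hωζ : ω * ζ = ζ * ω := by rw [hω, hζ, ← map_mul, X.wM_zM, map_mul]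
  have hτω : τ * ω = ζ * ω * τ := by rw [hω, hζ, hτ, ← map_mul, X.sM_wM, map_mul, map_mul]
  have hmem : ∀ {g v : X.Q}, v ∈ X.Vp e → g * v * g⁻¹ ∈ X.Vp e := fun hv =>
    Subgroup.Normal.conj_mem inferInstance _ hv _
  have hcomm : ∀ {u v : X.Q}, u ∈ X.Vp e → v ∈ X.Vp e → u * v = v * u := fun hu hv => X.V_comm hu.1 hv.1
  -- fixed by the first involution
  let u1 : X.Q → X.Q := fun v => v * (ω * v * ω⁻¹)
  let u2 : X.Q → X.Q := fun v => τ⁻¹ * (v * (ω * v * ω⁻¹)⁻¹) * τ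
  have m1 : ∀ v ∈ X.Vp e, u1 v ∈ X.Vp e ∧ ω * u1 v * ω = u1 v := by
    intro v hv
    refine ⟨mul_mem hv (hmem hv), ?_⟩
    calc ω * (v * (ω * v * ω⁻¹)) * ω = (ω * v * ω⁻¹) * (ω * ω) * v * (ω⁻¹ * ω) := by group
      _ = (ω * v * ω⁻¹) * v := by rw [hωω]; group
      _ = _ := hcomm (hmem hv) hv
  have m2 : ∀ v ∈ X.Vp e, u2 v ∈ X.Vp e ∧ ω * u2 v * ω = u2 v := by
    intro v hv
    have hy : v * (ω * v * ω⁻¹)⁻¹ ∈ X.Vp e := mul_mem hv (inv_mem (hmem hv))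
    refine ⟨by have := hmem (g := τ⁻¹) hy; rwa [inv_inv] at this, ?_⟩
    set y := v * (ω * v * ω⁻¹)⁻¹ with hy'
    have hωy : ω * y * ω = y⁻¹ := by
      rw [hy']
      calc ω * (v * (ω * v * ω⁻¹)⁻¹) * ω = (ω * v * ω⁻¹) * (ω * ω) * v⁻¹ * (ω⁻¹ * ω) := by group
        _ = (ω * v * ω⁻¹) * v⁻¹ := by rw [hωω]; group
        _ = _ := by rw [mul_inv_rev, inv_inv]
    have hζy : ζ * y⁻¹ * ζ⁻¹ = y := by rw [hζ, X.V_inv (inv_mem hy.1), inv_inv]
    have h1 : ω * τ⁻¹ = τ⁻¹ * (ζ * ω) := by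
      calc ω * τ⁻¹ = τ⁻¹ * (τ * ω) * τ⁻¹ := by group
        _ = _ := by rw [hτω]; group
    have h2 : τ * ω = ζ * ω * τ := hτω
    calc ω * (τ⁻¹ * y * τ) * ω = (ω * τ⁻¹) * y * (τ * ω) := by group
      _ = τ⁻¹ * (ζ * ω) * y * (ω * ζ * τ) := by rw [h1, h2, hωζ]
      _ = τ⁻¹ * (ζ * (ω * y * ω) * ζ⁻¹) * τ := by rw [hζi]; group
      _ = τ⁻¹ * y * τ := by rw [hωy, hζy]
  choose f1 hf1 hq1 using fun v : X.Vp e => X.exists_W (m1 v v.2).1 (m1 v v.2).2
  choose f2 hf2 hq2 using fun v : X.Vp e => X.exists_W (m2 v v.2).1 (m2 v v.2).2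
  rw [← Nat.card_prod]
  refine Nat.card_le_card_of_injective
    (fun v => ((⟨_, hf1 v⟩ : X.W e), (⟨_, hf2 v⟩ : X.W e))) fun v v' h => ?_
  obtain ⟨e1, e2⟩ := Prod.mk.inj h
  have g1 : f1 v = f1 v' := Subtype.ext (congrArg (fun x : ↥(X.W e) => (x : G)) e1)
  have g2 : f2 v = f2 v' := Subtype.ext (congrArg (fun x : ↥(X.W e) => (x : G)) e2)
  have e1' : u1 v = u1 v' := by rw [← hq1 v, ← hq1 v', g1]
  have e2' : u2 v = u2 v' := by rw [← hq2 v, ← hq2 v', g2]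
  have sq : ∀ w : X.Vp e, u1 w * (τ * u2 w * τ⁻¹) = (w : X.Q) * w := fun w => by
    show (w : X.Q) * (ω * w * ω⁻¹) * (τ * (τ⁻¹ * ((w : X.Q) * (ω * w * ω⁻¹)⁻¹) * τ) * τ⁻¹) = _
    rw [show τ * (τ⁻¹ * ((w : X.Q) * (ω * w * ω⁻¹)⁻¹) * τ) * τ⁻¹ = (w : X.Q) * (ω * w * ω⁻¹)⁻¹ by group,
      hcomm w.2 (inv_mem (hmem w.2))]
    group
  have h2 : (v : X.Q) * v = (v' : X.Q) * v' := by rw [← sq, ← sq, e1', e2']
  obtain ⟨m, rfl⟩ := he
  have hroot : ∀ w : X.Vp (2 * m + 1), (w : X.Q) = ((w : X.Q) * w) ^ (m + 1) := fun w => by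
    rw [← pow_two, ← pow_mul, show 2 * (m + 1) = 2 * m + 1 + 1 by omega, pow_succ, w.2.2, one_mul]
  exact Subtype.ext (by rw [hroot v, hroot v', h2])

end Ctx

end CfsgLib.Invol.AltDoubleCover
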