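import Cfsg.Agent.Lib.Invol.AltDoubleCover.Local
import Cfsg.Agent.Lib.Invol.AltDoubleCover.Elementary

/-!
# The case of a trivial odd core is impossible
-/

set_option autoImplicit false
set_option maxRecDepth 100000

namespace CfsgLib.Invol.AltDoubleCover

open Equiv Subgroup

/-- An involution moving eight points cannot commute with an element of order three with odd support. -/
theorem no_commute_odd_support {n : ℕ} (h10 : n ≤ 10) {σ τ : Perm (Fin n)} (hσ : σ * σ = 1) (hc : σ * τ = τ * σ)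
    (h3 : τ ^ 3 = 1) (hodd : Odd τ.support.card) (h8 : σ.support.card = 8) : False := by
  classical
  have hc' : ∀ i, σ (τ i) = τ (σ i) := fun i => by rw [← Perm.mul_apply, hc, Perm.mul_apply]
  have hs : ∀ i, σ i ∈ τ.support ↔ i ∈ τ.support := fun i => by
    rw [Perm.mem_support, Perm.mem_support, ← hc']
    exact σ.injective.ne_iff
  obtain ⟨i, hi, hfix⟩ : ∃ i ∈ τ.support, σ i = i := by
    by_contra hno
    push Not at hno
    let σ' : Perm {i // i ∈ τ.support} := σ.subtypePerm hs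
    have hall : σ'.support = Finset.univ := Finset.eq_univ_of_forall fun i => Perm.mem_support.2 fun e =>
      hno i.1 i.2 (congrArg Subtype.val e)
    have h2 := Perm.two_dvd_card_support (σ := σ') (by
      rw [pow_two]; exact Equiv.ext fun i => Subtype.ext (congrArg (fun g : Perm (Fin n) => g i.1) hσ))
    rw [hall, Finset.card_univ, Fintype.card_coe] at h2
    exact Nat.two_dvd_ne_zero.2 (Nat.odd_iff.1 hodd) h2
  have h333 : τ (τ (τ i)) = i := by
    have h := congrArg (fun g : Perm (Fin n) => g i) h3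
    simpa [pow_succ, Perm.mul_apply] using h
  have hne : τ i ≠ i := Perm.mem_support.1 hi
  have hne2 : τ (τ i) ≠ i := fun e => hne (by
    calc τ i = τ (τ (τ i)) := by rw [e]
      _ = i := h333)
  have hne3 : τ (τ i) ≠ τ i := fun e => hne (τ.injective e)
  have f1 : σ (τ i) = τ i := by rw [hc', hfix]
  have f2 : σ (τ (τ i)) = τ (τ i) := by rw [hc', f1]
  have hsub : σ.support ⊆ ({i, τ i, τ (τ i)} : Finset (Fin n))ᶜ := fun l hl => by
    rw [Perm.mem_support] at hl
    simp only [Finset.mem_compl, Finset.mem_insert, Finset.mem_singleton, not_or]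
    exact ⟨fun e => hl (e ▸ hfix), fun e => hl (e ▸ f1), fun e => hl (e ▸ f2)⟩
  have := Finset.card_le_card hsub
  rw [Finset.card_compl, Fintype.card_fin, Finset.card_eq_three.2 ⟨_, _, _, hne.symm, hne2.symm, hne3.symm, rfl⟩,
    h8] at this
  omega

namespace Ctx

variable {G : Type*} [Group G] [Finite G] {n : ℕ} (X : Ctx G n)

/-- An element of order three of the centralizer with a four group in its centralizer moves six points. -/
theorem odd_support_false {x : ↥X.C} (hx : x ^ 3 = 1) (hodd : Odd (X.D.π x).support.card) {u v : G}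
    (hu : u * u = 1) (hv : v * v = 1) (hu1 : u ≠ 1) (hv1 : v ≠ 1) (huv : u ≠ v) (huvc : u * v = v * u)
    (hux : u * x = x * u) (hvx : v * x = x * v) : False := by
  classical
  haveI : Fact (Nat.Prime 2) := ⟨Nat.prime_two⟩
  have hone : ∀ t : G, t * t = 1 → t ≠ 1 → t ∈ X.C → t * x = x * t → t = X.z := by
    intro t ht t1 htC htx
    by_contra htz
    have hπ : X.D.π ⟨t, htC⟩ ≠ 1 := fun h => by
      rcases X.cases_one h with e | e
      · exact t1 e
      · exact htz e
    obtain ⟨j, hj, hcard⟩ := X.D.invol_support (c := ⟨t, htC⟩) (Subtype.ext ht) hπ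
    have hle : (X.D.π ⟨t, htC⟩).support.card ≤ n := (Finset.card_le_univ _).trans (by rw [Fintype.card_fin])
    have := X.h10
    refine no_commute_odd_support X.h10 ?_ ?_ ?_ hodd (by omega : (X.D.π ⟨t, htC⟩).support.card = 8)
    · rw [← map_mul, show (⟨t, htC⟩ : ↥X.C) * ⟨t, htC⟩ = 1 from Subtype.ext ht, map_one]
    · rw [← map_mul, ← map_mul]; exact congrArg _ (Subtype.ext htx)
    · rw [← map_pow, hx, map_one]
  set H : Subgroup G := centralizer ({(x : G)} : Set G)
  have hzH : X.z ∈ H := mem_centralizer_singleton_iff.2 (X.mem_C.1 x.2).symm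
  let zH : H := ⟨X.z, hzH⟩
  have hz2 : orderOf zH = 2 := by rw [← Subgroup.orderOf_coe]; exact X.hz
  obtain ⟨P, hP⟩ := (IsPGroup.of_card (p := 2) (n := 1)
    (show Nat.card (zpowers zH) = 2 ^ 1 by rw [Nat.card_zpowers, hz2]; rfl)).exists_le_sylow
  haveI : Nontrivial P := (Subgroup.nontrivial_iff_exists_ne_one _).2 ⟨zH, hP (mem_zpowers _), fun h => by
    rw [h, orderOf_one] at hz2; norm_num at hz2⟩
  haveI : Nontrivial (center P) := P.2.center_nontrivial
  obtain ⟨t, ht⟩ : ∃ t : center P, orderOf t = 2 := exists_prime_orderOf_dvd_card' 2 (by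
    obtain ⟨k, hk⟩ := (P.2.to_subgroup (center P)).exists_card_eq
    rw [hk]
    refine dvd_pow_self 2 fun h0 => ?_
    rw [h0, pow_zero] at hk
    have := Finite.one_lt_card (α := center P)
    omega)
  have htc : ∀ y : P, y * (t : P) = (t : P) * y := fun y => mem_center_iff.1 t.2 y
  have ht2 : orderOf (((t : P) : H) : G) = 2 := by
    rw [Subgroup.orderOf_coe, Subgroup.orderOf_coe, Subgroup.orderOf_coe, ht]
  have htz : (((t : P) : H) : G) = X.z := by
    refine hone _ (invol_mul_self ht2) (invol_iff.1 ht2).2 (X.mem_C.2 ?_)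
      (mem_centralizer_singleton_iff.1 ((t : P) : H).2)
    exact congrArg (fun y : P => ((y : H) : G)) (htc ⟨zH, hP (mem_zpowers _)⟩).symm
  have hPC : ∀ y ∈ P, (y : G) ∈ X.C := fun y hy => X.mem_C.2 (by
    rw [← htz]; exact congrArg (fun w : P => ((w : H) : G)) (htc ⟨y, hy⟩))
  let uH : H := ⟨u, mem_centralizer_singleton_iff.2 hux⟩
  let vH : H := ⟨v, mem_centralizer_singleton_iff.2 hvx⟩
  have su : uH * uH = 1 := Subtype.ext hu
  have sv : vH * vH = 1 := Subtype.ext hv
  have suv : uH * vH = vH * uH := Subtype.ext huvc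
  have iu : uH⁻¹ = uH := inv_eq_of_mul_eq_one_right su
  have iv : vH⁻¹ = vH := inv_eq_of_mul_eq_one_right sv
  let K : Subgroup H :=
    { carrier := {y | y = 1 ∨ y = uH ∨ y = vH ∨ y = uH * vH}
      one_mem' := Or.inl rfl
      mul_mem' := by
        have q1 : uH * (uH * vH) = vH := by rw [← mul_assoc, su, one_mul]
        have q2 : vH * uH = uH * vH := suv.symm
        have q3 : vH * (uH * vH) = uH := by rw [← mul_assoc, q2, mul_assoc, sv, mul_one]
        have q4 : uH * vH * uH = vH := by rw [mul_assoc, q2, q1]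
        have q5 : uH * vH * vH = uH := by rw [mul_assoc, sv, mul_one]
        have q6 : uH * vH * (uH * vH) = 1 := by rw [← mul_assoc, q4, sv]
        rintro a b (rfl | rfl | rfl | rfl) (rfl | rfl | rfl | rfl) <;>
          simp only [Set.mem_setOf_eq, one_mul, mul_one, su, sv, q1, q2, q3, q4, q5, q6, true_or, or_true]
      inv_mem' := by
        rintro a (rfl | rfl | rfl | rfl) <;>
          simp only [Set.mem_setOf_eq, inv_one, iu, iv, mul_inv_rev, ← suv, true_or, or_true] }
  have hK : IsPGroup 2 K := fun y => ⟨1, Subtype.ext (by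
    rw [pow_one, Subgroup.coe_pow, pow_two]
    rcases y.2 with h | h | h | h <;> rw [h]
    · exact one_mul 1
    · exact su
    · exact sv
    · calc uH * vH * (uH * vH) = uH * (vH * uH) * vH := by group
        _ = (uH * uH) * (vH * vH) := by rw [← suv]; group
        _ = 1 := by rw [su, sv, one_mul])⟩
  obtain ⟨Q, hQ⟩ := hK.exists_le_sylow
  obtain ⟨g, hg⟩ := MulAction.exists_smul_eq H Q P
  have hgm : ∀ y ∈ K, g * y * g⁻¹ ∈ P := fun y hy => by
    have : (Q : Subgroup H).map (MulAut.conj g).toMonoidHom = P := congrArg Sylow.toSubgroup hg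
    exact this.le ⟨y, hQ hy, rfl⟩
  have key : ∀ y : H, y ∈ K → y * y = 1 → y ≠ 1 → g * y * g⁻¹ = zH := fun y hy hyy hy1 => by
    refine Subtype.ext (hone _ ?_ ?_ (hPC _ (hgm y hy)) (mem_centralizer_singleton_iff.1 (g * y * g⁻¹).2))
    · rw [← Subgroup.coe_mul, show g * y * g⁻¹ * (g * y * g⁻¹) = g * (y * y) * g⁻¹ by group, hyy]
      simp
    · intro h
      refine hy1 ?_
      have h' : g * y * g⁻¹ = 1 := Subtype.ext h
      calc y = g⁻¹ * (g * y * g⁻¹) * g := by group
        _ = 1 := by rw [h']; group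
  have := (key uH (Or.inr (Or.inl rfl)) su fun h => hu1 (congrArg Subtype.val h)).trans
    (key vH (Or.inr (Or.inr (Or.inl rfl))) sv fun h => hv1 (congrArg Subtype.val h)).symm
  exact huv (congrArg Subtype.val (mul_left_cancel (mul_right_cancel this)))

/-- The odd core cannot be the lifted 3-cycle alone. -/
theorem no_trivial_core (hO : X.O = zpowers (X.a : G)) : False := by
  classical
  haveI : Fact (Nat.Prime 3) := ⟨Nat.prime_three⟩
  have h9 := X.h9
  have h10 := X.h10
  have hCa : X.Ca ≤ X.C := fun x hx => by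
    obtain ⟨o, ho, c, hc, -, rfl⟩ := X.Ca_decomp hx
    rw [hO] at ho
    exact mul_mem (zpowers_le.2 X.a.2 ho) hc
  -- the Sylow subgroup
  set S0 : Subgroup ↥X.C := (sylGrp X.h9).comap X.D.π
  have hS0 : Nat.card S0 = 162 := by
    rw [X.card_comap _ (by rintro _ ⟨v, rfl⟩; rw [sign_emb, syl_sign]), card_sylGrp]
  obtain ⟨P0⟩ : Nonempty (Sylow 3 S0) := inferInstance
  set P : Subgroup ↥X.C := (P0 : Subgroup S0).map S0.subtype
  have hP81 : Nat.card P = 81 := by
    rw [← Nat.card_congr (Subgroup.equivMapOfInjective _ _ S0.subtype_injective).toEquiv, P0.card_eq_multiplicity,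
      hS0, show (162 : ℕ) = 3 ^ 4 * 2 from rfl, Nat.factorization_mul (by norm_num) (by norm_num), Finsupp.add_apply,
      Nat.Prime.factorization_pow Nat.prime_three, Finsupp.single_eq_same,
      Nat.factorization_eq_zero_of_not_dvd (by norm_num)]; rfl
  have hPpow : ∀ p ∈ P, p ^ 81 = 1 := fun p hp => by
    have := congrArg Subtype.val (pow_card_eq_one' (G := P) (x := ⟨p, hp⟩))
    rw [hP81] at this
    exact this
  have hPinj : ∀ p ∈ P, ∀ q ∈ P, X.D.π p = X.D.π q → p = q := fun p hp q hq =>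
    X.D.eq_of_odd (r := 81) (by decide) (hPpow p hp) (hPpow q hq)
  have hPimg : P.map X.D.π = sylGrp X.h9 := by
    refine eq_of_le_of_card_ge (by rintro _ ⟨_, ⟨p, -, rfl⟩, rfl⟩; exact p.2) ?_
    rw [card_sylGrp, ← hP81]
    exact Nat.card_le_card_of_injective (fun p : P => (⟨X.D.π p, p, p.2, rfl⟩ : P.map X.D.π))
      fun p q e => Subtype.ext (hPinj p p.2 q q.2 (congrArg Subtype.val e))
  set PG : Subgroup G := P.map X.C.subtype
  have hPG81 : Nat.card PG = 81 := by
    rw [← Nat.card_congr (Subgroup.equivMapOfInjective _ _ X.C.subtype_injective).toEquiv, hP81]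
  -- the large abelian subgroup
  have hbase : ∀ a b c : Fin 3, ∃ p ∈ P, X.D.π p = X.ι (syl (a, b, c, 0)) := fun a b c => by
    obtain ⟨p, hp, e⟩ := hPimg.ge (⟨(a, b, c, 0), rfl⟩ : X.ι (syl (a, b, c, 0)) ∈ sylGrp X.h9)
    exact ⟨p, hp, e⟩
  choose bp hbp hbπ using hbase
  have hbinj : Function.Injective fun t : Fin 3 × Fin 3 × Fin 3 => bp t.1 t.2.1 t.2.2 := fun t t' e => by
    have h := congrArg X.D.π e
    simp only [hbπ] at h
    have := syl_injective (emb_injective X.h9 h)
    simp only [Prod.mk.injEq] at this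
    exact Prod.ext this.1 (Prod.ext this.2.1 this.2.2.1)
  have hbcomm : ∀ t t' : Fin 3 × Fin 3 × Fin 3,
      bp t.1 t.2.1 t.2.2 * bp t'.1 t'.2.1 t'.2.2 = bp t'.1 t'.2.1 t'.2.2 * bp t.1 t.2.1 t.2.2 := fun t t' => by
    refine X.D.commute_odd (r := 81) (by decide) (hPpow _ (hbp _ _ _)) ?_
    rw [hbπ, hbπ, ← map_mul, ← map_mul, syl_mul, syl_mul]
    refine congrArg _ (congrArg syl ?_)
    have key : ∀ a b c a' b' c' : Fin 3,
        sylMul (a, b, c, 0) (a', b', c', 0) = sylMul (a', b', c', 0) (a, b, c, 0) := by decide +kernel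
    exact key _ _ _ _ _ _
  set A0 : Set G := Set.range fun t : Fin 3 × Fin 3 × Fin 3 => (bp t.1 t.2.1 t.2.2 : G)
  have haA0 : (X.a : G) ∈ A0 := by
    refine ⟨(1, 0, 0), congrArg Subtype.val ?_⟩
    refine X.D.eq_of_odd (r := 81) (by decide) (hPpow _ (hbp _ _ _))
      (by rw [show 81 = 3 * 27 from rfl, pow_mul, X.a_cube, one_pow]) ?_
    rw [hbπ, X.π_a, show syl (1, 0, 0, 0) = cA by decide +kernel]
  -- conjugates of it inside the Sylow subgroup
  have hA0conj : ∀ y : G, (∀ p ∈ PG, y * p * y⁻¹ ∈ PG) → ∀ x ∈ A0, y * x * y⁻¹ ∈ A0 := by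
    intro y hy
    let W : Subgroup G := (closure A0).map (MulAut.conj y).toMonoidHom
    have hA0P : A0 ⊆ PG := by rintro _ ⟨t, rfl⟩; exact ⟨_, hbp _ _ _, rfl⟩
    have hWP : W ≤ PG := by
      rintro _ ⟨x, hx, rfl⟩
      exact hy x ((closure_le PG).2 hA0P hx)
    have hcl : ∀ x ∈ closure A0, ∀ x' ∈ closure A0, x * x' = x' * x := by
      have h1 : closure A0 ≤ centralizer A0 := (closure_le _).2 (by
        rintro _ ⟨t, rfl⟩ _ ⟨t', rfl⟩
        exact congrArg Subtype.val (hbcomm t' t))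
      intro x hx x' hx'
      exact (closure_le (centralizer {x})).2 (fun w hw => mem_centralizer_singleton_iff.2
        (mem_centralizer_iff.1 (h1 hx) w hw)) hx' |> mem_centralizer_singleton_iff.1 |>.symm
    set W' := (W.subgroupOf X.C).map X.D.π
    have hWC : ∀ x ∈ A0, y * x * y⁻¹ ∈ X.C := fun x hx => map_subtype_le _ (hy x (hA0P hx))
    have hW'le : W' ≤ sylGrp X.h9 := by
      rintro _ ⟨c, hc, rfl⟩
      obtain ⟨p, hp, e⟩ := hWP (mem_subgroupOf.1 hc)
      rw [show c = p from Subtype.ext e.symm, ← hPimg]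
      exact ⟨p, hp, rfl⟩
    have hW'ab : ∀ u ∈ W', ∀ v ∈ W', u * v = v * u := by
      rintro _ ⟨c, hc, rfl⟩ _ ⟨d, hd, rfl⟩
      rw [← map_mul, ← map_mul]
      refine congrArg _ (Subtype.ext ?_)
      obtain ⟨x, hx, e⟩ := mem_subgroupOf.1 hc
      obtain ⟨x', hx', e'⟩ := mem_subgroupOf.1 hd
      show (c : G) * d = d * c
      rw [← e, ← e', ← map_mul, ← map_mul, hcl x hx x' hx']
    have hW'card : 27 ≤ Nat.card W' := by
      have hmem : ∀ t : Fin 3 × Fin 3 × Fin 3,
          X.D.π ⟨_, hWC _ ⟨t, rfl⟩⟩ ∈ W' := fun t =>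
        ⟨_, mem_subgroupOf.2 ⟨_, subset_closure ⟨t, rfl⟩, rfl⟩, rfl⟩
      have h27 : Nat.card (Fin 3 × Fin 3 × Fin 3) = 27 := by simp [Nat.card_eq_fintype_card]
      rw [← h27]
      refine Nat.card_le_card_of_injective (fun t => (⟨_, hmem t⟩ : W')) fun t t' e => hbinj (Subtype.ext ?_)
      obtain ⟨p, hp, ep⟩ := hy _ (hA0P ⟨t, rfl⟩)
      obtain ⟨p', hp', ep'⟩ := hy _ (hA0P ⟨t', rfl⟩)
      have h1 := congrArg Subtype.val e
      simp only at h1
      rw [show (⟨_, hWC _ ⟨t, rfl⟩⟩ : ↥X.C) = p from Subtype.ext ep.symm,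
        show (⟨_, hWC _ ⟨t', rfl⟩⟩ : ↥X.C) = p' from Subtype.ext ep'.symm] at h1
      have h2 := congrArg (fun q : ↥X.C => (q : G)) (hPinj p hp p' hp' h1)
      change (p : G) = (p' : G) at h2
      change (p : G) = _ at ep
      change (p' : G) = _ at ep'
      rw [ep, ep'] at h2
      exact mul_left_cancel (mul_right_cancel h2)
    rintro x hx
    obtain ⟨p, hp, ep⟩ := hy x (hA0P hx)
    obtain ⟨a, b, c, he⟩ := abelian_large X.h9 W' hW'le hW'ab (by omega) (X.D.π p)
      ⟨p, mem_subgroupOf.2 ⟨x, subset_closure hx, ep.symm⟩, rfl⟩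
    rw [← hbπ] at he
    exact ⟨(a, b, c), (congrArg Subtype.val (hPinj p hp _ (hbp _ _ _) he)).symm.trans ep⟩
  -- it is a Sylow subgroup of the group
  obtain ⟨Q, hQ⟩ := (IsPGroup.of_card (p := 3) (n := 4) (show Nat.card PG = 3 ^ 4 by rw [hPG81]; rfl)).exists_le_sylow
  have hQeq : (Q : Subgroup G) = PG := by
    by_contra hne
    have hlt : PG.subgroupOf (Q : Subgroup G) < ⊤ := lt_top_iff_ne_top.2 fun h => hne
      (le_antisymm (subgroupOf_eq_top.1 h) hQ)
    haveI : Group.IsNilpotent (Q : Subgroup G) := Q.2.isNilpotent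
    have := Group.normalizerCondition_of_isNilpotent _ hlt
    obtain ⟨y, hy, hyn⟩ := SetLike.exists_of_lt this
    have hyP : ∀ p ∈ PG, (y : G) * p * (y : G)⁻¹ ∈ PG := fun p hp =>
      (mem_normalizer_iff.1 hy ⟨p, hQ hp⟩).1 hp
    have hzc : (y : G) * X.z * (y : G)⁻¹ = X.z := by
      have hcent : ∀ x ∈ A0, (y : G) * X.z * (y : G)⁻¹ * x = x * ((y : G) * X.z * (y : G)⁻¹) := by
        intro x hx
        have hyi : ∀ p ∈ PG, (y : G)⁻¹ * p * (y : G)⁻¹⁻¹ ∈ PG := fun p hp => by
          rw [inv_inv]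
          exact (mem_normalizer_iff''.1 hy ⟨p, hQ hp⟩).1 hp
        have h1 : (y : G)⁻¹ * x * (y : G) ∈ A0 := by
          have := hA0conj (y : G)⁻¹ hyi x hx
          rwa [inv_inv] at this
        obtain ⟨t, ht⟩ := h1
        have hzc' : (y : G)⁻¹ * x * y * X.z = X.z * ((y : G)⁻¹ * x * y) := by
          rw [← ht]; exact X.mem_C.1 (bp t.1 t.2.1 t.2.2).2
        calc (y : G) * X.z * (y : G)⁻¹ * x = y * (X.z * ((y : G)⁻¹ * x * y)) * (y : G)⁻¹ := by group
          _ = y * ((y : G)⁻¹ * x * y * X.z) * (y : G)⁻¹ := by rw [hzc']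
          _ = x * (y * X.z * (y : G)⁻¹) := by group
      have h2 := invol_conj X.hz (y : G)
      have hCa' : (y : G) * X.z * (y : G)⁻¹ ∈ X.Ca := X.mem_Ca.2 (hcent _ haA0)
      exact X.invol_Ca (invol_mul_self h2) (hCa hCa') hCa' (invol_iff.1 h2).2
    have hyC : (y : G) ∈ X.C := X.mem_C.2 (mul_inv_eq_iff_eq_mul.1 hzc)
    set K := (Q : Subgroup G) ⊓ X.C
    have hK : 243 ≤ Nat.card K := by
      have hsub : PG ≤ K := le_inf hQ (map_subtype_le _)
      obtain ⟨k, hk⟩ := (Q.2.to_le (inf_le_left : K ≤ Q)).exists_card_eq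
      have hne' : Nat.card K ≠ 81 := fun h => hyn (by
        have e := eq_of_le_of_card_ge hsub (by rw [h, hPG81])
        exact mem_subgroupOf.2 (e ▸ ⟨y.2, hyC⟩ : (y : G) ∈ PG))
      have h81 : 81 ≤ Nat.card K := hPG81 ▸ Nat.le_of_dvd Nat.card_pos (card_dvd_of_le hsub)
      rw [hk] at hne' h81 ⊢
      have : 5 ≤ k := by
        by_contra hk5
        interval_cases k <;> simp_all
      calc 243 = 3 ^ 5 := by norm_num
        _ ≤ 3 ^ k := Nat.pow_le_pow_right (by norm_num) this
    let f : K →* Perm (Fin n) := X.D.π.comp (Subgroup.inclusion inf_le_right)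
    have hfinj : Function.Injective f := by
      rw [injective_iff_map_eq_one]
      intro x hx
      obtain ⟨k, hk⟩ := Q.2 ⟨x, x.2.1⟩
      exact Subtype.ext (X.eq_one_of_odd (r := 3 ^ k) (by exact (by decide : Odd 3).pow)
        (congrArg Subtype.val hk) _ hx)
    have hd : Nat.card K ∣ n.factorial := by
      have := f.range.card_subgroup_dvd_card
      rwa [Nat.card_perm, Nat.card_fin, ← Nat.card_congr (MonoidHom.ofInjective hfinj).toEquiv] at this
    obtain ⟨k, hk⟩ := (Q.2.to_le (inf_le_left : K ≤ Q)).exists_card_eq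
    rw [hk] at hd hK
    have : 5 ≤ k := by
      by_contra hk5
      interval_cases k <;> omega
    have := (pow_dvd_pow 3 this).trans hd
    rcases (show n = 9 ∨ n = 10 by omega) with rfl | rfl <;> (revert this; decide)
  -- the group of order nine
  have hN3 : (Nat.card X.NE).factorization 3 = 2 := by
    rw [X.card_NE, show (40320 : ℕ) = 3 ^ 2 * 4480 from rfl, Nat.factorization_mul (by norm_num) (by norm_num),
      Finsupp.add_apply, Nat.Prime.factorization_pow Nat.prime_three, Finsupp.single_eq_same,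
      Nat.factorization_eq_zero_of_not_dvd (by norm_num)]
  obtain ⟨R⟩ : Nonempty (Sylow 3 X.NE) := inferInstance
  have hR : Nat.card R = 9 := by rw [R.card_eq_multiplicity, hN3]; rfl
  obtain ⟨Q', hQ'⟩ := (R.2.map X.NE.subtype).exists_le_sylow
  obtain ⟨g, hg⟩ := MulAction.exists_smul_eq G Q' Q
  have hgm : ∀ r : R, g * ((r : ↥X.NE) : G) * g⁻¹ ∈ PG := fun r => by
    have : (Q' : Subgroup G).map (MulAut.conj g).toMonoidHom = PG := (congrArg Sylow.toSubgroup hg).trans hQeq
    exact this.le ⟨_, hQ' ⟨_, r.2, rfl⟩, rfl⟩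
  choose img himg hval using hgm
  have hmul : ∀ r r' : R, img (r * r') = img r * img r' := fun r r' => Subtype.ext (by
    have h1 : ((img (r * r') : ↥X.C) : G) = _ := hval (r * r')
    have h2 : ((img r : ↥X.C) : G) = _ := hval r
    have h3 : ((img r' : ↥X.C) : G) = _ := hval r'
    show ((img (r * r') : ↥X.C) : G) = ((img r : ↥X.C) : G) * ((img r' : ↥X.C) : G)
    rw [h1, h2, h3]
    show g * (((r : ↥X.NE) : G) * ((r' : ↥X.NE) : G)) * g⁻¹ = _
    group)
  have hsix : ∀ r : R, r ^ 3 = 1 → r ≠ 1 → (X.D.π (img r)).support.card = 6 := by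
    intro r hr hr1
    have hne : X.D.π (img r) ≠ 1 := fun h => hr1 (by
      have h1 := hPinj _ (himg r) 1 (one_mem _) (by rw [h, map_one])
      have h2 : g * ((r : ↥X.NE) : G) * g⁻¹ = 1 := (hval r).symm.trans (by rw [h1]; rfl)
      exact Subtype.ext (Subtype.ext (show ((r : ↥X.NE) : G) = 1 by
        calc ((r : ↥X.NE) : G) = g⁻¹ * (g * ((r : ↥X.NE) : G) * g⁻¹) * g := by group
          _ = 1 := by rw [h2]; group)))
    obtain ⟨v, hv⟩ := mem_sylGrp.1 (hPimg.le (⟨_, himg r, rfl⟩ : X.D.π (img r) ∈ P.map X.D.π))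
    have hcard : (X.D.π (img r)).support.card = 3 ∨ (X.D.π (img r)).support.card = 6 ∨
        (X.D.π (img r)).support.card = 9 := by
      rw [← hv, card_support_emb]
      exact (syl_support v).resolve_left fun h => hne (by rw [← hv, h, map_one])
    have hr3 : ((r : ↥X.NE) : G) ^ 3 = 1 := congrArg (fun r : R => ((r : ↥X.NE) : G)) hr
    obtain ⟨u, w, hu, hw, hu1, hw1, huw, huwc, hux, hwx⟩ := X.four_cent (r : ↥X.NE).2 hr3
      fun h => hr1 (Subtype.ext (Subtype.ext h))
    rcases hcard with h | h | h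
    rotate_left
    · exact h
    all_goals
      exfalso
      have hval' : ((img r : ↥X.C) : G) = g * ((r : ↥X.NE) : G) * g⁻¹ := hval r
      refine X.odd_support_false (x := img r) (u := g * u * g⁻¹) (v := g * w * g⁻¹) (Subtype.ext ?_)
        (by rw [h]; decide) ?_ ?_ ?_ ?_ ?_ ?_ ?_ ?_
      · rw [Subgroup.coe_pow, hval', conj_pow, hr3, mul_one, mul_inv_cancel]; rfl
      · rw [show g * u * g⁻¹ * (g * u * g⁻¹) = g * (u * u) * g⁻¹ by group, hu, mul_one, mul_inv_cancel]
      · rw [show g * w * g⁻¹ * (g * w * g⁻¹) = g * (w * w) * g⁻¹ by group, hw, mul_one, mul_inv_cancel]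
      · exact fun e => hu1 (by rwa [mul_inv_eq_one, mul_eq_left] at e)
      · exact fun e => hw1 (by rwa [mul_inv_eq_one, mul_eq_left] at e)
      · exact fun e => huw (mul_left_cancel (mul_right_cancel e))
      · rw [show g * u * g⁻¹ * (g * w * g⁻¹) = g * (u * w) * g⁻¹ by group, huwc]; group
      · rw [hval', show g * u * g⁻¹ * (g * ((r : ↥X.NE) : G) * g⁻¹) = g * (u * ((r : ↥X.NE) : G)) * g⁻¹ by group, hux]
        group
      · rw [hval', show g * w * g⁻¹ * (g * ((r : ↥X.NE) : G) * g⁻¹) = g * (w * ((r : ↥X.NE) : G)) * g⁻¹ by group, hwx]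
        group
  have hsyl : ∀ r : R, ∃ v, X.D.π (img r) = X.ι (syl v) := fun r => by
    obtain ⟨v, hv⟩ := mem_sylGrp.1 (hPimg.le (⟨_, himg r, rfl⟩ : X.D.π (img r) ∈ P.map X.D.π))
    exact ⟨v, hv.symm⟩
  choose sv hsv using hsyl
  have svmul : ∀ r r' : R, sv (r * r') = sylMul (sv r) (sv r') := fun r r' =>
    syl_injective (emb_injective X.h9 (by
      show X.ι (syl (sv (r * r'))) = _
      rw [← hsv, hmul, map_mul, hsv, hsv, ← syl_mul, map_mul]))
  have hsix' : ∀ r : R, r ^ 3 = 1 → r ≠ 1 → (syl (sv r)).support.card = 6 := fun r h1 h2 => by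
    have := hsix r h1 h2
    rwa [hsv, card_support_emb] at this
  have hexp : ∀ r : R, r ^ 3 = 1 := by
    intro r
    by_contra hr
    have h9' : (r ^ 3) ^ 3 = 1 := by
      rw [← pow_mul, show 3 * 3 = 9 from rfl, ← hR]; exact pow_card_eq_one'
    have h6 := hsix' _ h9' hr
    rw [pow_succ, pow_two, svmul, svmul] at h6
    have key : ∀ v, (syl (sylMul (sylMul v v) v)).support.card ≠ 6 := by
      have k : ∀ v, moved (sylMul (sylMul v v) v) ≠ 6 := by decide +kernel
      intro v; rw [moved_eq]; exact k v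
    exact key _ h6
  haveI : Fintype R := Fintype.ofFinite R
  haveI : IsMulCommutative R := ⟨⟨IsPGroup.commutative_of_card_eq_prime_sq (p := 3) (G := R) (by rw [hR]; rfl)⟩⟩
  have hFR : Fintype.card R = 9 := by rw [← Nat.card_eq_fintype_card, hR]
  obtain ⟨x, -, hx⟩ := Finset.exists_mem_notMem_of_card_lt_card
    (show ({1} : Finset R).card < (Finset.univ : Finset R).card by
      rw [Finset.card_univ, hFR, Finset.card_singleton]; norm_num)
  obtain ⟨y, -, hy⟩ := Finset.exists_mem_notMem_of_card_lt_card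
    (show ({1, x, x * x} : Finset R).card < (Finset.univ : Finset R).card by
      rw [Finset.card_univ, hFR]; exact Finset.card_le_three.trans_lt (by norm_num))
  simp only [Finset.mem_insert, Finset.mem_singleton, not_or] at hx hy
  obtain ⟨y1, y2, y3⟩ := hy
  have hxy : x * y ≠ 1 := fun h => y3 (by
    rw [eq_comm, ← mul_right_inj x, h, ← mul_assoc, ← pow_two, ← pow_succ]; exact hexp x)
  have hxyy : x * (y * y) ≠ 1 := fun h => y2 (by
    have h1 : x = (y * y)⁻¹ := eq_inv_of_mul_eq_one_left h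
    rw [h1, eq_inv_iff_mul_eq_one, ← mul_assoc, ← pow_two, ← pow_succ]; exact hexp y)
  refine syl_no_six (sv x) (sv y) ?_ (hsix' x (hexp x) hx) (hsix' y (hexp y) y1) ?_ ?_
  · rw [← svmul, ← svmul, mul_comm']
  · rw [← svmul]; exact hsix' _ (hexp _) hxy
  · rw [← svmul, ← svmul]; exact hsix' _ (hexp _) hxyy

end Ctx

end CfsgLib.Invol.AltDoubleCover
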