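import Cfsg.Agent.Lib.Invol.AltDoubleCover.Frame
import Cfsg.Agent.Lib.Invol.AltDoubleCover.Perms

/-!
# Lifts and involutions of the double covers in degree nine and ten
-/

set_option autoImplicit false
set_option maxRecDepth 100000

namespace CfsgLib.Invol.AltDoubleCover

open Equiv Subgroup
open scoped commutatorElement

namespace Cover

variable {C : Type*} [Group C] {n : ℕ} (D : Cover C n)

theorem exists_lift_odd {τ : Perm (Fin n)} (hs : Perm.sign τ = 1) {r : ℕ} (hr : Odd r) (h : τ ^ r = 1) :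
    ∃ c, D.π c = τ ∧ c ^ r = 1 := by
  obtain ⟨c, hc⟩ := D.lift τ hs
  rcases (D.ker (c ^ r)).1 (by rw [map_pow, hc, h]) with e | e
  · exact ⟨c, hc, e⟩
  · refine ⟨D.z * c, by rw [map_mul, D.π_z, one_mul, hc], ?_⟩
    obtain ⟨k, rfl⟩ := hr
    rw [(show Commute D.z c from (D.zc c).symm).mul_pow, e, pow_succ, pow_mul, pow_two, D.zz, one_pow, one_mul, D.zz]

theorem eq_of_odd {c d : C} {r : ℕ} (hr : Odd r) (hc : c ^ r = 1) (hd : d ^ r = 1) (h : D.π c = D.π d) : c = d := by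
  rcases D.eq_or h with e | e
  · exact e
  · exfalso
    rw [e, (show Commute D.z d from (D.zc d).symm).mul_pow, hd, mul_one] at hc
    obtain ⟨k, rfl⟩ := hr
    rw [pow_succ, pow_mul, pow_two, D.zz, one_pow, one_mul] at hc
    exact D.z_ne hc

theorem commute_odd {x d : C} {r : ℕ} (hr : Odd r) (hx : x ^ r = 1) (h : D.π d * D.π x = D.π x * D.π d) :
    d * x = x * d := by
  refine mul_inv_eq_iff_eq_mul.1 (D.eq_of_odd hr (by rw [conj_pow, hx, mul_one, mul_inv_cancel]) hx ?_)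
  rw [map_mul, map_mul, map_inv, h, mul_inv_cancel_right]

end Cover

variable {G : Type*} [Group G] {n : ℕ}

/-- The frame at a conjugate involution. -/
def Frame.move (F : Frame G n) (g t : G) (h : g * F.z * g⁻¹ = t) : Frame G n where
  z := t
  hz := h ▸ invol_conj F.hz g
  simple := F.simple
  D := F.D.comap (centEquiv g F.z t h)
  Dz := by
    show g * (F.D.z : G) * g⁻¹ = t
    rw [F.Dz, h]
  hn := F.hn

/-- A simple group with involution centralizer a double cover of `A₉` or `A₁₀`. -/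
structure Ctx (G : Type*) [Group G] (n : ℕ) extends Frame G n where
  h9 : 9 ≤ n
  h10 : n ≤ 10

namespace Ctx

/-- The centralizer. -/
abbrev C (X : Ctx G n) : Subgroup G := centralizer ({X.z} : Set G)

/-- The embedding of nine points. -/
abbrev ι (X : Ctx G n) : Perm (Fin 9) →* Perm (Fin n) := emb X.h9

/-- The frame at a conjugate involution. -/
def moveTo (X : Ctx G n) (g t : G) (h : g * X.z * g⁻¹ = t) : Ctx G n :=
  { X.toFrame.move g t h with h9 := X.h9, h10 := X.h10 }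

theorem mem_C (X : Ctx G n) {x : G} : x ∈ X.C ↔ x * X.z = X.z * x := mem_centralizer_singleton_iff

theorem zz' (X : Ctx G n) : X.z * X.z = 1 := invol_mul_self X.hz

theorem z_mem (X : Ctx G n) : X.z ∈ X.C := X.mem_C.2 rfl

variable (X : Ctx G n)

theorem Dz_mul (c : ↥X.C) : ((X.D.z * c : ↥X.C) : G) = X.z * (c : G) := by rw [Subgroup.coe_mul, X.Dz]

theorem cases_one {c : ↥X.C} (h : X.D.π c = 1) : (c : G) = 1 ∨ (c : G) = X.z := by
  rcases (X.D.ker c).1 h with e | e
  · exact Or.inl (by rw [e]; rfl)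
  · exact Or.inr (by rw [e, X.Dz])

theorem eq_one_of_odd {x : G} {r : ℕ} (hr : Odd r) (h : x ^ r = 1) (hx : x ∈ X.C) (hπ : X.D.π ⟨x, hx⟩ = 1) :
    x = 1 := by
  rcases X.cases_one hπ with e | e
  · exact e
  · exfalso
    obtain ⟨k, rfl⟩ := hr
    have hz := X.hz
    change x = X.z at e
    rw [e, pow_succ, pow_mul, pow_two, X.zz', one_pow, one_mul] at h
    rw [h, orderOf_one] at hz; norm_num at hz

theorem perm_facts : cA ^ 3 = 1 ∧ Perm.sign cA = 1 ∧ pW * pW = 1 ∧ Perm.sign pW = 1 ∧ pW * cA * pW = cA⁻¹ ∧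
    pW.support.card = 8 ∧ pS * pS = 1 ∧ Perm.sign pS = 1 ∧ pS * cA = cA * pS ∧ pS * pW = pW * pS ∧
    (pS * pW).support.card = 8 ∧ pW * swap 0 1 = swap 0 1 * pW ∧ pW ≠ 1 := by
  refine ⟨by decide +kernel, by decide +kernel, by decide +kernel, by decide +kernel, by decide +kernel,
    by decide +kernel, by decide +kernel, by decide +kernel, by decide +kernel, by decide +kernel, by decide +kernel,
    by decide +kernel, by decide +kernel⟩

theorem pS_dt : IsDT (X.ι pS) := by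
  refine ⟨_, _, _, _, ?_, by rw [pS, map_mul, emb_swap, emb_swap]⟩
  exact List.Nodup.map (Fin.castLE_injective X.h9) (l := [3, 5, 4, 6]) (by decide)

theorem ι_sign {σ : Perm (Fin 9)} (h : Perm.sign σ = 1) : Perm.sign (X.ι σ) = 1 := by rw [sign_emb, h]

/-- The lift of the first triple. -/
noncomputable def a : ↥X.C := (X.D.exists_lift_three (X.ι_sign perm_facts.2.1)
  (by rw [← map_pow, perm_facts.1, map_one])).choose

theorem π_a : X.D.π X.a = X.ι cA := (X.D.exists_lift_three (X.ι_sign perm_facts.2.1)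
  (by rw [← map_pow, perm_facts.1, map_one])).choose_spec.1

theorem a_cube : X.a ^ 3 = 1 := (X.D.exists_lift_three (X.ι_sign perm_facts.2.1)
  (by rw [← map_pow, perm_facts.1, map_one])).choose_spec.2

/-- An involution inverting it. -/
noncomputable def w : ↥X.C := (X.D.lift _ (X.ι_sign perm_facts.2.2.2.1)).choose

theorem π_w : X.D.π X.w = X.ι pW := (X.D.lift _ (X.ι_sign perm_facts.2.2.2.1)).choose_spec

/-- An element of order four exchanging it with its product with the central involution. -/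
noncomputable def s : ↥X.C := (X.D.lift _ (X.ι_sign perm_facts.2.2.2.2.2.2.2.1)).choose

theorem π_s : X.D.π X.s = X.ι pS := (X.D.lift _ (X.ι_sign perm_facts.2.2.2.2.2.2.2.1)).choose_spec

theorem w_sq : X.w * X.w = 1 := by
  rw [X.D.sq_invol 2 X.w (by rw [X.π_w, ← map_mul, perm_facts.2.2.1, map_one])
    (by rw [X.π_w, card_support_emb, perm_facts.2.2.2.2.2.1]), pow_two, X.D.zz]

theorem w_ne : X.D.π X.w ≠ 1 := by
  rw [X.π_w]
  exact fun h => perm_facts.2.2.2.2.2.2.2.2.2.2.2.2 (emb_injective X.h9 (h.trans (map_one _).symm))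

theorem w_inv_a : X.w * X.a * X.w = X.a⁻¹ := by
  have hw : X.w⁻¹ = X.w := inv_eq_of_mul_eq_one_right X.w_sq
  refine X.D.eq_of_odd (r := 3) (by decide) ?_ (by rw [inv_pow, X.a_cube, inv_one]) ?_
  · have e : (X.w * X.a * X.w⁻¹) ^ 3 = 1 := by rw [conj_pow, X.a_cube, mul_one, mul_inv_cancel]
    rwa [hw] at e
  · rw [map_mul, map_mul, map_inv, X.π_w, X.π_a, ← map_mul, ← map_mul, perm_facts.2.2.2.2.1, map_inv]

theorem s_comm_a : X.s * X.a = X.a * X.s :=
  X.D.commute_three X.a_cube (by rw [X.π_s, X.π_a, ← map_mul, perm_facts.2.2.2.2.2.2.2.2.1, map_mul])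

theorem s_conj_w : X.s * X.w * X.s⁻¹ = X.D.z * X.w := by
  have h2 : X.s * X.s = X.D.z := X.D.dt _ (X.π_s ▸ X.pS_dt)
  have hsw : X.s * X.w * (X.s * X.w) = 1 := by
    have e : X.D.π (X.s * X.w) = X.ι (pS * pW) := by rw [map_mul, X.π_s, X.π_w, map_mul]
    have hh : pS * pW * (pS * pW) = 1 := by decide +kernel
    rw [X.D.sq_invol 2 _ (by rw [e, ← map_mul, hh, map_one])
      (by rw [e, card_support_emb, perm_facts.2.2.2.2.2.2.2.2.2.2.1]), pow_two, X.D.zz]
  have hs : X.s⁻¹ = X.s * X.D.z := inv_eq_of_mul_eq_one_right (by rw [← mul_assoc, h2, X.D.zz])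
  have h1 : X.s * X.w * X.s = X.w⁻¹ := eq_inv_of_mul_eq_one_left (by rw [← hsw]; group)
  rw [hs, ← mul_assoc, h1, inv_eq_of_mul_eq_one_right X.w_sq, X.D.zc]

/-- Every involution of the centralizer other than the central one is conjugate there to `w`. -/
theorem exists_conj_w {u : ↥X.C} (hu : u * u = 1) (hπ : X.D.π u ≠ 1) : ∃ c : ↥X.C, c * X.w * c⁻¹ = u := by
  classical
  obtain ⟨j, hj, hcard⟩ := X.D.invol_support hu hπ
  have hle : (X.D.π u).support.card ≤ n := (Finset.card_le_univ _).trans (by rw [Fintype.card_fin])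
  have := X.h10
  obtain rfl : j = 1 := by omega
  have hσ : X.D.π u * X.D.π u = 1 := by rw [← map_mul, hu, map_one]
  have hwσ : X.ι pW * X.ι pW = 1 := by rw [← map_mul, perm_facts.2.2.1, map_one]
  obtain ⟨h1, h2, -⟩ := CfsgLib.Invol.AltCover.invol_cycleType _ hσ
  obtain ⟨h1', h2', -⟩ := CfsgLib.Invol.AltCover.invol_cycleType _ hwσ
  rw [card_support_emb, perm_facts.2.2.2.2.2.1] at h2'
  obtain ⟨f, hf⟩ := isConj_iff.1 (Perm.isConj_iff_cycleType_eq.2
    (show (X.ι pW).cycleType = (X.D.π u).cycleType by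
      rw [h1, h1', show (X.D.π u).cycleType.card = (X.ι pW).cycleType.card by omega]))
  obtain ⟨g, hg, hgu⟩ : ∃ g, Perm.sign g = 1 ∧ g * X.ι pW * g⁻¹ = X.D.π u := by
    rcases Int.units_eq_one_or (Perm.sign f) with hs | hs
    · exact ⟨f, hs, hf⟩
    · refine ⟨f * X.ι (swap 0 1), by rw [map_mul, hs, sign_emb, Perm.sign_swap (by decide)]; decide, ?_⟩
      rw [show f * X.ι (swap 0 1) * X.ι pW * (f * X.ι (swap 0 1))⁻¹ =
          f * (X.ι (swap 0 1) * X.ι pW * (X.ι (swap 0 1))⁻¹) * f⁻¹ by group,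
        ← map_inv, ← map_mul, ← map_mul, ← perm_facts.2.2.2.2.2.2.2.2.2.2.2.1, mul_inv_cancel_right, hf]
  obtain ⟨c, hc⟩ := X.D.lift g hg
  have e : X.D.π (c * X.w * c⁻¹) = X.D.π u := by rw [map_mul, map_mul, map_inv, hc, X.π_w, hgu]
  rcases X.D.eq_or e with h | h
  · exact ⟨c, h⟩
  · refine ⟨c * X.s, ?_⟩
    rw [show c * X.s * X.w * (c * X.s)⁻¹ = c * (X.s * X.w * X.s⁻¹) * c⁻¹ by group, X.s_conj_w,
      ← mul_assoc, X.D.zc, show X.D.z * c * X.w * c⁻¹ = X.D.z * (c * X.w * c⁻¹) by group, h, ← mul_assoc, X.D.zz,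
      one_mul]

/-- Every involution of the centralizer is conjugate in the group to the central one. -/
theorem exists_conj_z [Finite G] {u : G} (hu : u * u = 1) (h1 : u ≠ 1) (hc : u ∈ X.C) :
    ∃ g : G, g * X.z * g⁻¹ = u := by
  by_cases huz : u = X.z
  · exact ⟨1, by rw [huz]; group⟩
  obtain ⟨g, hg1, hg2⟩ := X.toFrame.exists_conj
  have ne : ∀ x : G, ∀ hx : x ∈ X.C, x ≠ 1 → x ≠ X.z → X.D.π ⟨x, hx⟩ ≠ 1 := fun x hx n1 n2 h => by
    rcases X.cases_one h with e | e
    · exact n1 e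
    · exact n2 e
  obtain ⟨c, hc'⟩ := X.exists_conj_w (u := ⟨u, hc⟩) (Subtype.ext hu) (ne u hc h1 huz)
  have ht : g * X.z * g⁻¹ ∈ X.C := X.mem_C.2 hg1.symm
  obtain ⟨d, hd⟩ := X.exists_conj_w (u := ⟨_, ht⟩)
    (Subtype.ext (invol_mul_self (invol_conj X.hz g))) (ne _ ht (invol_iff.1 (invol_conj X.hz g)).2 hg2)
  have hd' : (d : G) * X.w * (d : G)⁻¹ = g * X.z * g⁻¹ := congrArg Subtype.val hd
  have hc'' : (c : G) * X.w * (c : G)⁻¹ = u := congrArg Subtype.val hc'
  refine ⟨(c : G) * (d : G)⁻¹ * g, ?_⟩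
  rw [← hc'', show (c : G) * (d : G)⁻¹ * g * X.z * ((c : G) * (d : G)⁻¹ * g)⁻¹ =
    (c : G) * ((d : G)⁻¹ * (g * X.z * g⁻¹) * d) * (c : G)⁻¹ by group, ← hd']
  group

end Ctx

end CfsgLib.Invol.AltDoubleCover
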